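import Mathlib

/-!
# Invariant complements in elementary abelian sections, by averaging
-/

set_option autoImplicit false
set_option linter.style.haveILetI false

namespace Cfsg.Agent.Perm.PQFix

open scoped commutatorElement

universe v

theorem exists_invariant_complement_section {G : Type v} [Group G] [Finite G] (B T C R : Subgroup G)
    {t : ℕ} (ht : t.Prime) (hBT : B ≤ Subgroup.normalizer (T : Set G))
    (hBR : B ≤ Subgroup.normalizer (R : Set G)) (hCR : C ≤ R) (hRT : R ≤ T)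
    (hBC : B ≤ Subgroup.normalizer (C : Set G)) (hTC : T ≤ Subgroup.normalizer (C : Set G))
    (hcomm : ∀ a ∈ T, ∀ b ∈ T, ⁅a, b⁆ ∈ C) (hexp : ∀ a ∈ T, a ^ t ∈ C)
    (hcop : (Nat.card B).Coprime t) :
    ∃ E : Subgroup G, C ≤ E ∧ E ≤ T ∧ B ≤ Subgroup.normalizer (E : Set G) ∧ E ⊓ R = C ∧
      ∀ a ∈ T, ∃ r ∈ R, r⁻¹ * a ∈ E := by
  classical
  haveI := Fact.mk ht
  haveI : Fintype B := Fintype.ofFinite B
  let NC : Subgroup G := Subgroup.normalizer (C : Set G)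
  let C' : Subgroup NC := C.subgroupOf NC
  haveI : C'.Normal := Subgroup.normal_subgroupOf_of_le_normalizer le_rfl
  let π : NC →* NC ⧸ C' := QuotientGroup.mk' C'
  let M : Subgroup (NC ⧸ C') := (T.subgroupOf NC).map π
  have hπ : ∀ a b : NC, π a = π b ↔ (a : G)⁻¹ * b ∈ C := fun a b => QuotientGroup.eq
  letI : CommGroup M :=
    { (inferInstance : Group M) with
      mul_comm := by
        rintro ⟨-, a, ha, rfl⟩ ⟨-, b, hb, rfl⟩
        refine Subtype.ext ?_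
        show π a * π b = π b * π a
        rw [← map_mul, ← map_mul, hπ]
        have h : ⁅(b : G)⁻¹, (a : G)⁻¹⁆ ∈ C := hcomm _ (inv_mem hb) _ (inv_mem ha)
        rw [commutatorElement_def] at h
        simp only [Subgroup.coe_mul]
        rwa [show ((a : G) * b)⁻¹ * ((b : G) * a) = (b : G)⁻¹ * (a : G)⁻¹ * (b : G)⁻¹⁻¹ * (a : G)⁻¹⁻¹ by
          group] }
  have hexpM : ∀ m : M, m ^ t = 1 := by
    rintro ⟨-, a, ha, rfl⟩
    exact Subtype.ext ((map_pow π a t).symm.trans ((QuotientGroup.eq_one_iff _).2 (hexp _ ha)))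
  let R' : Subgroup M := ((R.subgroupOf NC).map π).subgroupOf M
  letI : Module (ZMod t) (Additive M) :=
    AddCommGroup.zmodModule fun y => hexpM (Additive.toMul y)
  letI : Module (ZMod t) (Additive R') :=
    AddCommGroup.zmodModule fun y => Subtype.ext (hexpM (Additive.toMul y).1)
  obtain ⟨P0, hP0⟩ := LinearMap.exists_leftInverse_of_injective
    ((MonoidHom.toAdditive R'.subtype).toZModLinearMap t)
    (LinearMap.ker_eq_bot.2 fun x y h => Subtype.ext h)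
  let P2 : Additive M →+ Additive R' := P0.toAddMonoidHom
  let P1 : M →* R' :=
    { toFun := fun m => Additive.toMul (P2 (Additive.ofMul m))
      map_one' := congrArg Additive.toMul P2.map_zero
      map_mul' := fun a b => congrArg Additive.toMul (P2.map_add (Additive.ofMul a) (Additive.ofMul b)) }
  let P : M →* M := R'.subtype.comp P1
  have hPR : ∀ m, P m ∈ R' := fun m => (P1 m).2
  have hPfix : ∀ r ∈ R', P r = r := fun r hr =>
    congrArg (fun z => (Additive.toMul z : R').1) (LinearMap.congr_fun hP0 (Additive.ofMul ⟨r, hr⟩))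
  -- the action of `B`
  let bn : B → NC := fun b => ⟨b.1, hBC b.2⟩
  have hconj : ∀ (b : B) (m : M), π (bn b) * m.1 * (π (bn b))⁻¹ ∈ M := by
    rintro b ⟨-, a, ha, rfl⟩
    refine ⟨bn b * a * (bn b)⁻¹, ?_, by rw [map_mul, map_mul, map_inv]⟩
    exact (Subgroup.mem_normalizer_iff.1 (hBT b.2) _).1 ha
  let act : B → M →* M := fun b =>
    { toFun := fun m => ⟨π (bn b) * m.1 * (π (bn b))⁻¹, hconj b m⟩
      map_one' := Subtype.ext (by simp)
      map_mul' := fun m m' => Subtype.ext (by simp only [Subgroup.coe_mul]; group) }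
  have hact : ∀ b c m, act (b * c) m = act b (act c m) := fun b c m => Subtype.ext (by
    show π (bn (b * c)) * m.1 * (π (bn (b * c)))⁻¹ = _
    rw [show bn (b * c) = bn b * bn c from rfl, map_mul]
    show _ = π (bn b) * (π (bn c) * m.1 * (π (bn c))⁻¹) * (π (bn b))⁻¹
    group)
  have hactR : ∀ b, ∀ r ∈ R', act b r ∈ R' := by
    intro b r₀ hr
    obtain ⟨r, hr1, hr2⟩ := (Subgroup.mem_subgroupOf.1 hr : _ ∈ (R.subgroupOf NC).map π)
    refine Subgroup.mem_subgroupOf.2 ⟨bn b * r * (bn b)⁻¹, ?_, ?_⟩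
    · exact (Subgroup.mem_normalizer_iff.1 (hBR b.2) _).1 hr1
    · show _ = π (bn b) * _ * (π (bn b))⁻¹
      rw [map_mul, map_mul, map_inv, hr2]
  let Q : M →* M := ∏ b : B, (act b).comp (P.comp (act b⁻¹))
  have hQ : ∀ m, Q m = ∏ b : B, act b (P (act b⁻¹ m)) := fun m => by
    simp only [Q, MonoidHom.finsetProd_apply]; rfl
  have hQR : ∀ m, Q m ∈ R' := fun m => by
    rw [hQ]; exact Subgroup.prod_mem _ fun b _ => hactR b _ (hPR _)
  have hQfix : ∀ r ∈ R', Q r = r ^ Nat.card B := fun r hr => by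
    rw [hQ, Finset.prod_congr rfl (g := fun _ => r) fun b _ => ?_, Finset.prod_const, Finset.card_univ,
      Nat.card_eq_fintype_card]
    rw [hPfix _ (hactR _ _ hr), ← hact, mul_inv_cancel]
    exact Subtype.ext (by
      show π (bn 1) * r.1 * (π (bn 1))⁻¹ = r.1
      rw [show bn 1 = 1 from rfl, map_one]; simp)
  have hQact : ∀ c m, Q (act c m) = act c (Q m) := fun c m => by
    rw [hQ, hQ, map_prod]
    symm
    refine Fintype.prod_equiv (Equiv.mulLeft c) _ _ fun b => ?_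
    rw [Equiv.coe_mulLeft, ← hact, ← hact, mul_inv_rev, inv_mul_cancel_right]
  obtain ⟨e, he⟩ : ∃ e : ℕ, ∀ m : M, (m ^ Nat.card B) ^ e = m := by
    obtain ⟨e, -, he⟩ := Nat.exists_mul_mod_eq_one_of_coprime hcop ht.one_lt
    exact ⟨e, fun m => by rw [← pow_mul, pow_eq_pow_mod _ (hexpM m), he, pow_one]⟩
  refine ⟨((Q.ker.map M.subtype).comap π).map NC.subtype, ?_, ?_, ?_, ?_, ?_⟩
  · intro c hc
    exact ⟨⟨c, Subgroup.le_normalizer hc⟩, ⟨1, one_mem _,
      ((QuotientGroup.eq_one_iff _).2 (show (⟨c, _⟩ : NC) ∈ C' from hc)).symm⟩, rfl⟩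
  · rintro _ ⟨a, ⟨m, -, hm⟩, rfl⟩
    obtain ⟨a', ha', ha'm⟩ := m.2
    have h := (hπ _ _).1 (ha'm.trans hm)
    have := mul_mem (show (a' : G) ∈ T from ha') (hRT (hCR h))
    rwa [mul_inv_cancel_left] at this
  · intro b hb
    refine Subgroup.mem_normalizer_fintype ?_
    rintro _ ⟨a, ⟨m, hm, hma⟩, rfl⟩
    refine ⟨bn ⟨b, hb⟩ * a * (bn ⟨b, hb⟩)⁻¹, ⟨act ⟨b, hb⟩ m, ?_, ?_⟩, rfl⟩
    · rw [SetLike.mem_coe, MonoidHom.mem_ker, hQact, (MonoidHom.mem_ker).1 hm, map_one]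
    · show π (bn ⟨b, hb⟩) * m.1 * (π (bn ⟨b, hb⟩))⁻¹ = _
      rw [show m.1 = π a from hma, map_mul, map_mul, map_inv]
  · refine le_antisymm ?_ (le_inf (fun c hc => ?_) hCR)
    · rintro _ ⟨⟨a, ⟨m, hm, hma⟩, rfl⟩, haR⟩
      have hmR : m ∈ R' := Subgroup.mem_subgroupOf.2 ⟨a, haR, hma.symm⟩
      have h1 : m = 1 := by rw [← he m, ← hQfix m hmR, (MonoidHom.mem_ker).1 hm, one_pow]
      rw [h1] at hma
      exact (QuotientGroup.eq_one_iff a).1 hma.symm
    · exact ⟨⟨c, Subgroup.le_normalizer hc⟩, ⟨1, one_mem _,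
        ((QuotientGroup.eq_one_iff _).2 (show (⟨c, _⟩ : NC) ∈ C' from hc)).symm⟩, rfl⟩
  · intro a ha
    let m : M := ⟨π ⟨a, hTC ha⟩, ⟨a, hTC ha⟩, ha, rfl⟩
    obtain ⟨r, hr, hrm⟩ := (Subgroup.mem_subgroupOf.1 (pow_mem (hQR m) e) :
      _ ∈ (R.subgroupOf NC).map π)
    refine ⟨r, hr, r⁻¹ * ⟨a, hTC ha⟩, ⟨(Q m ^ e)⁻¹ * m, ?_, ?_⟩, rfl⟩
    · rw [SetLike.mem_coe, MonoidHom.mem_ker, map_mul, map_inv, map_pow, hQfix _ (hQR m), he,
        inv_mul_cancel]
    · show (Q m ^ e : M).1⁻¹ * (π ⟨a, hTC ha⟩) = π (r⁻¹ * ⟨a, hTC ha⟩)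
      rw [map_mul, map_inv, hrm]

end Cfsg.Agent.Perm.PQFix
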