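import Cfsg.Agent.S4396

/-!
# An abelian group of odd order and an operator of prime order acting on an elementary abelian
2-group
-/

set_option autoImplicit false
set_option linter.style.haveILetI false
set_option linter.unusedSectionVars false

namespace Cfsg.Agent.Perm.PQFix

universe v

variable {M : Type v} [CommGroup M] [Finite M]

/-- The subgroup moved by a group of automorphisms. -/
def mv (Q : Subgroup (MulAut M)) : Subgroup M :=
  Subgroup.closure {y | ∃ q ∈ Q, ∃ m, y = q m * m⁻¹}

variable {Q : Subgroup (MulAut M)} (hexp : ∀ m : M, m * m = 1) (hodd : Odd (Nat.card Q))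

theorem mem_mv {q : MulAut M} (hq : q ∈ Q) (m : M) : q m * m⁻¹ ∈ mv Q :=
  Subgroup.subset_closure ⟨q, hq, m, rfl⟩

theorem mv_map {g : MulAut M} (hg : ∀ q ∈ Q, g * q * g⁻¹ ∈ Q) {m : M} (hm : m ∈ mv Q) :
    g m ∈ mv Q := by
  have : mv Q ≤ (mv Q).comap g.toMonoidHom := by
    refine (Subgroup.closure_le _).2 ?_
    rintro _ ⟨q, hq, a, rfl⟩
    show g (q a * a⁻¹) ∈ mv Q
    have h := mem_mv (Q := Q) (hg q hq) (g a)
    rw [MulAut.mul_apply, MulAut.mul_apply, MulAut.inv_apply_self] at h
    rwa [map_mul, map_inv]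
  exact this hm

include hexp hodd

omit [Finite M] in
theorem pow_odd (m : M) : m ^ Nat.card Q = m := by
  obtain ⟨a, ha⟩ := hodd
  rw [ha, pow_succ, pow_mul, pow_two, hexp, one_pow, one_mul]

theorem mv_fixed_eq_one {m : M} (hm : m ∈ mv Q) (hfix : ∀ q ∈ Q, q m = m) : m = 1 := by
  classical
  haveI : Fintype Q := Fintype.ofFinite Q
  let N : M →* M := ∏ q : Q, (q : MulAut M).toMonoidHom
  have hN : ∀ a, N a = ∏ q : Q, (q : MulAut M) a := fun a => by
    simp only [N, MonoidHom.finsetProd_apply]; rfl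
  have hker : mv Q ≤ N.ker := by
    refine (Subgroup.closure_le _).2 ?_
    rintro _ ⟨q, hq, a, rfl⟩
    show N (q a * a⁻¹) = 1
    rw [map_mul, map_inv, mul_inv_eq_one, hN, hN]
    exact Fintype.prod_equiv (Equiv.mulRight (⟨q, hq⟩ : Q)) _ _ fun r => rfl
  have h := hker hm
  rw [MonoidHom.mem_ker, hN, Finset.prod_congr rfl (fun q _ => hfix q.1 q.2), Finset.prod_const,
    Finset.card_univ, ← Nat.card_eq_fintype_card, pow_odd hexp hodd] at h
  exact h

theorem mv_decomp (m : M) : ∃ c, (∀ q ∈ Q, q c = c) ∧ c * m⁻¹ ∈ mv Q := by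
  classical
  haveI : Fintype Q := Fintype.ofFinite Q
  refine ⟨∏ q : Q, (q : MulAut M) m, fun r hr => ?_, ?_⟩
  · rw [map_prod]
    exact Fintype.prod_equiv (Equiv.mulLeft (⟨r, hr⟩ : Q)) _ _ fun q => rfl
  · have h : ∏ q : Q, ((q : MulAut M) m * m⁻¹) ∈ mv Q := Subgroup.prod_mem _ fun q _ => mem_mv q.2 m
    rw [Finset.prod_mul_distrib, Finset.prod_const, Finset.card_univ, ← Nat.card_eq_fintype_card,
      pow_odd hexp hodd] at h
    exact h

/-- If `ψ` normalises `Q` and acts on it fixed-point-freely, the moved part is free over `⟨ψ⟩`. -/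
theorem free_count (hQ : Group.IsNilpotent Q) {n : ℕ} (hn : n.Prime) (ψ : MulAut M) (hψn : ψ ^ n = 1)
    (hψ1 : ψ ≠ 1) (hψQ : ψ ∈ Subgroup.normalizer (Q : Set (MulAut M)))
    (hfpf : ∀ q ∈ Q, ψ * q = q * ψ → q = 1) :
    ∃ w : ℕ, (∃ j, w = 2 ^ j) ∧ Nat.card (mv Q) = w ^ n ∧
      w ^ (n - 1) ≤ Nat.card {m : M // ∏ i ∈ Finset.range n, (ψ ^ i) m = 1} := by
  classical
  let L : Subgroup (MulAut M) := Subgroup.normalizer (Q : Set (MulAut M))
  let ψL : L := ⟨ψ, hψQ⟩
  haveI : Fact (Nat.Prime 2) := ⟨Nat.prime_two⟩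
  haveI : (Q.subgroupOf L).Normal := ⟨fun f hf g => by
    rw [Subgroup.mem_subgroupOf] at hf ⊢
    exact (Subgroup.mem_normalizer_iff.1 g.2 _).1 hf⟩
  haveI : Fintype (Subgroup.zpowers ψL) := Fintype.ofFinite _
  letI : Module (ZMod 2) (Additive (mv Q)) := AddCommGroup.zmodModule fun y => by
    rw [two_nsmul]; exact Subtype.ext (hexp (Additive.toMul y).1)
  have hinv : ∀ (l : L), ∀ m ∈ mv Q, (l : MulAut M) m ∈ mv Q := fun l m hm =>
    mv_map (fun q hq => (Subgroup.mem_normalizer_iff.1 l.2 _).1 hq) hm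
  let act : L → Additive (mv Q) →+ Additive (mv Q) := fun l =>
    { toFun := fun y => Additive.ofMul ⟨(l : MulAut M) (Additive.toMul y).1, hinv l _ (Additive.toMul y).2⟩
      map_zero' := congrArg Additive.ofMul (Subtype.ext (map_one (l : MulAut M)))
      map_add' := fun y z => congrArg Additive.ofMul (Subtype.ext (map_mul (l : MulAut M) _ _)) }
  let ρ : Representation (ZMod 2) L (Additive (mv Q)) :=
    { toFun := fun l => (act l).toZModLinearMap 2
      map_one' := LinearMap.ext fun y => rfl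
      map_mul' := fun a b => LinearMap.ext fun y => rfl }
  have hρ : ∀ (l : L) (y : Additive (mv Q)),
      ((Additive.toMul (ρ l y)) : mv Q).1 = (l : MulAut M) (Additive.toMul y).1 := fun l y => rfl
  have hord : Nat.card (Subgroup.zpowers ψL) = n := by
    haveI := Fact.mk hn
    rw [Nat.card_zpowers]
    exact orderOf_eq_prime (Subtype.ext hψn) (fun h => hψ1 (congrArg Subtype.val h))
  obtain ⟨W, hW⟩ := S4396.main (Q.subgroupOf L) (Subgroup.zpowers ψL)
    (Group.nilpotent_of_mulEquiv (Subgroup.subgroupOfEquivOfLe Subgroup.le_normalizer).symm)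
    (fun h hh hh1 f hf hcomm => by
      haveI := Fact.mk hn
      have hgen : Subgroup.zpowers (⟨h, hh⟩ : Subgroup.zpowers ψL) = ⊤ :=
        zpowers_eq_top_of_prime_card (p := n) (h := hord) (fun e => hh1 (congrArg Subtype.val e))
      obtain ⟨i, hi⟩ : (⟨ψL, Subgroup.mem_zpowers ψL⟩ : Subgroup.zpowers ψL) ∈
          Subgroup.zpowers (⟨h, hh⟩ : Subgroup.zpowers ψL) := hgen ▸ Subgroup.mem_top _
      have hi' : h ^ i = ψL := congrArg Subtype.val hi
      have h2 : Commute ψL f := hi' ▸ (show Commute h f from hcomm).zpow_left i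
      exact Subtype.ext (hfpf f.1 hf (congrArg Subtype.val h2.eq)))
    _ (Additive (mv Q)) ρ rfl (fun y hy => by
      refine congrArg Additive.ofMul (Subtype.ext (mv_fixed_eq_one hexp hodd (Additive.toMul y).2 fun q hq => ?_))
      have h1 := hy ⟨q, Subgroup.le_normalizer hq⟩ hq
      exact (hρ ⟨q, Subgroup.le_normalizer hq⟩ y).symm.trans
        (congrArg (fun z => (Additive.toMul z).1) h1))
  refine ⟨Nat.card W, ⟨Module.finrank (ZMod 2) W, by
    rw [Module.natCard_eq_pow_finrank (K := ZMod 2), Nat.card_zmod]⟩, ?_, ?_⟩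
  · let Ψ : (Subgroup.zpowers ψL → W) → mv Q := fun c =>
      Additive.toMul (∑ h : Subgroup.zpowers ψL, ρ (h : L) (c h : Additive (mv Q)))
    have hΨ : Function.Bijective Ψ := by
      refine ⟨fun c d hcd => ?_, fun y => ?_⟩
      · obtain ⟨e, -, he⟩ := hW (Additive.ofMul (Ψ c))
        have h1 := he (fun h => (c h : Additive (mv Q))) ⟨fun h => (c h).2, rfl⟩
        have h2 := he (fun h => (d h : Additive (mv Q))) ⟨fun h => (d h).2, congrArg Additive.ofMul hcd.symm⟩
        funext h
        exact Subtype.ext (congrFun (h1.trans h2.symm) h)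
      · obtain ⟨e, ⟨he1, he2⟩, -⟩ := hW (Additive.ofMul y)
        exact ⟨fun h => ⟨e h, he1 h⟩, congrArg Additive.toMul he2⟩
    rw [← Nat.card_eq_of_bijective Ψ hΨ, Nat.card_fun, hord]
  · let D := {h : Subgroup.zpowers ψL // h ≠ 1}
    let ext : (D → W) → Subgroup.zpowers ψL → Additive (mv Q) := fun c h =>
      if hh : h = 1 then -∑ d : D, (c d : Additive (mv Q)) else (c ⟨h, hh⟩ : Additive (mv Q))
    have hextW : ∀ c h, ext c h ∈ W := fun c h => by
      show dite _ _ _ ∈ W
      split_ifs with hh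
      · exact neg_mem (sum_mem fun d _ => (c d).2)
      · exact (c _).2
    let Φ : (D → W) → M := fun c =>
      (Additive.toMul (∑ h : Subgroup.zpowers ψL, ρ (h : L) (ext c h))).1
    let ν : M →* M := ∏ i ∈ Finset.range n, (ψ ^ i : MulAut M).toMonoidHom
    have hν : ∀ a, ν a = ∏ i ∈ Finset.range n, (ψ ^ i) a := fun a => by
      simp only [ν, MonoidHom.finsetProd_apply]; rfl
    have hνψ : ∀ a, ν (ψ a) = ν a := fun a => by
      rw [hν, hν]
      have h1 := Finset.prod_range_succ' (fun i => (ψ ^ i) a) n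
      rw [Finset.prod_range_succ, hψn, ← pow_zero ψ] at h1
      rw [← mul_right_cancel h1.symm]
      exact Finset.prod_congr rfl fun i _ => by rw [← MulAut.mul_apply, ← pow_succ]
    have hνh : ∀ (h : Subgroup.zpowers ψL) (a : M), ν (((h : L) : MulAut M) a) = ν a := by
      intro h a
      obtain ⟨j, hj⟩ := (mem_powers_iff_mem_zpowers.2 h.2 : (h : L) ∈ Submonoid.powers ψL)
      rw [← hj]
      clear hj
      induction j generalizing a with
      | zero => simp
      | succ j ih =>
        simp only [pow_succ, Subgroup.coe_mul, MulAut.mul_apply]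
        exact (ih (ψ a)).trans (hνψ a)
    let νA : Additive (mv Q) →+ Additive M := MonoidHom.toAdditive (ν.comp (mv Q).subtype)
    have hker : ∀ c, ν (Φ c) = 1 := by
      intro c
      have h1 : νA (∑ h : Subgroup.zpowers ψL, ρ (h : L) (ext c h)) = 0 := by
        rw [map_sum, Finset.sum_congr rfl (g := fun h => νA (ext c h)) (fun h _ =>
          show νA (ρ (h : L) (ext c h)) = νA (ext c h) from congrArg Additive.ofMul ((congrArg ν (hρ (h : L) (ext c h))).trans (hνh h _))), ← map_sum]
        have h2 : ∑ h, ext c h = 0 := by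
          rw [← Finset.sum_erase_add _ _ (Finset.mem_univ (1 : Subgroup.zpowers ψL)),
            show ext c 1 = -∑ d : D, (c d : Additive (mv Q)) from dif_pos rfl, add_neg_eq_zero]
          rw [Finset.sum_subtype (Finset.univ.erase (1 : Subgroup.zpowers ψL)) (p := (· ≠ 1))
            (by simp) (ext c)]
          exact Finset.sum_congr rfl fun d _ => dif_neg d.2
        rw [h2, map_zero]
      exact congrArg Additive.toMul h1
    have hinj : Function.Injective fun c => (⟨Φ c, (hν _).symm.trans (hker c)⟩ :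
        {m : M // ∏ i ∈ Finset.range n, (ψ ^ i) m = 1}) := by
      intro c d hcd
      have h0 : Φ c = Φ d := by exact congrArg (fun z : {m : M // ∏ i ∈ Finset.range n, (ψ ^ i) m = 1} => z.1) hcd
      obtain ⟨e, -, he⟩ := hW (∑ h : Subgroup.zpowers ψL, ρ (h : L) (ext c h))
      have h1 := he (ext c) ⟨hextW c, rfl⟩
      have h2 := he (ext d) ⟨hextW d, (congrArg Additive.ofMul (Subtype.ext h0)).symm⟩
      funext x
      have h3 := congrFun (h1.trans h2.symm) x.1
      rw [show ext c x.1 = c x from dif_neg x.2, show ext d x.1 = d x from dif_neg x.2] at h3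
      exact Subtype.ext h3
    have hle := Nat.card_le_card_of_injective _ hinj
    rw [Nat.card_fun] at hle
    convert hle using 2
    rw [Nat.card_eq_fintype_card, Fintype.card_subtype_compl, Fintype.card_subtype_eq,
      ← Nat.card_eq_fintype_card, hord]

end Cfsg.Agent.Perm.PQFix
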