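import Cfsg.Agent.Lib.Perm.PQFix.Setup
import Cfsg.Agent.Lib.Perm.PQFix.FreeCount

/-!
# An operator of prime order without fixed vector normalising a group which moves all of `E/C`
-/

set_option autoImplicit false
set_option linter.style.haveILetI false
set_option linter.unusedSectionVars false

namespace Cfsg.Agent.Perm.PQFix

open scoped commutatorElement

universe u v w

variable {k : Type u} [Field k] [IsAlgClosed k]
variable {Γ : Type v} [Group Γ] [Finite Γ]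
variable {W : Type w} [AddCommGroup W] [Module k W] [FiniteDimensional k W] [Nontrivial W]
variable {t : ℕ} {E C : Subgroup Γ} {ρ : Γ →* Module.End k W} {lam : Γ → k}
  (hS : Setup t E C ρ lam)

omit [Finite Γ] in
theorem commutator_mul_left_central {a c b : Γ} (hb : c * b = b * c) : ⁅a * c, b⁆ = ⁅a, b⁆ := by
  rw [commutatorElement_def, commutatorElement_def]
  calc a * c * b * (a * c)⁻¹ * b⁻¹ = a * (c * b) * c⁻¹ * a⁻¹ * b⁻¹ := by group
    _ = _ := by rw [hb]; group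

include hS

theorem Setup.lam_comm_congr {a a' b b' : Γ} (ha : a ∈ E) (hb : b ∈ E) (ha' : a⁻¹ * a' ∈ C)
    (hb' : b⁻¹ * b' ∈ C) : lam ⁅a', b'⁆ = lam ⁅a, b⁆ := by
  have hbE : b' ∈ E := by
    have := mul_mem hb (hS.le hb'); rwa [mul_inv_cancel_left] at this
  have h1 : ⁅a', b'⁆ = ⁅a, b'⁆ := by
    have := commutator_mul_left_central (a := a) (hS.central _ ha' b' hbE)
    rwa [mul_inv_cancel_left] at this
  have h2 : ⁅b', a⁆ = ⁅b, a⁆ := by
    have := commutator_mul_left_central (a := b) (hS.central _ hb' a ha)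
    rwa [mul_inv_cancel_left] at this
  rw [h1, ← commutatorElement_inv b' a, h2, commutatorElement_inv]

theorem Setup.lam_comm_mul {a b c : Γ} (ha : a ∈ E) (hb : b ∈ E) (hc : c ∈ E) :
    lam ⁅a * b, c⁆ = lam ⁅a, c⁆ * lam ⁅b, c⁆ := by
  have h : ⁅a * b, c⁆ = ⁅b, c⁆ * ⁅a, c⁆ := by
    have h1 := hS.central _ (hS.comm b hb c hc) a ha
    calc ⁅a * b, c⁆ = a * ⁅b, c⁆ * a⁻¹ * ⁅a, c⁆ := by simp only [commutatorElement_def]; group
      _ = _ := by rw [← h1, mul_inv_cancel_right]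
  rw [h, hS.lam_mul (hS.comm b hb c hc) (hS.comm a ha c hc), mul_comm]

theorem Setup.lam_comm_swap {a b : Γ} (ha : a ∈ E) (hb : b ∈ E) :
    lam ⁅a, b⁆ * lam ⁅b, a⁆ = 1 := by
  rw [← hS.lam_mul (hS.comm a ha b hb) (hS.comm b hb a ha), ← commutatorElement_inv a b, mul_inv_cancel,
    hS.lam_one]

variable [hEn : E.Normal] [hCn : C.Normal]

/-- Lemma X. -/
theorem Setup.moved {s n : ℕ} (hs : s.Prime) (hst : s ≠ t) (hn : n.Prime) (hnt : n ≠ t) (hns : n ≠ s)
    (hnk : (n : k) ≠ 0) {x : Γ} (hxn : x ^ n = 1) (hsum : ∑ i ∈ Finset.range n, ρ x ^ i = 0)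
    (Sg : Subgroup Γ) (hSg : IsPGroup s Sg) (hxS : ∀ σ ∈ Sg, x * σ * x⁻¹ ∈ Sg)
    (hSC : ∀ σ ∈ Sg, ∀ c ∈ C, σ * c * σ⁻¹ = c)
    (hSab : ∀ σ ∈ Sg, ∀ σ' ∈ Sg, ∀ e ∈ E, ⁅σ, σ'⁆ * e = e * ⁅σ, σ'⁆)
    (hfix : ∀ e ∈ E, (∀ σ ∈ Sg, ⁅σ, e⁆ ∈ C) → e ∈ C) :
    ∀ e ∈ E, ⁅x, e⁆ ∈ C := by
  classical
  intro e he
  haveI := Fact.mk hS.prime
  haveI := Fact.mk hs
  by_cases hn2 : n = 2
  · subst hn2
    have hneg : ρ x = -1 := by
      rw [Finset.sum_range_succ, Finset.sum_range_one, pow_zero, pow_one] at hsum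
      exact eq_neg_of_add_eq_zero_right hsum
    have haE : ⁅x, e⁆ ∈ E := by
      rw [commutatorElement_def]; exact mul_mem (hEn.conj_mem e he x) (inv_mem he)
    have hxe : ρ (x * e) = ρ (e * x) := by rw [map_mul, map_mul, hneg, neg_one_mul, mul_neg_one]
    have hρ : ρ ⁅x, e⁆ = 1 := by
      rw [show ⁅x, e⁆ = x * e * (x⁻¹ * e⁻¹) by rw [commutatorElement_def]; group, map_mul, hxe, ← map_mul,
        show e * x * (x⁻¹ * e⁻¹) = 1 by group, map_one]
    have hρ' : ρ ⁅x, e⁆⁻¹ = 1 := by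
      have h := congrArg ρ (mul_inv_cancel ⁅x, e⁆)
      rwa [map_mul, hρ, one_mul, map_one] at h
    refine hS.nd _ haE fun b hb => Cfsg.Agent.Solv.CRep.smul_one_injective (W := W) ?_
    rw [← hS.scalar _ (hS.comm _ haE b hb), commutatorElement_def ⁅x, e⁆ b, map_mul, map_mul, map_mul, hρ,
      hρ', one_mul, mul_one, ← map_mul, mul_inv_cancel, map_one, one_smul]
  -- the quotient
  let π : Γ →* Γ ⧸ C := QuotientGroup.mk' C
  let M : Subgroup (Γ ⧸ C) := E.map π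
  haveI hMn : M.Normal := hEn.map π (QuotientGroup.mk'_surjective C)
  have hπ : ∀ a b : Γ, π a = π b ↔ a⁻¹ * b ∈ C := fun a b => QuotientGroup.eq
  have hπ1 : ∀ a : Γ, π a = 1 ↔ a ∈ C := fun a => QuotientGroup.eq_one_iff a
  letI : CommGroup M :=
    { (inferInstance : Group M) with
      mul_comm := by
        rintro ⟨-, a, ha, rfl⟩ ⟨-, b, hb, rfl⟩
        refine Subtype.ext ?_
        show π a * π b = π b * π a
        rw [← map_mul, ← map_mul, hπ, show (a * b)⁻¹ * (b * a) = ⁅b⁻¹, a⁻¹⁆ by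
          rw [commutatorElement_def]; group]
        exact hS.comm _ (inv_mem hb) _ (inv_mem ha) }
  let mk : ∀ a ∈ E, M := fun a ha => ⟨π a, Subgroup.mem_map_of_mem π ha⟩
  have hmk : ∀ m : M, ∃ a, ∃ ha : a ∈ E, mk a ha = m := by
    rintro ⟨-, a, ha, rfl⟩
    exact ⟨a, ha, rfl⟩
  have hmk1 : ∀ a ha, mk a ha = 1 ↔ a ∈ C := fun a ha =>
    ⟨fun h => (hπ1 a).1 (congrArg Subtype.val h), fun h => Subtype.ext ((hπ1 a).2 h)⟩
  have hmkmul : ∀ a ha b hb, mk (a * b) (mul_mem ha hb) = mk a ha * mk b hb :=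
    fun a ha b hb => Subtype.ext (map_mul π a b)
  -- the pairing
  choose sec hsecE hsec using hmk
  let P : M → M → k := fun m m' => lam ⁅sec m, sec m'⁆
  have hP : ∀ a ha b hb, P (mk a ha) (mk b hb) = lam ⁅a, b⁆ := fun a ha b hb =>
    hS.lam_comm_congr ha hb ((hπ _ _).1 (congrArg Subtype.val (hsec (mk a ha))).symm)
      ((hπ _ _).1 (congrArg Subtype.val (hsec (mk b hb))).symm)
  have hPmul : ∀ m m' c, P (m * m') c = P m c * P m' c := by
    intro m m' c
    conv_lhs => rw [← hsec m, ← hsec m', ← hsec c, ← hmkmul _ (hsecE m) _ (hsecE m'), hP _ (mul_mem (hsecE m) (hsecE m')) _ (hsecE c)]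
    exact hS.lam_comm_mul (hsecE m) (hsecE m') (hsecE c)
  have hPswap : ∀ m m', P m m' * P m' m = 1 := fun m m' => hS.lam_comm_swap (hsecE m) (hsecE m')
  have hP1 : ∀ c, P 1 c = 1 := by
    intro c
    have h1 := hPswap 1 c
    have h := hPmul 1 1 c
    rw [one_mul] at h
    exact (mul_right_eq_self₀.1 h.symm).resolve_right (left_ne_zero_of_mul_eq_one h1)
  have hP1' : ∀ c, P c 1 = 1 := fun c => by
    have h := hPswap c 1; rwa [hP1, mul_one] at h
  let PL : M → M →* k := fun c => ⟨⟨fun m => P m c, hP1 c⟩, fun m m' => hPmul m m' c⟩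
  have hPmul' : ∀ m c c', P m (c * c') = P m c * P m c' := by
    intro m c c'
    have h1 := hPswap (c * c') m
    rw [hPmul] at h1
    have h2 := hPswap c m
    have h3 := hPswap c' m
    calc P m (c * c') = P m (c * c') * ((P c m * P m c) * (P c' m * P m c')) := by rw [h2, h3, one_mul, mul_one]
      _ = (P c m * P c' m * P m (c * c')) * (P m c * P m c') := by ring
      _ = _ := by rw [h1, one_mul]
  let PR : M → M →* k := fun m => ⟨⟨fun c => P m c, hP1' m⟩, fun c c' => hPmul' m c c'⟩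
  -- the action
  let χ : Γ →* MulAut M := (MulAut.conjNormal (H := M)).comp π
  have hχ : ∀ g a ha, χ g (mk a ha) = mk (g * a * g⁻¹) (hEn.conj_mem a ha g) := fun g a ha =>
    Subtype.ext (by
      show π g * π a * (π g)⁻¹ = π (g * a * g⁻¹)
      rw [map_mul, map_mul, map_inv])
  have hPχ : ∀ g m m', P (χ g m) (χ g m') = P m m' := by
    intro g m m'
    conv_lhs => rw [← hsec m, ← hsec m', hχ g _ (hsecE m), hχ g _ (hsecE m'),
      hP _ (hEn.conj_mem _ (hsecE m) g) _ (hEn.conj_mem _ (hsecE m') g)]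
    show lam _ = lam ⁅sec m, sec m'⁆
    rw [show ⁅g * sec m * g⁻¹, g * sec m' * g⁻¹⁆ = g * ⁅sec m, sec m'⁆ * g⁻¹ by
      simp only [commutatorElement_def]; group]
    exact hS.lam_conj (hS.comm _ (hsecE m) _ (hsecE m')) g
      (hCn.conj_mem _ (hS.comm _ (hsecE m) _ (hsecE m')) g)
  have hnd : ∀ m, (∀ m', P m m' = 1) → m = 1 := by
    intro m hm
    rw [← hsec m, hmk1 _ (hsecE m)]
    exact hS.nd _ (hsecE m) fun b hb => by
      have := hm (mk b hb)
      rwa [← hsec m, hP _ (hsecE m) b hb] at this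
  have hexpt : ∀ m : M, m ^ t = 1 := by
    intro m
    rw [← hsec m]
    exact Subtype.ext ((map_pow π _ t).symm.trans ((hπ1 _).2 (hS.expo _ (hsecE m))))
  let ψ : MulAut M := χ x
  have hψn : ψ ^ n = 1 := by show χ x ^ n = 1; rw [← map_pow, hxn, map_one]
  let ν : M →* M := ∏ i ∈ Finset.range n, (ψ ^ i : MulAut M).toMonoidHom
  have hν : ∀ a, ν a = ∏ i ∈ Finset.range n, (ψ ^ i) a := fun a => by
    simp only [ν, MonoidHom.finsetProd_apply]; rfl
  have hνψ : ∀ a, ν (ψ a) = ν a := fun a => by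
    rw [hν, hν]
    have h1 := Finset.prod_range_succ' (fun i => (ψ ^ i) a) n
    rw [Finset.prod_range_succ, hψn, ← pow_zero ψ] at h1
    rw [← mul_right_cancel h1.symm]
    exact Finset.prod_congr rfl fun i _ => by rw [← MulAut.mul_apply, ← pow_succ]
  have hψν : ∀ a, ψ (ν a) = ν a := fun a => by
    conv_rhs => rw [← hνψ]
    rw [hν, hν, map_prod]
    exact Finset.prod_congr rfl fun i _ => by
      rw [← MulAut.mul_apply, ← MulAut.mul_apply, ← pow_succ, ← pow_succ']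
  suffices hD : ν.ker = ⊥ by
    have h1 : ψ (mk e he) / mk e he ∈ ν.ker := by
      rw [MonoidHom.mem_ker, map_div, hνψ, div_self']
    rw [hD, Subgroup.mem_bot, div_eq_one] at h1
    rw [hχ x e he] at h1
    have h2 := (hπ _ _).1 (congrArg Subtype.val h1).symm
    rw [commutatorElement_def, show x * e * x⁻¹ * e⁻¹ = e * (e⁻¹ * (x * e * x⁻¹)) * e⁻¹ by group]
    exact hCn.conj_mem _ h2 e
  by_contra hD
  -- the section `EY`
  let EY : Subgroup Γ := E ⊓ (ν.ker.map M.subtype).comap π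
  have hEYmem : ∀ a ha, a ∈ EY ↔ mk a ha ∈ ν.ker := fun a ha =>
    ⟨fun h => by
      obtain ⟨m, hm, hme⟩ := h.2
      rwa [show mk a ha = m from Subtype.ext hme.symm], fun h => ⟨ha, ⟨_, h, rfl⟩⟩⟩
  have hCY : C ≤ EY := fun c hc => (hEYmem c (hS.le hc)).2 (by rw [(hmk1 c (hS.le hc)).2 hc]; exact one_mem _)
  have hkerψ : ∀ m ∈ ν.ker, ψ m ∈ ν.ker := fun m hm => by
    rw [MonoidHom.mem_ker] at hm ⊢; rw [hνψ, hm]
  have htn : Nat.Coprime n t := (Nat.coprime_primes hn hS.prime).2 hnt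
  have hker0 : ∀ m ∈ ν.ker, ψ m = m → m = 1 := by
    intro m hm hfx
    have h1 : ∀ i : ℕ, (ψ ^ i) m = m := fun i => by
      induction i with
      | zero => rfl
      | succ i ih => rw [pow_succ, MulAut.mul_apply, hfx, ih]
    rw [MonoidHom.mem_ker, hν, Finset.prod_congr rfl (fun i _ => h1 i), Finset.prod_const,
      Finset.card_range] at hm
    have := (pow_gcd_eq_one (a := m)).2 ⟨hm, hexpt m⟩
    rwa [htn.gcd_eq_one, pow_one] at this
  have hndY : ∀ a ∈ EY, (∀ b ∈ EY, lam ⁅a, b⁆ = 1) → a ∈ C := by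
    intro a haY hb
    have hm := (hEYmem a haY.1).1 haY
    rw [← hmk1 a haY.1]
    refine hnd _ fun m' => ?_
    have hker' : ∀ z ∈ ν.ker, P (mk a haY.1) z = 1 := fun z hz => by
      rw [← hsec z, hP _ haY.1 _ (hsecE z)]
      exact hb _ ((hEYmem _ (hsecE z)).2 (by rw [hsec]; exact hz))
    have hpowfix : ∀ i : ℕ, (ψ ^ i) (ν m') = ν m' := fun i => by
      induction i with
      | zero => rfl
      | succ i ih => rw [pow_succ, MulAut.mul_apply, hψν, ih]
    have hb1 : m' ^ n / ν m' ∈ ν.ker := by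
      rw [MonoidHom.mem_ker, map_div, map_pow, hν (ν m'), Finset.prod_congr rfl (fun i _ => hpowfix i),
        Finset.prod_const, Finset.card_range, div_self']
    have hPn : P (mk a haY.1) (ν m') ^ n = 1 := by
      have h1 : ∀ i : ℕ, P ((ψ ^ i) (mk a haY.1)) (ν m') = P (mk a haY.1) (ν m') := fun i => by
        conv_lhs => rw [← hpowfix i]
        show P ((χ x ^ i) _) ((χ x ^ i) _) = _
        rw [← map_pow, hPχ]
      have h2 : P (ν (mk a haY.1)) (ν m') = 1 := by rw [(MonoidHom.mem_ker).1 hm]; exact hP1 _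
      rw [hν] at h2
      have h3 := map_prod (PL (ν m')) (fun i => (ψ ^ i) (mk a haY.1)) (Finset.range n)
      change P _ _ = ∏ i ∈ _, P _ _ at h3
      rw [h2, Finset.prod_congr rfl (fun i _ => h1 i), Finset.prod_const, Finset.card_range] at h3
      exact h3.symm
    have hPt : ∀ z, P (mk a haY.1) z ^ t = 1 := fun z => by
      have h3 := map_pow (PR (mk a haY.1)) z t
      rw [hexpt, map_one] at h3
      exact h3.symm
    have hPν : P (mk a haY.1) (ν m') = 1 := by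
      have := pow_gcd_eq_one.2 ⟨hPn, hPt _⟩
      rwa [htn.gcd_eq_one, pow_one] at this
    have h4 : P (mk a haY.1) m' ^ n = 1 := by
      have h5 := hker' _ hb1
      have h6 := hPmul' (mk a haY.1) (m' ^ n / ν m') (ν m')
      rw [h5, hPν, one_mul, div_mul_cancel] at h6
      exact ((map_pow (PR (mk a haY.1)) m' n).symm.trans h6)
    have := pow_gcd_eq_one.2 ⟨h4, hPt _⟩
    rwa [htn.gcd_eq_one, pow_one] at this
  have hxY : ∀ a ∈ EY, x * a * x⁻¹ ∈ EY := fun a ha =>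
    (hEYmem _ (hEn.conj_mem a ha.1 x)).2 (by rw [← hχ x a ha.1]; exact hkerψ _ ((hEYmem a ha.1).1 ha))
  have hfixY : ∀ a ∈ EY, a⁻¹ * (x * a * x⁻¹) ∈ C → a ∈ C := fun a ha h =>
    (hmk1 a ha.1).1 (hker0 _ ((hEYmem a ha.1).1 ha)
      ((hχ x a ha.1).trans (Subtype.ext ((hπ _ _).2 h).symm)))
  have hneY : ¬ EY ≤ C := fun h => hD ((Subgroup.eq_bot_iff_forall _).2 fun m hm => by
    rw [← hsec m, hmk1 _ (hsecE m)]
    exact h ((hEYmem _ (hsecE m)).2 (by rw [hsec]; exact hm)))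
  obtain ⟨hcard, hperm⟩ := hS.fpf_core hCY inf_le_left hndY hn hnk hxn hsum hxY
    (fun c hc => hCn.conj_mem c hc x) hfixY hneY
  have hrel : ∀ Y : Subgroup M, C.relIndex (E ⊓ (Y.map M.subtype).comap π) = Nat.card Y := by
    intro Y
    have h1 := Subgroup.relIndex_ker π (K := E ⊓ (Y.map M.subtype).comap π)
    rw [QuotientGroup.ker_mk'] at h1
    rw [h1, show (E ⊓ (Y.map M.subtype).comap π).map π = Y.map M.subtype from ?_,
      Subgroup.card_map_of_injective M.subtype_injective]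
    refine le_antisymm (Subgroup.map_le_iff_le_comap.2 inf_le_right) fun y hy => ?_
    obtain ⟨m, hm, rfl⟩ := hy
    refine ⟨sec m, ⟨hsecE m, ?_⟩, congrArg Subtype.val (hsec m)⟩
    exact ⟨m, hm, (congrArg Subtype.val (hsec m)).symm⟩
  have hcardD : Nat.card ν.ker = (n - 1) * (n - 1) := (hrel ν.ker).symm.trans hcard
  have ht2 : t = 2 := by
    obtain ⟨j, hj⟩ : ∃ j, Nat.card ν.ker = t ^ j :=
      IsPGroup.iff_card.1 (IsPGroup.to_subgroup (hS.tgroup.map π) _)
    have h2 : 2 ∣ t ^ j := by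
      rw [← hj, hcardD]
      have hodd := hn.odd_of_ne_two hn2
      obtain ⟨a, ha⟩ := hodd
      exact Dvd.dvd.mul_left ⟨a, by omega⟩ _
    exact ((Nat.prime_dvd_prime_iff_eq Nat.prime_two hS.prime).1 (Nat.prime_two.dvd_of_dvd_pow h2)).symm
  subst ht2
  have hexp2 : ∀ m : M, m * m = 1 := fun m => by rw [← pow_two]; exact hexpt m
  -- the image of `Sg`
  let Q0 : Subgroup (MulAut M) := Sg.map χ
  have hQ0ab : ∀ a ∈ Q0, ∀ b ∈ Q0, a * b = b * a := by
    rintro _ ⟨a, ha, rfl⟩ _ ⟨b, hb, rfl⟩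
    have h1 : χ ⁅a, b⁆ = 1 := MulEquiv.ext fun m => by
      rw [← hsec m, hχ _ _ (hsecE m), MulAut.one_apply]
      refine Subtype.ext (congrArg π ?_)
      rw [hSab a ha b hb _ (hsecE m), mul_inv_cancel_right]
    rw [map_commutatorElement, commutatorElement_eq_one_iff_mul_comm] at h1
    exact h1
  have hψQ0 : ∀ a ∈ Q0, ψ * a * ψ⁻¹ ∈ Q0 := by
    rintro _ ⟨a, ha, rfl⟩
    exact ⟨x * a * x⁻¹, hxS a ha, by rw [map_mul, map_mul, map_inv]⟩
  let Q : Subgroup (MulAut M) :=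
    { carrier := {d | ∃ a ∈ Q0, d = a * ψ * a⁻¹ * ψ⁻¹}
      one_mem' := ⟨1, one_mem _, by group⟩
      mul_mem' := by
        rintro _ _ ⟨a, ha, rfl⟩ ⟨b, hb, rfl⟩
        refine ⟨a * b, mul_mem ha hb, ?_⟩
        have h1 : b * ψ * b⁻¹ * ψ⁻¹ ∈ Q0 := by
          have h := mul_mem hb (hψQ0 b⁻¹ (inv_mem hb))
          simpa only [mul_assoc] using h
        have h2 := hQ0ab _ (hψQ0 a⁻¹ (inv_mem ha)) _ h1
        calc a * ψ * a⁻¹ * ψ⁻¹ * (b * ψ * b⁻¹ * ψ⁻¹)
            = a * ((ψ * a⁻¹ * ψ⁻¹) * (b * ψ * b⁻¹ * ψ⁻¹)) := by group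
          _ = a * ((b * ψ * b⁻¹ * ψ⁻¹) * (ψ * a⁻¹ * ψ⁻¹)) := by rw [h2]
          _ = _ := by group
      inv_mem' := by
        rintro _ ⟨a, ha, rfl⟩
        refine ⟨a⁻¹, inv_mem ha, ?_⟩
        have h := hQ0ab _ (inv_mem ha) _ (hψQ0 a ha)
        calc (a * ψ * a⁻¹ * ψ⁻¹)⁻¹ = (ψ * a * ψ⁻¹) * a⁻¹ := by group
          _ = a⁻¹ * (ψ * a * ψ⁻¹) := h.symm
          _ = _ := by group }
  have hQQ0 : Q ≤ Q0 := by
    rintro _ ⟨a, ha, rfl⟩
    have h := mul_mem ha (hψQ0 a⁻¹ (inv_mem ha))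
    simpa only [mul_assoc] using h
  have hQs : IsPGroup s Q := (hSg.map χ).to_le hQQ0
  have hsn : ∀ (y : Γ), y ∈ Sg → ∃ j : ℕ, y ^ s ^ j = 1 := fun y hy => by
    obtain ⟨j, hj⟩ := hSg ⟨y, hy⟩
    exact ⟨j, congrArg Subtype.val hj⟩
  have hψQ : ψ ∈ Subgroup.normalizer (Q : Set (MulAut M)) := Subgroup.mem_normalizer_fintype (by
    rintro _ ⟨a, ha, rfl⟩
    exact ⟨ψ * a * ψ⁻¹, hψQ0 a ha, by group⟩)
  have hfpf : ∀ q ∈ Q, ψ * q = q * ψ → q = 1 := by
    intro q hq hcomm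
    obtain ⟨a, -, hqa⟩ := id hq
    have h1 : (q * ψ) ^ n = 1 := by
      rw [hqa, inv_mul_cancel_right, conj_pow, hψn, mul_one, mul_inv_cancel]
    rw [(show Commute q ψ from hcomm.symm).mul_pow, hψn, mul_one] at h1
    obtain ⟨j, hj⟩ := hQs ⟨q, hq⟩
    have := pow_gcd_eq_one.2 ⟨h1, (congrArg Subtype.val hj : q ^ s ^ j = 1)⟩
    rwa [(Nat.Coprime.pow_right j ((Nat.coprime_primes hn hs).2 hns)).gcd_eq_one, pow_one] at this
  have hψ1 : ψ ≠ 1 := fun h => hD ((Subgroup.eq_bot_iff_forall _).2 fun m hm =>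
    hker0 m hm (by rw [h]; rfl))
  by_cases hQbot : Q = ⊥
  · -- `Sg` commutes with `x` on `E`
    have hcomm : ∀ σ ∈ Sg, χ σ * ψ = ψ * χ σ := by
      intro σ hσ
      have : χ σ * ψ * (χ σ)⁻¹ * ψ⁻¹ ∈ Q := ⟨_, Subgroup.mem_map_of_mem χ hσ, rfl⟩
      rw [hQbot, Subgroup.mem_bot, mul_inv_eq_one, mul_inv_eq_iff_eq_mul] at this
      exact this
    have hexact : ∀ σ ∈ Sg, ∀ e ∈ E, σ * x * e * (σ * x)⁻¹ = x * σ * e * (x * σ)⁻¹ := by
      intro σ hσ e he
      obtain ⟨y, hy⟩ : ∃ y, y = (x * σ)⁻¹ * (σ * x) := ⟨_, rfl⟩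
      have hyS : y ∈ Sg := by
        have hx' : x ∈ Subgroup.normalizer (Sg : Set Γ) := Subgroup.mem_normalizer_fintype hxS
        rw [hy, show (x * σ)⁻¹ * (σ * x) = σ⁻¹ * (x⁻¹ * σ * x) by group]
        exact mul_mem (inv_mem hσ) ((Subgroup.mem_normalizer_iff''.1 hx' σ).1 hσ)
      have hχy : χ y = 1 := by
        rw [hy, map_mul, map_inv, map_mul, map_mul, inv_mul_eq_one]; exact (hcomm σ hσ).symm
      have hc : e⁻¹ * (y * e * y⁻¹) ∈ C := by
        refine (hπ _ _).1 ?_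
        have h := congrArg Subtype.val (hχ y e he)
        rw [hχy] at h
        exact h
      have hyp : ∀ j : ℕ, y ^ j * e * (y ^ j)⁻¹ = e * (e⁻¹ * (y * e * y⁻¹)) ^ j := by
        intro j
        induction j with
        | zero => simp
        | succ j ih =>
          calc y ^ (j + 1) * e * (y ^ (j + 1))⁻¹ = y * (y ^ j * e * (y ^ j)⁻¹) * y⁻¹ := by
                rw [pow_succ']; group
            _ = (y * e * y⁻¹) * (y * (e⁻¹ * (y * e * y⁻¹)) ^ j * y⁻¹) := by rw [ih]; group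
            _ = _ := by rw [hSC y hyS _ (pow_mem hc j), pow_succ', ← mul_assoc e, mul_inv_cancel_left]
      obtain ⟨j, hj⟩ := hsn y hyS
      have h1 := hyp (s ^ j)
      rw [hj, one_mul, inv_one, mul_one, left_eq_mul] at h1
      obtain ⟨i, hi⟩ := hS.tgroup ⟨_, hS.le hc⟩
      have h2 := pow_gcd_eq_one.2 ⟨h1, (congrArg Subtype.val hi : (e⁻¹ * (y * e * y⁻¹)) ^ 2 ^ i = (1 : Γ))⟩
      rw [(Nat.Coprime.pow j i ((Nat.coprime_primes hs Nat.prime_two).2 hst)).gcd_eq_one, pow_one,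
        inv_mul_eq_one] at h2
      calc σ * x * e * (σ * x)⁻¹ = x * σ * (y * e * y⁻¹) * (x * σ)⁻¹ := by rw [hy]; group
        _ = _ := by rw [← h2]
    refine hD ((Subgroup.eq_bot_iff_forall _).2 fun m hm => ?_)
    rw [← hsec m, hmk1 _ (hsecE m)]
    refine hfix _ (hsecE m) fun σ hσ => ?_
    have hχν : ∀ z, ν (χ σ z) = χ σ (ν z) := fun z => by
      rw [hν, hν, map_prod]
      refine Finset.prod_congr rfl fun i _ => ?_
      rw [← MulAut.mul_apply, ← MulAut.mul_apply, ((show Commute (χ σ) ψ from hcomm σ hσ).pow_right i).eq]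
    have hσY : ∀ a ∈ EY, σ * a * σ⁻¹ ∈ EY := fun a ha =>
      (hEYmem _ (hEn.conj_mem a ha.1 σ)).2 (by
        rw [← hχ σ a ha.1, MonoidHom.mem_ker, hχν, (MonoidHom.mem_ker).1 ((hEYmem a ha.1).1 ha), map_one])
    rw [commutatorElement_def]
    by_cases hmC : sec m ∈ C
    · rw [hSC σ hσ _ hmC, mul_inv_cancel]; exact one_mem _
    have hmY : sec m ∈ EY := (hEYmem _ (hsecE m)).2 (by rw [hsec]; exact hm)
    obtain ⟨i, -, hi⟩ := hperm σ hσY (fun c hc => hSC σ hσ c hc) (fun e he => hexact σ hσ e he.1)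
      _ hmY hmC
    have hi' : χ σ m = (ψ ^ i) m := by
      rw [← hsec m, hχ σ _ (hsecE m)]
      show _ = (χ x ^ i) _
      rw [← map_pow, hχ (x ^ i) _ (hsecE m)]
      exact Subtype.ext ((hπ _ _).2 hi).symm
    have hpow : ∀ j : ℕ, (χ σ ^ j) m = (ψ ^ (i * j)) m := by
      intro j
      induction j with
      | zero => simp
      | succ j ih =>
        rw [pow_succ, MulAut.mul_apply, hi', ← MulAut.mul_apply,
          (((show Commute (χ σ) ψ from hcomm σ hσ).pow_left j).pow_right i).eq, MulAut.mul_apply, ih,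
          ← MulAut.mul_apply, ← pow_add, mul_add, mul_one, add_comm]
    obtain ⟨j, hj⟩ := hsn σ hσ
    have hfin : χ σ m = m := MulAction.mem_stabilizer_iff.1
      (mem_of_pow_coprime (Γ := MulAut M) (MulAction.stabilizer (MulAut M) m) (g := χ σ) (i := n)
        (n := s ^ j) (by
          rw [MulAction.mem_stabilizer_iff]
          show (χ σ ^ n) m = m
          rw [hpow, mul_comm, pow_mul, hψn, one_pow]; rfl)
        (by rw [← map_pow, hj, map_one]; exact one_mem _)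
        (Nat.Coprime.pow_right j ((Nat.coprime_primes hn hs).2 hns)))
    rw [← hsec m, hχ σ _ (hsecE m)] at hfin
    rw [show σ * sec m * σ⁻¹ * (sec m)⁻¹ = sec m * ((sec m)⁻¹ * (σ * sec m * σ⁻¹)) * (sec m)⁻¹ by group]
    exact hCn.conj_mem _ ((hπ _ _).1 (congrArg Subtype.val hfin).symm) _
  · -- the free case
    have hodd : Odd (Nat.card Q) := by
      obtain ⟨j, hj⟩ := IsPGroup.iff_card.1 hQs
      rw [hj]
      exact (hs.odd_of_ne_two hst).pow
    obtain ⟨w, ⟨j, rfl⟩, hw1, hw2⟩ := free_count hexp2 hodd hQs.isNilpotent hn ψ hψn hψ1 hψQ hfpf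
    have hle : (2 ^ j) ^ (n - 1) ≤ (n - 1) * (n - 1) := by
      refine hw2.trans (le_of_eq ?_)
      rw [← hcardD]
      exact Nat.card_congr (Equiv.subtypeEquivRight fun m => by rw [MonoidHom.mem_ker, hν])
    have hj1 : j ≤ 1 := by
      by_contra h
      have h1 : (2 ^ 2) ^ (n - 1) ≤ (2 ^ j) ^ (n - 1) :=
        Nat.pow_le_pow_left (Nat.pow_le_pow_right two_pos (by omega)) _
      have h2 : n - 1 < 2 ^ (n - 1) := Nat.lt_two_pow_self
      rw [← pow_mul, two_mul, pow_add] at h1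
      have h3 := Nat.mul_lt_mul'' h2 h2
      omega
    -- the moved part is non-degenerate
    let EW : Subgroup Γ := E ⊓ ((mv Q).map M.subtype).comap π
    have hEWmem : ∀ a ha, a ∈ EW ↔ mk a ha ∈ mv Q := fun a ha =>
      ⟨fun h => by
        obtain ⟨m, hm, hme⟩ := h.2
        rwa [show mk a ha = m from Subtype.ext hme.symm], fun h => ⟨ha, ⟨_, h, rfl⟩⟩⟩
    have hCW : C ≤ EW := fun c hc =>
      (hEWmem c (hS.le hc)).2 (by rw [(hmk1 c (hS.le hc)).2 hc]; exact one_mem _)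
    have hndW : ∀ a ∈ EW, (∀ b ∈ EW, lam ⁅a, b⁆ = 1) → a ∈ C := by
      intro a haW hb
      rw [← hmk1 a haW.1]
      refine hnd _ fun m' => ?_
      obtain ⟨c, hc, hcm⟩ := mv_decomp (Q := Q) hexp2 hodd m'
      have h1 : ∀ z ∈ mv Q, P (mk a haW.1) z = 1 := fun z hz => by
        rw [← hsec z, hP _ haW.1 _ (hsecE z)]
        exact hb _ ((hEWmem _ (hsecE z)).2 (by rw [hsec]; exact hz))
      have h2 : ∀ z ∈ mv Q, P z c = 1 := by
        have : mv Q ≤ (PL c).ker := by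
          refine (Subgroup.closure_le _).2 ?_
          rintro _ ⟨q, hq, z, rfl⟩
          show P (q z * z⁻¹) c = 1
          obtain ⟨g, -, rfl⟩ := hQQ0 hq
          have h := hPχ g z c
          rw [hc _ hq] at h
          rw [hPmul, h, ← hPmul, mul_inv_cancel, hP1]
        exact fun z hz => this hz
      have h3 := hPmul' (mk a haW.1) (c * m'⁻¹) m'
      rw [inv_mul_cancel_right, h1 _ hcm, one_mul, h2 _ ((hEWmem a haW.1).1 haW)] at h3
      exact h3.symm
    obtain ⟨N, hN⟩ := hS.square hCW inf_le_left hndW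
    rw [hrel, hw1] at hN
    rcases Nat.le_one_iff_eq_zero_or_eq_one.1 hj1 with rfl | rfl
    · rw [pow_zero, one_pow] at hw1
      refine hQbot ((Subgroup.eq_bot_iff_forall _).2 fun q hq => MulEquiv.ext fun m => ?_)
      have h := mem_mv (Q := Q) hq m
      rw [Subgroup.card_eq_one.1 hw1, Subgroup.mem_bot, mul_inv_eq_one] at h
      exact h
    · rw [pow_one] at hN
      obtain ⟨a, -, ha⟩ := (Nat.dvd_prime_pow Nat.prime_two).1 (Dvd.intro N hN.symm)
      rw [ha, ← pow_add] at hN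
      have h1 := Nat.pow_right_injective le_rfl hN
      obtain ⟨b, hb⟩ := hn.odd_of_ne_two hn2
      omega

end Cfsg.Agent.Perm.PQFix
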