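import Cfsg.Agent.Lib.Solv.CoprimeRep

/-!
# Weight spaces of an abelian subgroup and their stabilisers
-/

set_option autoImplicit false
set_option linter.style.haveILetI false
set_option linter.unusedSectionVars false

namespace Cfsg.Agent.Perm.PQFix

open Cfsg.Agent.Solv.CRep

universe u v w

variable {k : Type u} [Field k] [IsAlgClosed k]
variable {Γ : Type v} [Group Γ] [Finite Γ]
variable {V : Type w} [AddCommGroup V] [Module k V] [FiniteDimensional k V]
variable (ρ : Γ →* Module.End k V)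

/-- The weight space of `lam` with respect to `Z`. -/
def wsp (Z : Subgroup Γ) (lam : Γ → k) : Submodule k V where
  carrier := {v | ∀ z ∈ Z, ρ z v = lam z • v}
  add_mem' := fun {a b} ha hb z hz => by rw [map_add, ha z hz, hb z hz, smul_add]
  zero_mem' := fun z _ => by rw [map_zero, smul_zero]
  smul_mem' := fun c a ha z hz => by rw [map_smul, ha z hz, smul_comm]

theorem exists_weight (Z : Subgroup Γ) (hZ : ∀ a ∈ Z, ∀ b ∈ Z, a * b = b * a)
    (hZk : (Nat.card Z : k) ≠ 0) {z0 : Γ} (hz0 : z0 ∈ Z) (h : ρ z0 ≠ 1) :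
    ∃ lam : Γ → k, lam z0 ≠ 1 ∧ wsp ρ Z lam ≠ ⊥ := by
  classical
  by_contra hcon
  push Not at hcon
  refine h ?_
  let K : Subgroup Z := Subgroup.zpowers ⟨z0, hz0⟩
  haveI : K.Normal := ⟨fun a ha g => by
    rwa [show g * a * g⁻¹ = a from Subtype.ext (by
      simp only [Subgroup.coe_mul, Subgroup.coe_inv, hZ _ g.2 _ a.2, mul_inv_cancel_right])]⟩
  have hKk : (Nat.card K : k) ≠ 0 := by
    obtain ⟨c, hc⟩ := Subgroup.card_subgroup_dvd_card K
    rw [hc, Nat.cast_mul] at hZk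
    exact left_ne_zero_of_mul hZk
  refine triv_of_simple (ρ.comp Z.subtype) K hKk (fun U hU hs x hx w hw => ?_) ⟨z0, hz0⟩
    (Subgroup.mem_zpowers _)
  haveI := hs.1
  have hc : ∀ z : Z, ∃ c : k, subRep (ρ.comp Z.subtype) U hU z = c • (1 : Module.End k U) :=
    fun z => schur hs _ fun g => by
      rw [← map_mul, ← map_mul, show z * g = g * z from Subtype.ext (hZ _ z.2 _ g.2)]
  choose c hc using hc
  let lam : Γ → k := fun g => if hg : g ∈ Z then c ⟨g, hg⟩ else 1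
  have hlam : ∀ z (hz : z ∈ Z) (u : U), ρ z (u : V) = lam z • (u : V) := fun z hz u => by
    rw [show lam z = c ⟨z, hz⟩ from dif_pos hz]
    exact congrArg Subtype.val (LinearMap.congr_fun (hc ⟨z, hz⟩) u)
  have h1 : lam z0 = 1 := by
    by_contra hne
    have hbot := hcon lam hne
    obtain ⟨u, hu⟩ := exists_ne (0 : U)
    refine hu (Subtype.ext ?_)
    have : (u : V) ∈ wsp ρ Z lam := fun z hz => hlam z hz u
    rwa [hbot, Submodule.mem_bot] at this
  obtain ⟨i, hi⟩ := (mem_powers_iff_mem_zpowers.2 hx : x ∈ Submonoid.powers (⟨z0, hz0⟩ : Z))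
  show ρ (x : Γ) w = w
  rw [← hi]
  show ρ (z0 ^ i) w = w
  rw [map_pow]
  clear hi
  induction i with
  | zero => simp
  | succ i ih =>
    rw [pow_succ, Module.End.mul_apply, hlam z0 hz0 ⟨w, hw⟩, h1, one_smul]
    exact ih

variable {ρ} {Z : Subgroup Γ} {lam : Γ → k}

theorem wsp_scalar {v : V} (hv : v ∈ wsp ρ Z lam) {z : Γ} (hz : z ∈ Z) : ρ z v = lam z • v := hv z hz

theorem wt_mul (h : wsp ρ Z lam ≠ ⊥) {y z : Γ} (hy : y ∈ Z) (hz : z ∈ Z) :
    lam (y * z) = lam y * lam z := by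
  obtain ⟨v, hv, hv0⟩ := Submodule.exists_mem_ne_zero_of_ne_bot h
  have h1 := hv _ (mul_mem hy hz)
  rw [map_mul, Module.End.mul_apply, hv z hz, map_smul, hv y hy, smul_smul, mul_comm] at h1
  exact (smul_left_injective k hv0 h1).symm

theorem wt_one (h : wsp ρ Z lam ≠ ⊥) : lam 1 = 1 := by
  obtain ⟨v, hv, hv0⟩ := Submodule.exists_mem_ne_zero_of_ne_bot h
  have h1 := hv 1 (one_mem _)
  rw [map_one, Module.End.one_apply] at h1
  exact smul_left_injective k hv0 ((h1.symm).trans (one_smul k v).symm)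

theorem wt_ne_zero (h : wsp ρ Z lam ≠ ⊥) {z : Γ} (hz : z ∈ Z) : lam z ≠ 0 := fun h0 => by
  have := wt_mul h hz (inv_mem hz)
  rw [mul_inv_cancel, wt_one h, h0, zero_mul] at this
  exact one_ne_zero this

variable (Z lam) in
/-- The stabiliser of a weight. -/
def wstab : Subgroup Γ where
  carrier := {g | g ∈ Subgroup.normalizer (Z : Set Γ) ∧ ∀ z ∈ Z, lam (g * z * g⁻¹) = lam z}
  one_mem' := ⟨one_mem _, fun z _ => by rw [one_mul, inv_one, mul_one]⟩
  mul_mem' := fun {a b} ha hb => ⟨mul_mem ha.1 hb.1, fun z hz => by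
    rw [show a * b * z * (a * b)⁻¹ = a * (b * z * b⁻¹) * a⁻¹ by group,
      ha.2 _ ((Subgroup.mem_normalizer_iff.1 hb.1 z).1 hz), hb.2 z hz]⟩
  inv_mem' := fun {a} ha => ⟨inv_mem ha.1, fun z hz => by
    have h := (Subgroup.mem_normalizer_iff.1 (inv_mem ha.1) z).1 hz
    rw [← ha.2 _ h]
    congr 1
    group⟩

theorem mem_wstab {g : Γ} : g ∈ wstab Z lam ↔
    g ∈ Subgroup.normalizer (Z : Set Γ) ∧ ∀ z ∈ Z, lam (g * z * g⁻¹) = lam z := Iff.rfl

theorem wsp_stab {g : Γ} (hg : g ∈ wstab Z lam) {v : V} (hv : v ∈ wsp ρ Z lam) :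
    ρ g v ∈ wsp ρ Z lam := by
  intro z hz
  have hg' := inv_mem hg
  have hz' : g⁻¹ * z * g ∈ Z := (Subgroup.mem_normalizer_iff''.1 hg.1 z).1 hz
  rw [← Module.End.mul_apply, ← map_mul, show z * g = g * (g⁻¹ * z * g) by group, map_mul,
    Module.End.mul_apply, hv _ hz', map_smul, ← hg'.2 z hz, inv_inv]

/-- If the sum over `A` kills a weight vector, so does the sum over the stabiliser. -/
theorem norm_stab (hlam : wsp ρ Z lam ≠ ⊥) (hZk : (Nat.card Z : k) ≠ 0) (A : Subgroup Γ) [Fintype A]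
    (hAZ : A ≤ Subgroup.normalizer (Z : Set Γ)) {v : V} (hv : v ∈ wsp ρ Z lam)
    (h : ∑ a : A, ρ (a : Γ) v = 0) [DecidablePred fun a : A => (a : Γ) ∈ wstab Z lam] :
    ∑ a ∈ Finset.univ.filter (fun a : A => (a : Γ) ∈ wstab Z lam), ρ (a : Γ) v = 0 := by
  classical
  haveI : Fintype Z := Fintype.ofFinite Z
  let P : Module.End k V := ∑ z : Z, (lam (z : Γ))⁻¹ • ρ (z : Γ)
  have hP : ∀ a : A, P (ρ (a : Γ) v) =
      if (a : Γ) ∈ wstab Z lam then (Nat.card Z : k) • ρ (a : Γ) v else 0 := by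
    intro a
    have hmem : ∀ z ∈ Z, (a : Γ)⁻¹ * z * a ∈ Z := fun z hz =>
      (Subgroup.mem_normalizer_iff''.1 (hAZ a.2) z).1 hz
    have hact : ∀ z ∈ Z, ρ z (ρ (a : Γ) v) = lam ((a : Γ)⁻¹ * z * a) • ρ (a : Γ) v := fun z hz => by
      rw [← Module.End.mul_apply, ← map_mul,
        show z * (a : Γ) = a * ((a : Γ)⁻¹ * z * a) by group, map_mul, Module.End.mul_apply,
        hv _ (hmem z hz), map_smul]
    have heq : P (ρ (a : Γ) v) =
        (∑ z : Z, (lam (z : Γ))⁻¹ * lam ((a : Γ)⁻¹ * z * a)) • ρ (a : Γ) v := by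
      simp only [P, LinearMap.sum_apply, LinearMap.smul_apply, Finset.sum_smul]
      exact Finset.sum_congr rfl fun z _ => by rw [hact _ z.2, smul_smul]
    rw [heq]
    split_ifs with ha
    · rw [Finset.sum_congr rfl (g := fun _ => (1 : k)) fun z _ => ?_, Finset.sum_const, Finset.card_univ,
        nsmul_one, Nat.card_eq_fintype_card]
      have h1 := (inv_mem ha).2 _ z.2
      rw [inv_inv] at h1
      rw [h1, inv_mul_cancel₀ (wt_ne_zero hlam z.2)]
    · obtain ⟨z1, hz1, hne⟩ : ∃ z ∈ Z, lam ((a : Γ)⁻¹ * z * a) ≠ lam z := by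
        by_contra hall
        push Not at hall
        have hinv : (a : Γ)⁻¹ ∈ wstab Z lam :=
          ⟨inv_mem (hAZ a.2), fun z hz => by rw [inv_inv]; exact hall z hz⟩
        exact ha (inv_inv (a : Γ) ▸ inv_mem hinv)
      obtain ⟨s, hs⟩ : ∃ s, s = ∑ z : Z, (lam (z : Γ))⁻¹ * lam ((a : Γ)⁻¹ * z * a) := ⟨_, rfl⟩
      rw [← hs]
      have hshift : ((lam z1)⁻¹ * lam ((a : Γ)⁻¹ * z1 * a)) * s = s := by
        conv_rhs => rw [hs]
        rw [hs, Finset.mul_sum]
        refine Fintype.sum_equiv (Equiv.mulLeft (⟨z1, hz1⟩ : Z)) _ _ fun z => ?_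
        rw [Equiv.coe_mulLeft, Subgroup.coe_mul,
          show (a : Γ)⁻¹ * (z1 * z) * a = (a : Γ)⁻¹ * z1 * a * ((a : Γ)⁻¹ * z * a) by group,
          wt_mul hlam (hmem _ hz1) (hmem _ z.2), wt_mul hlam hz1 z.2, mul_inv]
        ring
      have hne1 : (lam z1)⁻¹ * lam ((a : Γ)⁻¹ * z1 * a) - 1 ≠ 0 := sub_ne_zero.2 fun h1 =>
        hne ((inv_mul_eq_one₀ (wt_ne_zero hlam hz1)).1 h1).symm
      have : ((lam z1)⁻¹ * lam ((a : Γ)⁻¹ * z1 * a) - 1) * s = 0 := by
        rw [sub_mul, one_mul, hshift, sub_self]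
      rw [(mul_eq_zero.1 this).resolve_left hne1, zero_smul]
  have h1 := congrArg P h
  rw [map_sum, map_zero, Finset.sum_congr rfl (fun a _ => hP a), ← Finset.sum_filter,
    ← Finset.smul_sum] at h1
  exact (smul_eq_zero.1 h1).resolve_left hZk

end Cfsg.Agent.Perm.PQFix
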