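import Cfsg.Agent.Lib.Perm.PQFix.CoreEnd
import Cfsg.Agent.Lib.Perm.PQFix.Moved
import Cfsg.Agent.Lib.Perm.PQFix.Complement
import Cfsg.Agent.Lib.Perm.PQFix.Weights

/-!
# The representation-theoretic core: `A` of order `pq` with zero trace operator
-/

set_option autoImplicit false
set_option linter.style.haveILetI false
set_option linter.unusedSectionVars false

namespace Cfsg.Agent.Perm.PQFix

open scoped commutatorElement Pointwise
open Cfsg.Agent.Solv Cfsg.Agent.Solv.CRep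

universe u v w

variable {k : Type u} [Field k] [IsAlgClosed k]
variable {Γ : Type v} [Group Γ] [Finite Γ]
variable {V : Type w} [AddCommGroup V] [Module k V] [FiniteDimensional k V]
variable {t s p q : ℕ} {T Sg A C : Subgroup Γ}

/-- A weight on `Z` fixed by all of `A` is trivial, so the stabiliser in `A` of a nontrivial weight
is generated by an element of prime order without fixed vector on the weight space. -/
theorem stab_prime (hc : Cfg t s p q T Sg A C) (ρ : Γ →* Module.End k V)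
    [Fintype A] (hnorm : ∀ v, ∑ a : A, ρ (a : Γ) v = 0) (Z : Subgroup Γ) (hZT : Z ≤ T)
    (hAZ : A ≤ Subgroup.normalizer (Z : Set Γ)) (hZk : (Nat.card Z : k) ≠ 0) {lam : Γ → k}
    (hw : wsp ρ Z lam ≠ ⊥) {z0 : Γ} (hz0 : z0 ∈ Z) (hne : lam z0 ≠ 1) :
    ∃ n x, n.Prime ∧ (n = p ∨ n = q) ∧ orderOf x = n ∧ Subgroup.zpowers x = A ⊓ wstab Z lam ∧
      ∀ v ∈ wsp ρ Z lam, ∑ i ∈ Finset.range n, (ρ x ^ i) v = 0 := by
  classical
  obtain ⟨v0, hv0, hv00⟩ := Submodule.exists_mem_ne_zero_of_ne_bot hw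
  have hbot : A ⊓ wstab Z lam ≠ ⊥ := by
    intro h
    have h1 := norm_stab hw hZk A hAZ hv0 (hnorm v0)
    rw [Finset.sum_eq_single (1 : A) ?h₀ ?h₁, OneMemClass.coe_one, map_one, Module.End.one_apply] at h1
    case h₀ =>
      intro a ha ha1
      exact absurd (Subtype.ext ((Subgroup.eq_bot_iff_forall _).1 h _
        (Subgroup.mem_inf.2 ⟨a.2, (Finset.mem_filter.1 ha).2⟩))) ha1
    case h₁ => exact fun h => (h (Finset.mem_filter.2 ⟨Finset.mem_univ _, (wstab Z lam).one_mem⟩)).elim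
    exact hv00 h1
  have htop : A ⊓ wstab Z lam ≠ A := by
    intro h
    have hAst : A ≤ wstab Z lam := fun a ha => (h.ge ha).2
    let K : Subgroup Γ :=
      { carrier := {z | z ∈ Z ∧ lam z = 1}
        one_mem' := ⟨one_mem _, wt_one hw⟩
        mul_mem' := fun {a b} ha hb => ⟨mul_mem ha.1 hb.1, by rw [wt_mul hw ha.1 hb.1, ha.2, hb.2, mul_one]⟩
        inv_mem' := fun {a} ha => ⟨inv_mem ha.1, by
          have := wt_mul hw ha.1 (inv_mem ha.1)
          rw [mul_inv_cancel, wt_one hw, ha.2, one_mul] at this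
          exact this.symm⟩ }
    have hsup := commutator_sup_fixed (K := Z) hAZ
      (hc.cop_TA.symm.coprime_dvd_right (Subgroup.card_dvd_of_le hZT))
      (Or.inr (isSolvable_of_le hZT hc.solT))
    rw [show Z ⊓ Subgroup.centralizer (A : Set Γ) = ⊥ from
      le_bot_iff.1 ((inf_le_inf_right _ hZT).trans hc.cTA.le), sup_bot_eq] at hsup
    have hle : ⁅Z, A⁆ ≤ K := Subgroup.commutator_le.2 fun z hz a ha => by
      have h1 : a * z⁻¹ * a⁻¹ ∈ Z := (Subgroup.mem_normalizer_iff.1 (hAZ ha) _).1 (inv_mem hz)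
      rw [show ⁅z, a⁆ = z * (a * z⁻¹ * a⁻¹) by simp only [commutatorElement_def]; group]
      refine ⟨mul_mem hz h1, ?_⟩
      rw [wt_mul hw hz h1, (hAst ha).2 _ (inv_mem hz), ← wt_mul hw hz (inv_mem hz), mul_inv_cancel,
        wt_one hw]
    exact hne (hle (hsup.ge hz0)).2
  obtain ⟨hpr, hpq⟩ := prime_sub hc.pp hc.pq hc.cardA inf_le_left hbot htop
  obtain ⟨x, hxm, hx1⟩ := (A ⊓ wstab Z lam).bot_or_exists_ne_one.resolve_left hbot
  haveI := Fact.mk hpr
  have hxo : orderOf x = Nat.card (A ⊓ wstab Z lam : Subgroup Γ) := by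
    refine orderOf_eq_prime ?_ hx1
    exact congrArg Subtype.val (pow_card_eq_one' (x := (⟨x, hxm⟩ : (A ⊓ wstab Z lam : Subgroup Γ))))
  have hgen : Subgroup.zpowers x = A ⊓ wstab Z lam := Subgroup.eq_of_le_of_card_ge
    (Subgroup.zpowers_le.2 hxm) (by rw [Nat.card_zpowers, hxo])
  refine ⟨_, x, hpr, hpq, hxo, hgen, fun v hv => ?_⟩
  rw [← norm_stab hw hZk A hAZ hv (hnorm v)]
  refine Finset.sum_bij (fun i _ => (⟨x ^ i, pow_mem hxm.1 i⟩ : A)) (fun i _ => ?_) (fun i hi j hj h => ?_)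
    (fun a ha => ?_) (fun i _ => by rw [map_pow])
  · exact Finset.mem_filter.2 ⟨Finset.mem_univ _, pow_mem hxm.2 i⟩
  · exact pow_injOn_Iio_orderOf (hxo ▸ Finset.mem_range.1 hi) (hxo ▸ Finset.mem_range.1 hj)
      (congrArg Subtype.val h)
  · have hmem : (a : Γ) ∈ Subgroup.zpowers x := hgen.ge ⟨a.2, (Finset.mem_filter.1 ha).2⟩
    obtain ⟨j, hj⟩ := mem_powers_iff_mem_zpowers.2 hmem
    exact ⟨j % orderOf x, Finset.mem_range.2 (hxo ▸ Nat.mod_lt _ (orderOf_pos x)),
      Subtype.ext ((pow_mod_orderOf x j).trans hj)⟩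

/-- Some element of prime order of `A` centralises a proper section `T/R`. -/
theorem exists_section (hc : Cfg t s p q T Sg A C)
    (hCdef : T ⊓ Subgroup.centralizer (Sg : Set Γ) ≤ C)
    (hSab : ∀ σ ∈ Sg, ∀ σ' ∈ Sg, ∀ e ∈ T, ⁅σ, σ'⁆ * e = e * ⁅σ, σ'⁆)
    (htk : (t : k) ≠ 0) (hpk : (p : k) ≠ 0) (hqk : (q : k) ≠ 0)
    (ρ : Γ →* Module.End k V) (hinj : ∀ u ∈ T, ρ u = 1 → u = 1)
    [Fintype A] (hnorm : ∀ v, ∑ a : A, ρ (a : Γ) v = 0) :
    ∃ n x R, n.Prime ∧ (n = p ∨ n = q) ∧ orderOf x = n ∧ x ∈ A ∧ C ≤ R ∧ R ≤ T ∧ R ≠ T ∧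
      Sg ≤ Subgroup.normalizer (R : Set Γ) ∧ x ∈ actTriv T R := by
  classical
  haveI := hc.tn
  haveI := hc.cn
  haveI := Fact.mk hc.pt
  have hcardk : ∀ Z ≤ T, (Nat.card Z : k) ≠ 0 := fun Z hZ => by
    obtain ⟨j, hj⟩ := IsPGroup.iff_card.1 (hc.tgrp.to_le hZ)
    rw [hj, Nat.cast_pow]; exact pow_ne_zero _ htk
  have hNT : ∀ g : Γ, g ∈ Subgroup.normalizer (T : Set Γ) := fun g => hc.le_norm ⊤ T hc.tn trivial
  by_cases hTab : ∀ a ∈ T, ∀ b ∈ T, a * b = b * a
  · -- `T` abelian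
    obtain ⟨z0, hz0, hz01⟩ : ∃ z ∈ T, z ≠ 1 := T.bot_or_exists_ne_one.resolve_left
      (fun h => hc.notle (h.le.trans bot_le))
    obtain ⟨lam, hne, hw⟩ := exists_weight ρ T hTab (hcardk T le_rfl) hz0 (fun h => hz01 (hinj z0 hz0 h))
    let tw : Γ → Γ → k := fun σ z => lam (σ * z * σ⁻¹)
    have hwσ : ∀ σ : Γ, wsp ρ T (tw σ) ≠ ⊥ := by
      intro σ
      obtain ⟨v, hv, hv0⟩ := Submodule.exists_mem_ne_zero_of_ne_bot hw
      refine (Submodule.ne_bot_iff _).2 ⟨ρ σ⁻¹ v, fun z hz => ?_, fun h => hv0 ?_⟩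
      · rw [← Module.End.mul_apply, ← map_mul, show z * σ⁻¹ = σ⁻¹ * (σ * z * σ⁻¹) by group, map_mul,
          Module.End.mul_apply, hv _ (hc.tn.conj_mem z hz σ), map_smul]
      · rw [← rep_apply_inv ρ σ v, h, map_zero]
    have hAT : A ≤ Subgroup.normalizer (T : Set Γ) := fun a _ => hNT a
    have htwne : ∀ σ : Γ, tw σ (σ⁻¹ * z0 * σ) ≠ 1 := fun σ => by
      show lam (σ * (σ⁻¹ * z0 * σ) * σ⁻¹) ≠ 1
      rwa [show σ * (σ⁻¹ * z0 * σ) * σ⁻¹ = z0 by group]
    have hzσ : ∀ σ : Γ, σ⁻¹ * z0 * σ ∈ T := fun σ => (Subgroup.mem_normalizer_iff''.1 (hNT σ) z0).1 hz0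
    have hstabσ : ∀ σ : Γ, ∀ g ∈ wstab T (tw σ), σ * g * σ⁻¹ ∈ wstab T lam := fun σ g hg => by
      refine ⟨hNT _, fun z hz => ?_⟩
      have h1 := hg.2 _ ((Subgroup.mem_normalizer_iff''.1 (hNT σ) z).1 hz)
      simp only [tw] at h1
      rw [show σ * g * σ⁻¹ * z * (σ * g * σ⁻¹)⁻¹ = σ * (g * (σ⁻¹ * z * σ) * g⁻¹) * σ⁻¹ by group, h1]
      congr 1
      group
    obtain ⟨n, x, hn, hnpq, hxo, hxgen, -⟩ := stab_prime hc ρ hnorm T le_rfl hAT (hcardk T le_rfl) hw hz0 hne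
    have hxm : x ∈ A ⊓ wstab T lam := hxgen.le (Subgroup.mem_zpowers x)
    -- all stabilisers in an orbit coincide
    have hsame : ∀ σ ∈ Sg, x ∈ wstab T (tw σ) := by
      intro σ hσ
      obtain ⟨n', x', hn', -, hxo', hxgen', -⟩ := stab_prime hc ρ hnorm T le_rfl hAT (hcardk T le_rfl) (hwσ σ)
        (hzσ σ) (htwne σ)
      have hx'm : x' ∈ A ⊓ wstab T (tw σ) := hxgen'.le (Subgroup.mem_zpowers x')
      by_contra hxσ
      have hAeq : A = Subgroup.zpowers x ⊔ Subgroup.zpowers x' := (sup_eq hc.pp hc.pq hc.cardA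
        (Subgroup.zpowers_le.2 hxm.1) (Subgroup.zpowers_le.2 hx'm.1)
        (fun e => hxσ (hxgen'.le (e ▸ Subgroup.mem_zpowers x)).2)
        (by rw [Nat.card_zpowers, hxo]; exact hn) (by rw [Nat.card_zpowers, hxo']; exact hn')).symm
      let L : Subgroup Γ := Sg ⊔ A
      let K : Subgroup Γ := L ⊓ wstab T lam
      have hAK : A ≤ Sg ⊔ K := by
        rw [hAeq]
        refine sup_le (Subgroup.zpowers_le.2 (Subgroup.mem_sup_right ⟨Subgroup.mem_sup_right hxm.1, hxm.2⟩))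
          (Subgroup.zpowers_le.2 ?_)
        have hσL : σ ∈ L := Subgroup.mem_sup_left hσ
        have hxL' : x' ∈ L := Subgroup.mem_sup_right hx'm.1
        have h1 : σ * x' * σ⁻¹ ∈ K :=
          Subgroup.mem_inf.2 ⟨mul_mem (mul_mem hσL hxL') (inv_mem hσL), hstabσ σ x' hx'm.2⟩
        have h2 := mul_mem (mul_mem (Subgroup.mem_sup_left (inv_mem hσ) : σ⁻¹ ∈ Sg ⊔ K)
          (Subgroup.mem_sup_right h1)) (Subgroup.mem_sup_left hσ)
        rwa [show σ⁻¹ * (σ * x' * σ⁻¹) * σ = x' by group] at h2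
      have hKL : K ≤ Subgroup.normalizer (Sg : Set Γ) :=
        inf_le_left.trans (sup_le Subgroup.le_normalizer hc.As)
      have hsupL : Sg ⊔ K = L := le_antisymm (sup_le le_sup_left inf_le_left) (sup_le le_sup_left hAK)
      have hidx : ((Sg ⊓ K).subgroupOf K).index = p * q := by
        have h1 := card_sup_mul_card_inf' Sg K hKL
        have h0 := card_sup_mul_card_inf' Sg A hc.As
        rw [Subgroup.inf_eq_bot_of_coprime hc.cop_SA, Subgroup.card_bot, mul_one] at h0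
        rw [hsupL, show Nat.card L = _ from h0, hc.cardA] at h1
        have h2 := Subgroup.index_mul_card ((Sg ⊓ K).subgroupOf K)
        rw [card_subgroupOf inf_le_right] at h2
        refine Nat.eq_of_mul_eq_mul_right (Nat.card_pos (α := (Sg ⊓ K : Subgroup Γ))) ?_
        rw [h2]
        refine Nat.eq_of_mul_eq_mul_left (Nat.card_pos (α := Sg)) ?_
        rw [← h1]
        ring
      haveI : ((Sg ⊓ K).subgroupOf K).Normal := ⟨fun g hg y => by
        rw [Subgroup.mem_subgroupOf] at hg ⊢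
        exact Subgroup.mem_inf.2 ⟨(Subgroup.mem_normalizer_iff.1 (hKL y.2) _).1 (Subgroup.mem_inf.1 hg).1,
          mul_mem (mul_mem y.2 (Subgroup.mem_inf.1 hg).2) (inv_mem y.2)⟩⟩
      obtain ⟨A', hA'⟩ := Subgroup.exists_right_complement'_of_coprime (N := (Sg ⊓ K).subgroupOf K) (by
        rw [hidx, card_subgroupOf inf_le_right, ← hc.cardA]
        exact hc.cop_SA.coprime_dvd_left (Subgroup.card_dvd_of_le inf_le_left))
      have hA'c : Nat.card (A'.map K.subtype) = Nat.card A := by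
        rw [Subgroup.card_map_of_injective K.subtype_injective, hc.cardA, ← hidx]
        exact hA'.symm.index_eq_card.symm
      obtain ⟨τ, hτ, hτA⟩ := sz_conj_rel Sg A (A'.map K.subtype) hc.As
        ((Subgroup.map_subtype_le _).trans inf_le_left) hc.cop_SA hA'c (Or.inl hc.solS)
      have hAst : ∀ a ∈ A, τ * a * τ⁻¹ ∈ wstab T lam := fun a ha => by
        have h3 : τ * a * τ⁻¹ ∈ MulAut.conj τ • A := Subgroup.smul_mem_pointwise_smul _ (MulAut.conj τ) _ ha
        rw [hτA] at h3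
        obtain ⟨y, -, hy⟩ := h3
        exact hy ▸ y.2.2
      obtain ⟨n'', x'', hn'', hpq'', hxo'', hgen'', -⟩ := stab_prime hc ρ hnorm T le_rfl hAT (hcardk T le_rfl) (hwσ τ)
        (hzσ τ) (htwne τ)
      have hAtw : A ≤ wstab T (tw τ) := fun a ha => ⟨hNT a, fun z hz => by
        have h1 := (hAst a ha).2 _ (hc.tn.conj_mem z hz τ)
        simp only [tw]
        rw [← h1]
        congr 1
        group⟩
      have hcard2 : Nat.card (Subgroup.zpowers x'') = p * q := by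
        rw [hgen'', inf_eq_left.2 hAtw, hc.cardA]
      rw [Nat.card_zpowers] at hcard2
      have hle : orderOf x'' ≤ p := by
        rcases hpq'' with h | h
        · omega
        · have := hc.qp; omega
      have := Nat.mul_le_mul_left p hc.pq.two_le
      have := hc.pp.pos
      omega
    let K0 : Subgroup Γ :=
      { carrier := {e | e ∈ T ∧ ∀ σ ∈ Sg, tw σ e = 1}
        one_mem' := ⟨one_mem _, fun σ _ => wt_one (hwσ σ)⟩
        mul_mem' := fun {a b} ha hb => ⟨mul_mem ha.1 hb.1, fun σ hσ => by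
          rw [wt_mul (hwσ σ) ha.1 hb.1, ha.2 σ hσ, hb.2 σ hσ, mul_one]⟩
        inv_mem' := fun {a} ha => ⟨inv_mem ha.1, fun σ hσ => by
          have := wt_mul (hwσ σ) ha.1 (inv_mem ha.1)
          rw [mul_inv_cancel, wt_one (hwσ σ), ha.2 σ hσ, one_mul] at this
          exact this.symm⟩ }
    have hK0S : Sg ≤ Subgroup.normalizer (K0 : Set Γ) := fun τ hτ => Subgroup.mem_normalizer_fintype
      fun e he => ⟨hc.tn.conj_mem e he.1 τ, fun σ hσ => by
        have := he.2 (σ * τ) (mul_mem hσ hτ)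
        simp only [tw] at this ⊢
        rw [← this]
        congr 1
        group⟩
    have hcom : ∀ e ∈ T, ⁅x, e⁆ ∈ K0 := fun e he => by
      have hxe : x * e * x⁻¹ ∈ T := hc.tn.conj_mem e he x
      refine ⟨by rw [commutatorElement_def]; exact mul_mem hxe (inv_mem he), fun σ hσ => ?_⟩
      rw [commutatorElement_def, wt_mul (hwσ σ) hxe (inv_mem he), (hsame σ hσ).2 e he,
        ← wt_mul (hwσ σ) he (inv_mem he), mul_inv_cancel, wt_one (hwσ σ)]
    refine ⟨n, x, C ⊔ K0, hn, hnpq, hxo, hxm.1, le_sup_left, sup_le hc.cT (fun e (he : e ∈ K0) => he.1), fun h => ?_,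
      fun τ hτ => ?_, ?_⟩
    · have hle : T ≤ K0 := by
        rw [← hc.gen]
        refine Subgroup.commutator_le.2 fun e he σ hσ => ?_
        obtain ⟨c, hcc, y, hy, rfl⟩ := Subgroup.mem_sup_of_normal_left.1 (h.ge he)
        have h1 : σ * c = c * σ := (Subgroup.mem_centralizer_iff.1 (hc.cS hcc) σ hσ)
        have h2 : ⁅c * y, σ⁆ = ⁅y, σ⁆ := by
          have hσy : σ * y⁻¹ * σ⁻¹ ∈ T := hc.tn.conj_mem _ (inv_mem hy.1) σ
          calc ⁅c * y, σ⁆ = c * (y * (σ * y⁻¹ * σ⁻¹)) * (σ * c⁻¹ * σ⁻¹) := by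
                simp only [commutatorElement_def]; group
            _ = c * (y * (σ * y⁻¹ * σ⁻¹)) * c⁻¹ := by
                rw [show σ * c⁻¹ * σ⁻¹ = (σ * c * σ⁻¹)⁻¹ by group, h1, mul_inv_cancel_right]
            _ = _ := by
                rw [hTab c (hc.cT hcc) _ (mul_mem hy.1 hσy), mul_inv_cancel_right]
                simp only [commutatorElement_def]; group
        rw [h2, show ⁅y, σ⁆ = y * (σ * y⁻¹ * σ⁻¹) by simp only [commutatorElement_def]; group]
        exact mul_mem hy ((Subgroup.mem_normalizer_iff.1 (hK0S hσ) _).1 (inv_mem hy))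
      have := (hle hz0).2 1 (one_mem _)
      simp only [tw, one_mul, inv_one, mul_one] at this
      exact hne this
    · refine Subgroup.mem_normalizer_fintype fun u hu => ?_
      have hle2 : C ⊔ K0 ≤ (C ⊔ K0).comap (MulAut.conj τ).toMonoidHom := sup_le
        (fun z hz => Subgroup.mem_sup_left (hc.cn.conj_mem z hz τ))
        (fun z hz => Subgroup.mem_sup_right ((Subgroup.mem_normalizer_iff.1 (hK0S hτ) z).1 hz))
      exact hle2 hu
    · refine ⟨⟨hNT x, Subgroup.mem_normalizer_fintype fun u hu => ?_⟩,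
        fun e he => Subgroup.mem_sup_right (hcom e he)⟩
      have huT : u ∈ T := sup_le hc.cT (fun e (he : e ∈ K0) => he.1) hu
      rw [show x * u * x⁻¹ = ⁅x, u⁆ * u by simp only [commutatorElement_def]; group]
      exact mul_mem (Subgroup.mem_sup_right (hcom u huT)) hu
  · -- `T` non-abelian
    push Not at hTab
    obtain ⟨a, ha, b, hb, hab⟩ := hTab
    have hz01 : ⁅a, b⁆ ≠ 1 := fun h => hab (commutatorElement_eq_one_iff_mul_comm.1 h)
    have hCab : ∀ c ∈ C, ∀ d ∈ C, c * d = d * c := fun c hcc d hd => hc.cz c hcc d (hc.cT hd)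
    have hz0 : ⁅a, b⁆ ∈ C := hc.comm a ha b hb
    obtain ⟨lam, hne, hw⟩ := exists_weight ρ C hCab (hcardk C hc.cT) hz0
      (fun h => hz01 (hinj _ (hc.cT hz0) h))
    obtain ⟨n, x, hn, hnpq, hxo, hxgen, hxsum⟩ := stab_prime hc ρ hnorm C hc.cT (hc.le_norm A C hc.cn)
      (hcardk C hc.cT) hw hz0 hne
    have hxm : x ∈ A ⊓ wstab C lam := hxgen.le (Subgroup.mem_zpowers x)
    have hNC : ∀ g : Γ, g ∈ Subgroup.normalizer (C : Set Γ) := fun g => hc.le_norm ⊤ C hc.cn trivial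
    have hTst : T ≤ wstab C lam := fun e he => ⟨hNC e, fun z hz => by
      rw [← hc.cz z hz e he, mul_inv_cancel_right]⟩
    have hSst : Sg ≤ wstab C lam := fun σ hσ => ⟨hNC σ, fun z hz => by
      rw [Subgroup.mem_centralizer_iff.1 (hc.cS hz) σ hσ, mul_inv_cancel_right]⟩
    have hbil : ∀ e ∈ T, ∀ e' ∈ T, ∀ d ∈ T, lam ⁅e * e', d⁆ = lam ⁅e, d⁆ * lam ⁅e', d⁆ := by
      intro e he e' he' d hd
      have h1 := hc.cz _ (hc.comm e' he' d hd) e he
      rw [show ⁅e * e', d⁆ = e * ⁅e', d⁆ * e⁻¹ * ⁅e, d⁆ by simp only [commutatorElement_def]; group, ← h1,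
        mul_inv_cancel_right, wt_mul hw (hc.comm e' he' d hd) (hc.comm e he d hd), mul_comm]
    let R : Subgroup Γ :=
      { carrier := {e | e ∈ T ∧ ∀ d ∈ T, lam ⁅e, d⁆ = 1}
        one_mem' := ⟨one_mem _, fun d _ => by rw [commutatorElement_one_left, wt_one hw]⟩
        mul_mem' := fun {y z} hy hz => ⟨mul_mem hy.1 hz.1, fun d hd => by
          rw [hbil y hy.1 z hz.1 d hd, hy.2 d hd, hz.2 d hd, mul_one]⟩
        inv_mem' := fun {y} hy => ⟨inv_mem hy.1, fun d hd => by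
          have := hbil y hy.1 y⁻¹ (inv_mem hy.1) d hd
          rw [mul_inv_cancel, commutatorElement_one_left, wt_one hw, hy.2 d hd, one_mul] at this
          exact this.symm⟩ }
    have hCR : C ≤ R := fun c hcc => ⟨hc.cT hcc, fun d hd => by
      rw [commutatorElement_eq_one_iff_mul_comm.2 (hc.cz c hcc d hd), wt_one hw]⟩
    have hRT : R ≤ T := fun e he => he.1
    have hne' : R ≠ T := fun h => hne ((h.ge ha).2 b hb)
    have hstR : ∀ g ∈ wstab C lam, g ∈ Subgroup.normalizer (R : Set Γ) := fun g hg =>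
      Subgroup.mem_normalizer_fintype fun e he => ⟨hc.tn.conj_mem e he.1 g, fun d hd => by
        have h1 : g⁻¹ * d * g ∈ T := (Subgroup.mem_normalizer_iff''.1 (hNT g) d).1 hd
        rw [show ⁅g * e * g⁻¹, d⁆ = g * ⁅e, g⁻¹ * d * g⁆ * g⁻¹ by simp only [commutatorElement_def]; group,
          hg.2 _ (hc.comm e he.1 _ h1)]
        exact he.2 _ h1⟩
    -- the complement
    let B : Subgroup Γ := Sg ⊔ Subgroup.zpowers x
    have hBst : B ≤ wstab C lam := sup_le hSst (Subgroup.zpowers_le.2 hxm.2)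
    have hxS : Subgroup.zpowers x ≤ Subgroup.normalizer (Sg : Set Γ) := (Subgroup.zpowers_le.2 hxm.1).trans hc.As
    have hBcop : (Nat.card B).Coprime t := by
      have h1 := card_sup_mul_card_inf' Sg (Subgroup.zpowers x) hxS
      have hd : Nat.card B ∣ Nat.card Sg * Nat.card (Subgroup.zpowers x) := Dvd.intro _ h1
      haveI := Fact.mk hc.ps
      obtain ⟨j, hj⟩ := IsPGroup.iff_card.1 hc.sgrp
      refine (Nat.Coprime.mul_left ?_ ?_).coprime_dvd_left hd
      · rw [hj]; exact ((Nat.coprime_primes hc.ps hc.pt).2 (Ne.symm hc.ts)).pow_left j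
      · rw [Nat.card_zpowers, hxo]
        refine (Nat.coprime_primes hn hc.pt).2 ?_
        rcases hnpq with h | h
        · exact h ▸ Ne.symm hc.tp
        · exact h ▸ Ne.symm hc.tq
    obtain ⟨E, hCE, hET, hBE, hER, hcov⟩ := exists_invariant_complement_section B T C R hc.pt (fun g _ => hNT g)
      (fun g hg => hstR g (hBst hg)) hCR hRT (fun g _ => hNC g) (fun g _ => hNC g) hc.comm hc.expo hBcop
    let L : Subgroup Γ := wstab C lam ⊓ Subgroup.normalizer (E : Set Γ)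
    have hEL : E ≤ L := le_inf (hET.trans hTst) Subgroup.le_normalizer
    have hBL : B ≤ L := le_inf hBst hBE
    have hSL : Sg ≤ L := le_sup_left.trans hBL
    have hxL : x ∈ L := hBL (Subgroup.mem_sup_right (Subgroup.mem_zpowers x))
    let ρW : L →* Module.End k (wsp ρ C lam) :=
      subRep (ρ.comp L.subtype) (wsp ρ C lam) (fun g v hv => wsp_stab g.2.1 hv)
    haveI : Nontrivial (wsp ρ C lam) := Submodule.nontrivial_iff_ne_bot.2 hw
    have hS : Setup t (E.subgroupOf L) (C.subgroupOf L) ρW (fun g => lam g.1) :=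
      { prime := hc.pt
        tk := htk
        tgroup := (hc.tgrp.to_le hET).comap_subtype
        le := fun c hcc => hCE hcc
        central := fun c hcc e he => Subtype.ext (hc.cz c.1 hcc e.1 (hET he))
        comm := fun y hy z hz => hc.comm y.1 (hET hy) z.1 (hET hz)
        expo := fun y hy => hc.expo y.1 (hET hy)
        scalar := fun c hcc => LinearMap.ext fun v => Subtype.ext (v.2 _ hcc)
        nd := fun y hy hnd => by
          have hyE : (y : Γ) ∈ E := hy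
          obtain ⟨y0, hy0⟩ : ∃ y0 : Γ, y0 = (y : Γ) := ⟨_, rfl⟩
          have hnd' : ∀ b ∈ E, lam ⁅y0, b⁆ = 1 := fun b hb => by
            rw [hy0]; exact hnd ⟨b, hEL hb⟩ hb
          have hy0E : y0 ∈ E := hy0 ▸ hyE
          have hy0T : y0 ∈ T := hET hy0E
          have hyR : y0 ∈ R := ⟨hy0T, fun d hd => by
            obtain ⟨r, hr, hre⟩ := hcov d hd
            have h1 := hbil r hr.1 _ (hET hre) y0 hy0T
            rw [mul_inv_cancel_left, hr.2 y0 hy0T, one_mul] at h1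
            have e1 : lam ⁅d, y0⁆ * lam ⁅y0, d⁆ = 1 := by
              rw [← wt_mul hw (hc.comm d hd _ hy0T) (hc.comm _ hy0T d hd),
                ← commutatorElement_inv y0 d, inv_mul_cancel, wt_one hw]
            have e2 : lam ⁅r⁻¹ * d, y0⁆ * lam ⁅y0, r⁻¹ * d⁆ = 1 := by
              rw [← wt_mul hw (hc.comm _ (hET hre) _ hy0T) (hc.comm _ hy0T _ (hET hre)),
                ← commutatorElement_inv y0 (r⁻¹ * d), inv_mul_cancel, wt_one hw]
            rw [hnd' _ hre, mul_one] at e2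
            rw [h1, e2, one_mul] at e1
            exact e1⟩
          show (y : Γ) ∈ C
          rw [← hy0]
          exact hER.le (Subgroup.mem_inf.2 ⟨hy0E, hyR⟩) }
    haveI : (E.subgroupOf L).Normal := Subgroup.normal_subgroupOf_of_le_normalizer inf_le_right
    haveI : (C.subgroupOf L).Normal := Subgroup.normal_subgroupOf_of_le_normalizer (fun g _ => hNC g)
    haveI := Fact.mk hn
    have hnst : n ≠ t ∧ n ≠ s ∧ (n : k) ≠ 0 := by
      rcases hnpq with h | h
      · exact ⟨h ▸ Ne.symm hc.tp, h ▸ Ne.symm hc.sp, h ▸ hpk⟩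
      · exact ⟨h ▸ Ne.symm hc.tq, h ▸ Ne.symm hc.sq, h ▸ hqk⟩
    have hsum : ∑ i ∈ Finset.range n, ρW ⟨x, hxL⟩ ^ i = 0 := LinearMap.ext fun v => Subtype.ext (by
      rw [LinearMap.sum_apply, Submodule.coe_sum, LinearMap.zero_apply, ZeroMemClass.coe_zero]
      refine (Finset.sum_congr rfl fun i _ => ?_).trans (hxsum v v.2)
      rw [← map_pow, ← map_pow]
      rfl)
    have hmoved := hS.moved hc.ps (Ne.symm hc.ts) hn hnst.1 hnst.2.1 hnst.2.2 (x := ⟨x, hxL⟩)
      (Subtype.ext (by rw [SubmonoidClass.coe_pow, OneMemClass.coe_one, ← hxo, pow_orderOf_eq_one])) hsum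
      (Sg.subgroupOf L) hc.sgrp.comap_subtype
      (fun σ hσ => (Subgroup.mem_normalizer_iff.1 (hc.As hxm.1) _).1 hσ)
      (fun σ hσ c hcc => Subtype.ext (by
        show (σ : Γ) * c * (σ : Γ)⁻¹ = c
        rw [Subgroup.mem_centralizer_iff.1 (hc.cS (show (c : Γ) ∈ C from hcc)) (σ : Γ) hσ, mul_inv_cancel_right]))
      (fun σ hσ σ' hσ' e he => Subtype.ext (hSab _ hσ _ hσ' _ (hET he)))
      (fun e he hfix => hc.fixS hCdef (hET he) fun σ hσ => hfix ⟨σ, hSL hσ⟩ hσ)
    refine ⟨n, x, R, hn, hnpq, hxo, hxm.1, hCR, hRT, hne', fun g hg => hstR g (hSst hg),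
      ⟨hNT x, hstR x hxm.2⟩, fun d hd => ?_⟩
    obtain ⟨r, hr, hre⟩ := hcov d hd
    have h1 : ⁅x, r⁻¹ * d⁆ ∈ C := hmoved ⟨r⁻¹ * d, hEL hre⟩ hre
    have h2 : ⁅x, r⁆ ∈ R := by
      rw [commutatorElement_def]
      exact mul_mem ((Subgroup.mem_normalizer_iff.1 (hstR x hxm.2) r).1 hr) (inv_mem hr)
    rw [show ⁅x, d⁆ = ⁅x, r⁆ * (r * ⁅x, r⁻¹ * d⁆ * r⁻¹) by simp only [commutatorElement_def]; group]
    exact mul_mem h2 (mul_mem (mul_mem hr (hCR h1)) (inv_mem hr))

theorem frattini_ne_top {P : Type v} [Group P] [Finite P] [Nontrivial P] : frattini P ≠ ⊤ := by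
  obtain ⟨M, hM, -⟩ := (eq_top_or_exists_le_coatom (⊥ : Subgroup P)).resolve_left bot_ne_top
  exact fun h => hM.1 (top_le_iff.1 (h ▸ frattini_le_coatom hM))

theorem map_char_normalizer {Q : Subgroup Γ} (K : Subgroup Q) [hK : K.Characteristic] {g : Γ}
    (hg : g ∈ Subgroup.normalizer (Q : Set Γ)) :
    g ∈ Subgroup.normalizer ((K.map Q.subtype : Subgroup Γ) : Set Γ) := by
  refine Subgroup.mem_normalizer_fintype ?_
  rintro _ ⟨z, hz, rfl⟩
  refine ⟨Subgroup.normalizerMonoidHom Q ⟨g, hg⟩ z, ?_, rfl⟩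
  exact (Subgroup.characteristic_iff_map_eq.1 hK _).le ⟨z, hz, rfl⟩

/-- The core: no such configuration. -/
theorem core (ρ : Γ →* Module.End k V) (T Sg A : Subgroup Γ) {t s p q : ℕ}
    (ht : t.Prime) (hs : s.Prime) (hp : p.Prime) (hq : q.Prime) (hts : t ≠ s) (hqp : q < p)
    (htp : t ≠ p) (htq : t ≠ q) (hsp : s ≠ p) (hsq : s ≠ q)
    (hA : Nat.card A = p * q) (hna : ∃ a ∈ A, ∃ b ∈ A, a * b ≠ b * a)
    (htk : (t : k) ≠ 0) (hpk : (p : k) ≠ 0) (hqk : (q : k) ≠ 0)
    (hT : IsPGroup t T) (hS : IsPGroup s Sg)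
    (hAT : A ≤ Subgroup.normalizer (T : Set Γ)) (hAS : A ≤ Subgroup.normalizer (Sg : Set Γ))
    (hST : Sg ≤ Subgroup.normalizer (T : Set Γ)) (htop : T ⊔ Sg ⊔ A = ⊤)
    (mT : ∀ U ≤ T, U ≠ T → Sg ≤ Subgroup.normalizer (U : Set Γ) → A ≤ Subgroup.normalizer (U : Set Γ) →
      U ≤ Subgroup.centralizer (Sg : Set Γ))
    (mS : ∀ U ≤ Sg, U ≠ Sg → A ≤ Subgroup.normalizer (U : Set Γ) → U ≤ Subgroup.centralizer (T : Set Γ))
    (hnc : ¬ Sg ≤ Subgroup.centralizer (T : Set Γ))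
    (hCT : T ⊓ Subgroup.centralizer (A : Set Γ) = ⊥) (hCS : Sg ⊓ Subgroup.centralizer (A : Set Γ) = ⊥)
    (hinj : ∀ u ∈ T, ρ u = 1 → u = 1) [Fintype A] (hnorm : ∀ v, ∑ a : A, ρ (a : Γ) v = 0) : False := by
  classical
  haveI := Fact.mk ht
  haveI := Fact.mk hs
  have hTn : T.Normal := Subgroup.normalizer_eq_top_iff.1 (eq_top_iff.2
    (htop ▸ sup_le (sup_le Subgroup.le_normalizer hST) hAT))
  haveI := hTn
  obtain ⟨C, hCdef⟩ : ∃ C, C = T ⊓ Subgroup.centralizer (Sg : Set Γ) := ⟨_, rfl⟩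
  have hCT' : C ≤ T := hCdef ▸ inf_le_left
  have hCcS : C ≤ Subgroup.centralizer (Sg : Set Γ) := hCdef ▸ inf_le_right
  have hCle : T ⊓ Subgroup.centralizer (Sg : Set Γ) ≤ C := hCdef.ge
  have hcopST : (Nat.card Sg).Coprime (Nat.card T) := by
    obtain ⟨j, hj⟩ := IsPGroup.iff_card.1 hS
    obtain ⟨i, hi⟩ := IsPGroup.iff_card.1 hT
    rw [hj, hi]
    exact Nat.Coprime.pow j i ((Nat.coprime_primes hs ht).2 (Ne.symm hts))
  have hsolT : Group.IsSolvable T := by
    haveI := hT.isNilpotent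
    exact IsNilpotent.to_isSolvable (G := T)
  -- `T = [T, Sg]`
  have hgen : ⁅T, Sg⁆ = T := by
    by_contra hne
    obtain ⟨h1, h2, h3⟩ := commutator_normal_in hST
    have hA3 : A ≤ Subgroup.normalizer ((⁅T, Sg⁆ : Subgroup Γ) : Set Γ) := fun a ha => by
      refine mem_normalizer_of_map_conj ?_
      rw [Subgroup.map_commutator, map_conj_of_mem (hAT ha), map_conj_of_mem (hAS ha)]
    have h4 : ⁅⁅T, Sg⁆, Sg⁆ = ⊥ := Subgroup.commutator_eq_bot_iff_le_centralizer.2 (mT _ h1 hne h3 hA3)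
    rw [commutator_commutator_eq hST hcopST (Or.inr hsolT)] at h4
    exact hnc (Subgroup.le_centralizer_iff.1 (Subgroup.commutator_eq_bot_iff_le_centralizer.1 h4))
  have hnotle : ¬ T ≤ C := fun h => hnc (Subgroup.le_centralizer_iff.1 (h.trans hCcS))
  -- the Frattini subgroup lies in `C`
  let Φ : Subgroup Γ := (frattini T).map T.subtype
  have hTne : Nontrivial T := T.nontrivial_iff_ne_bot.2 (fun h => hnotle (h.le.trans bot_le))
  have hΦ : Φ ≤ C := by
    refine le_inf (Subgroup.map_subtype_le _) ?_ |>.trans hCle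
    have hnorm' : ∀ g : Γ, g ∈ Subgroup.normalizer (Φ : Set Γ) := fun g =>
      map_char_normalizer (frattini T) (by rw [Subgroup.normalizer_eq_top]; trivial)
    refine mT Φ (Subgroup.map_subtype_le _) (fun h => ?_) (fun g _ => hnorm' g) (fun g _ => hnorm' g)
    refine frattini_ne_top (P := T) ?_
    exact Subgroup.map_injective T.subtype_injective (h.trans (by simp [← MonoidHom.range_eq_map]))
  have hcomm : ∀ a ∈ T, ∀ b ∈ T, ⁅a, b⁆ ∈ C := fun a ha b hb =>
    hΦ ⟨⁅⟨a, ha⟩, ⟨b, hb⟩⁆, commutatorElement_mem_frattini hT _ _, rfl⟩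
  have hexpo : ∀ a ∈ T, a ^ t ∈ C := fun a ha =>
    hΦ ⟨⟨a, ha⟩ ^ t, pow_mem_frattini hT _, rfl⟩
  have hCn : C.Normal := by
    refine Subgroup.normalizer_eq_top_iff.1 (eq_top_iff.2 (htop ▸ sup_le (sup_le ?_ ?_) ?_))
    · intro e he
      refine Subgroup.mem_normalizer_fintype fun c hc => ?_
      rw [show e * c * e⁻¹ = ⁅e, c⁆ * c by simp only [commutatorElement_def]; group]
      exact mul_mem (hcomm e he c (hCT' hc)) hc
    · intro σ hσ
      refine Subgroup.mem_normalizer_fintype fun c hc => ?_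
      rw [Subgroup.mem_centralizer_iff.1 (hCcS hc) σ hσ, mul_inv_cancel_right]
      exact hc
    · intro a ha
      refine Subgroup.mem_normalizer_fintype fun c hc => ?_
      refine hCle ⟨hTn.conj_mem c (hCT' hc) a, Subgroup.mem_centralizer_iff.2 fun σ hσ => ?_⟩
      have h1 := Subgroup.mem_centralizer_iff.1 (hCcS hc) _
        ((Subgroup.mem_normalizer_iff''.1 (hAS ha) σ).1 hσ)
      calc σ * (a * c * a⁻¹) = a * ((a⁻¹ * σ * a) * c) * a⁻¹ := by group
        _ = a * (c * (a⁻¹ * σ * a)) * a⁻¹ := by rw [h1]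
        _ = _ := by group
  have hcz : ∀ c ∈ C, ∀ e ∈ T, c * e = e * c := by
    have h1 : ⁅⁅C, T⁆, Sg⁆ = ⊥ := Subgroup.commutator_eq_bot_iff_le_centralizer.2
      ((Subgroup.commutator_le.2 fun c hc e he => hcomm c (hCT' hc) e he).trans hCcS)
    have h2 : ⁅⁅Sg, C⁆, T⁆ = ⊥ := by
      have h3 : ⁅Sg, C⁆ = ⊥ := Subgroup.commutator_eq_bot_iff_le_centralizer.2 (Subgroup.le_centralizer_iff.1 hCcS)
      rw [h3, Subgroup.commutator_bot_left]
    have h3 : ⁅⁅T, Sg⁆, C⁆ = ⊥ := Subgroup.commutator_commutator_eq_bot_of_rotate h2 h1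
    rw [hgen] at h3
    intro c hc e he
    exact (Subgroup.mem_centralizer_iff.1 (Subgroup.commutator_eq_bot_iff_le_centralizer.1 h3 he) c hc)
  have hSab : ∀ σ ∈ Sg, ∀ σ' ∈ Sg, ∀ e ∈ T, ⁅σ, σ'⁆ * e = e * ⁅σ, σ'⁆ := by
    intro σ hσ σ' hσ' e he
    let D : Subgroup Γ := (commutator Sg).map Sg.subtype
    have hSne : Nontrivial Sg := Sg.nontrivial_iff_ne_bot.2 (fun h => hnc (h.le.trans bot_le))
    haveI := hS.isNilpotent
    have hD : D ≤ Subgroup.centralizer (T : Set Γ) := by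
      refine mS D (Subgroup.map_subtype_le _) (fun h => ?_) fun g hg => map_char_normalizer (commutator Sg) (hAS hg)
      have h1 : commutator Sg = ⊤ := Subgroup.map_injective Sg.subtype_injective
        (h.trans (by simp [← MonoidHom.range_eq_map]))
      exact frattini_ne_top (top_le_iff.1 (h1.ge.trans (commutator_le_frattini_pgroup hS)))
    exact (Subgroup.mem_centralizer_iff.1 (hD ⟨⁅⟨σ, hσ⟩, ⟨σ', hσ'⟩⁆,
      Subgroup.commutator_mem_commutator (Subgroup.mem_top _) (Subgroup.mem_top _), rfl⟩) e he).symm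
  have hc : Cfg t s p q T Sg A C :=
    { pt := ht, ps := hs, pp := hp, pq := hq, ts := hts, qp := hqp, tp := htp, tq := htq, sp := hsp,
      sq := hsq, cardA := hA, na := hna, tgrp := hT, sgrp := hS, tn := hTn, cn := hCn, As := hAS,
      cT := hCT', cS := hCcS, notle := hnotle, gen := hgen, cz := hcz, comm := hcomm, expo := hexpo,
      mT := fun U hU hne hUS hUA => (le_inf hU (mT U hU hne hUS hUA)).trans hCle,
      cTA := hCT, cSA := hCS, top := htop }
  obtain ⟨n, x, R, hn, hnpq, hxo, hxA, hCR, hRT, hne, hSR, hxR⟩ :=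
    exists_section hc hCle hSab htk hpk hqk ρ hinj hnorm
  obtain ⟨F, hFA, hFc, hAF, hFconj⟩ := exists_normal_p hp hq hA hqp hna
  rcases hnpq with rfl | rfl
  · have hxF : Subgroup.zpowers x = F := by
      by_contra hneF
      have hle := sup_eq hp hq hA (Subgroup.zpowers_le.2 hxA) hFA hneF
        (by rw [Nat.card_zpowers, hxo]; exact hp) (by rw [hFc]; exact hp)
      have h1 := card_sup_mul_card_inf' F (Subgroup.zpowers x) ((Subgroup.zpowers_le.2 hxA).trans hAF)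
      rw [sup_comm, hle, hA, hFc, Nat.card_zpowers, hxo] at h1
      have h2 : q * Nat.card (F ⊓ Subgroup.zpowers x : Subgroup Γ) = n :=
        Nat.eq_of_mul_eq_mul_left hp.pos (by rw [← mul_assoc]; exact h1)
      exact hqp.ne ((Nat.prime_dvd_prime_iff_eq hq hp).1 (Dvd.intro _ h2))
    exact hc.endF hCle hFA hFc hAF hCR hRT hne hSR (hxF ▸ Subgroup.zpowers_le.2 hxR)
  · exact hc.endH hCle hFA hFc hAF hFconj hxA hxo hCR hRT hne hSR hxR

end Cfsg.Agent.Perm.PQFix
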