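import Cfsg.Agent.Lib.Perm.PQFix.PQGroup
import Cfsg.Agent.Lib.Solv.Coprime
import Cfsg.Agent.Lib.Solv.PGroupPhi
import Cfsg.Agent.Lib.Solv.ThompsonFPF
import Cfsg.Agent.Lib.Local.TypePBasic

/-!
# A subgroup of prime order of `A` cannot centralise a proper section `T/R`
-/

set_option autoImplicit false
set_option linter.style.haveILetI false
set_option linter.unusedSectionVars false

namespace Cfsg.Agent.Perm.PQFix

open scoped commutatorElement
open Cfsg.Agent.Solv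

universe v

variable {Γ : Type v} [Group Γ]

/-- Elements normalising `T` and `R` which are trivial on `T` modulo `R`. -/
def actTriv (T R : Subgroup Γ) : Subgroup Γ where
  carrier := {g | g ∈ Subgroup.normalizer (T : Set Γ) ⊓ Subgroup.normalizer (R : Set Γ) ∧ ∀ e ∈ T, ⁅g, e⁆ ∈ R}
  one_mem' := ⟨one_mem _, fun e _ => by rw [commutatorElement_one_left]; exact one_mem _⟩
  mul_mem' := fun {a b} ha hb => ⟨mul_mem ha.1 hb.1, fun e he => by
    rw [show ⁅a * b, e⁆ = a * ⁅b, e⁆ * a⁻¹ * ⁅a, e⁆ by simp only [commutatorElement_def]; group]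
    exact mul_mem ((Subgroup.mem_normalizer_iff.1 ha.1.2 _).1 (hb.2 e he)) (ha.2 e he)⟩
  inv_mem' := fun {a} ha => ⟨inv_mem ha.1, fun e he => by
    rw [show ⁅a⁻¹, e⁆ = ⁅a, a⁻¹ * e * a⁆⁻¹ by simp only [commutatorElement_def]; group]
    exact inv_mem (ha.2 _ ((Subgroup.mem_normalizer_iff''.1 ha.1.1 e).1 he))⟩

theorem mem_actTriv {T R : Subgroup Γ} {g : Γ} : g ∈ actTriv T R ↔
    g ∈ Subgroup.normalizer (T : Set Γ) ⊓ Subgroup.normalizer (R : Set Γ) ∧ ∀ e ∈ T, ⁅g, e⁆ ∈ R := Iff.rfl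

theorem actTriv_conj {T R : Subgroup Γ} {y g : Γ}
    (hy : y ∈ Subgroup.normalizer (T : Set Γ) ⊓ Subgroup.normalizer (R : Set Γ)) (hg : g ∈ actTriv T R) :
    y * g * y⁻¹ ∈ actTriv T R :=
  ⟨mul_mem (mul_mem hy hg.1) (inv_mem hy), fun e he => by
    rw [show ⁅y * g * y⁻¹, e⁆ = y * ⁅g, y⁻¹ * e * y⁆ * y⁻¹ by simp only [commutatorElement_def]; group]
    exact (Subgroup.mem_normalizer_iff.1 hy.2 _).1 (hg.2 _ ((Subgroup.mem_normalizer_iff''.1 hy.1 e).1 he))⟩

variable [Finite Γ]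

/-- An element of order prime to `t` centralising two layers centralises a `t`-group. -/
theorem commute_of_two_layers {T C : Subgroup Γ} {t : ℕ} (hT : IsPGroup t T) (hCT : C ≤ T) {y : Γ}
    {m : ℕ} (hy : y ^ m = 1) (hm : m.Coprime t)
    (hyC : ∀ c ∈ C, y * c * y⁻¹ = c) (hyT : ∀ e ∈ T, ⁅y, e⁆ ∈ C) (hTC : ∀ e ∈ T, ∀ c ∈ C, e * c = c * e) :
    ∀ e ∈ T, y * e * y⁻¹ = e := by
  intro e he
  obtain ⟨c, hc, hce⟩ : ∃ c ∈ C, y * e * y⁻¹ = e * c :=
    ⟨⁅y, e⁆, hyT e he, by rw [hTC e he _ (hyT e he), commutatorElement_def, inv_mul_cancel_right]⟩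
  have hyp : ∀ j : ℕ, y ^ j * e * (y ^ j)⁻¹ = e * c ^ j := by
    intro j
    induction j with
    | zero => simp
    | succ j ih =>
      calc y ^ (j + 1) * e * (y ^ (j + 1))⁻¹ = y * (y ^ j * e * (y ^ j)⁻¹) * y⁻¹ := by
            rw [pow_succ']; group
        _ = (y * e * y⁻¹) * (y * c ^ j * y⁻¹) := by rw [ih]; group
        _ = _ := by rw [hyC _ (pow_mem hc j), hce, pow_succ', mul_assoc]
  have h1 := hyp m
  rw [hy, one_mul, inv_one, mul_one, left_eq_mul] at h1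
  obtain ⟨i, hi⟩ := hT ⟨c, hCT hc⟩
  have h2 := pow_gcd_eq_one.2 ⟨h1, (congrArg Subtype.val hi : c ^ t ^ i = (1 : Γ))⟩
  rw [(hm.pow_right i).gcd_eq_one, pow_one] at h2
  rw [hce, h2, mul_one]

/-- The common hypotheses of the core argument. -/
structure Cfg (t s p q : ℕ) (T Sg A C : Subgroup Γ) : Prop where
  pt : t.Prime
  ps : s.Prime
  pp : p.Prime
  pq : q.Prime
  ts : t ≠ s
  qp : q < p
  tp : t ≠ p
  tq : t ≠ q
  sp : s ≠ p
  sq : s ≠ q
  cardA : Nat.card A = p * q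
  na : ∃ a ∈ A, ∃ b ∈ A, a * b ≠ b * a
  tgrp : IsPGroup t T
  sgrp : IsPGroup s Sg
  tn : T.Normal
  cn : C.Normal
  As : A ≤ Subgroup.normalizer (Sg : Set Γ)
  cT : C ≤ T
  cS : C ≤ Subgroup.centralizer (Sg : Set Γ)
  notle : ¬ T ≤ C
  gen : ⁅T, Sg⁆ = T
  cz : ∀ c ∈ C, ∀ e ∈ T, c * e = e * c
  comm : ∀ a ∈ T, ∀ b ∈ T, ⁅a, b⁆ ∈ C
  expo : ∀ a ∈ T, a ^ t ∈ C
  mT : ∀ U ≤ T, U ≠ T → Sg ≤ Subgroup.normalizer (U : Set Γ) → A ≤ Subgroup.normalizer (U : Set Γ) → U ≤ C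
  cTA : T ⊓ Subgroup.centralizer (A : Set Γ) = ⊥
  cSA : Sg ⊓ Subgroup.centralizer (A : Set Γ) = ⊥
  top : T ⊔ Sg ⊔ A = ⊤

set_option maxHeartbeats 1000000

variable {t s p q : ℕ} {T Sg A C : Subgroup Γ} (hc : Cfg t s p q T Sg A C)

include hc

theorem Cfg.cop_TA : (Nat.card T).Coprime (Nat.card A) := by
  haveI := Fact.mk hc.pt
  obtain ⟨j, hj⟩ := IsPGroup.iff_card.1 hc.tgrp
  rw [hj, hc.cardA]
  exact Nat.Coprime.pow_left j (Nat.Coprime.mul_right ((Nat.coprime_primes hc.pt hc.pp).2 hc.tp)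
    ((Nat.coprime_primes hc.pt hc.pq).2 hc.tq))

theorem Cfg.cop_SA : (Nat.card Sg).Coprime (Nat.card A) := by
  haveI := Fact.mk hc.ps
  obtain ⟨j, hj⟩ := IsPGroup.iff_card.1 hc.sgrp
  rw [hj, hc.cardA]
  exact Nat.Coprime.pow_left j (Nat.Coprime.mul_right ((Nat.coprime_primes hc.ps hc.pp).2 hc.sp)
    ((Nat.coprime_primes hc.ps hc.pq).2 hc.sq))

theorem Cfg.cop_ST : (Nat.card Sg).Coprime (Nat.card T) := by
  haveI := Fact.mk hc.ps
  haveI := Fact.mk hc.pt
  obtain ⟨j, hj⟩ := IsPGroup.iff_card.1 hc.sgrp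
  obtain ⟨i, hi⟩ := IsPGroup.iff_card.1 hc.tgrp
  rw [hj, hi]
  exact Nat.Coprime.pow j i ((Nat.coprime_primes hc.ps hc.pt).2 (Ne.symm hc.ts))

theorem Cfg.solT : Group.IsSolvable T :=
  haveI := Fact.mk hc.pt
  haveI := hc.tgrp.isNilpotent
  IsNilpotent.to_isSolvable (G := T)

theorem Cfg.solS : Group.IsSolvable Sg :=
  haveI := Fact.mk hc.ps
  haveI := hc.sgrp.isNilpotent
  IsNilpotent.to_isSolvable (G := Sg)

theorem Cfg.le_norm (H R : Subgroup Γ) (h : R.Normal) : H ≤ Subgroup.normalizer (R : Set Γ) := by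
  haveI := h
  rw [Subgroup.normalizer_eq_top]; exact le_top

/-- An element of `T` fixed by `Sg` modulo `C` lies in `C`. -/
theorem Cfg.fixS (hCdef : T ⊓ Subgroup.centralizer (Sg : Set Γ) ≤ C) {e : Γ} (he : e ∈ T)
    (h : ∀ σ ∈ Sg, ⁅σ, e⁆ ∈ C) : e ∈ C := by
  obtain ⟨c, hcc, hec⟩ := exists_fixed_in_coset' Sg T C (hc.le_norm _ T hc.tn) hc.cop_ST (Or.inr hc.solT)
    hc.cT (hc.le_norm _ C hc.cn) he (fun σ hσ => by
      rw [show e⁻¹ * (σ * e * σ⁻¹) = e⁻¹ * ⁅σ, e⁆ * e⁻¹⁻¹ by simp only [commutatorElement_def]; group]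
      exact hc.cn.conj_mem _ (h σ hσ) _)
  have := mul_mem (hCdef hcc) (inv_mem hec)
  rwa [mul_inv_rev, inv_inv, mul_inv_cancel_left] at this

/-- An element of `T` fixed by `A` modulo a subgroup lies in it. -/
theorem Cfg.fixA {D : Subgroup Γ} (hD : D ≤ T) (hAD : A ≤ Subgroup.normalizer (D : Set Γ)) {e : Γ}
    (he : e ∈ T) (h : ∀ a ∈ A, e⁻¹ * (a * e * a⁻¹) ∈ D) : e ∈ D := by
  obtain ⟨c, hcc, hec⟩ := exists_fixed_in_coset' A T D (hc.le_norm _ T hc.tn) hc.cop_TA.symm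
    (Or.inr hc.solT) hD hAD he h
  rw [hc.cTA, Subgroup.mem_bot] at hcc
  rw [hcc, mul_one] at hec
  exact inv_inv e ▸ inv_mem hec

/-- An element of `Sg` fixed by `A` modulo a subgroup lies in it. -/
theorem Cfg.fixA' {D : Subgroup Γ} (hD : D ≤ Sg) (hAD : A ≤ Subgroup.normalizer (D : Set Γ)) {e : Γ}
    (he : e ∈ Sg) (h : ∀ a ∈ A, e⁻¹ * (a * e * a⁻¹) ∈ D) : e ∈ D := by
  obtain ⟨c, hcc, hec⟩ := exists_fixed_in_coset' A Sg D hc.As hc.cop_SA.symm
    (Or.inr hc.solS) hD hAD he h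
  rw [hc.cSA, Subgroup.mem_bot] at hcc
  rw [hcc, mul_one] at hec
  exact inv_inv e ▸ inv_mem hec

/-- The normal subgroup of order `p` does not centralise a proper section `T/R`. -/
theorem Cfg.endF (hCdef : T ⊓ Subgroup.centralizer (Sg : Set Γ) ≤ C) {F : Subgroup Γ} (hFA : F ≤ A)
    (hFc : Nat.card F = p) (hAF : A ≤ Subgroup.normalizer (F : Set Γ)) {R : Subgroup Γ} (hCR : C ≤ R)
    (hRT : R ≤ T) (hne : R ≠ T) (hSR : Sg ≤ Subgroup.normalizer (R : Set Γ)) (hFR : F ≤ actTriv T R) :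
    False := by
  classical
  haveI := hc.tn
  haveI := hc.cn
  -- `F` centralises `T/C`
  let U : Subgroup Γ :=
    { carrier := {e | e ∈ T ∧ ∀ a ∈ A, a * e * a⁻¹ ∈ R}
      one_mem' := ⟨one_mem _, fun a _ => by rw [mul_one, mul_inv_cancel]; exact one_mem _⟩
      mul_mem' := fun {x y} hx hy => ⟨mul_mem hx.1 hy.1, fun a ha => by
        rw [show a * (x * y) * a⁻¹ = a * x * a⁻¹ * (a * y * a⁻¹) by group]
        exact mul_mem (hx.2 a ha) (hy.2 a ha)⟩
      inv_mem' := fun {x} hx => ⟨inv_mem hx.1, fun a ha => by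
        rw [show a * x⁻¹ * a⁻¹ = (a * x * a⁻¹)⁻¹ by group]
        exact inv_mem (hx.2 a ha)⟩ }
  have hUA : A ≤ Subgroup.normalizer (U : Set Γ) := fun a ha => Subgroup.mem_normalizer_fintype
    fun e he => ⟨hc.tn.conj_mem e he.1 a, fun b hb => by
      rw [show b * (a * e * a⁻¹) * b⁻¹ = b * a * e * (b * a)⁻¹ by group]
      exact he.2 _ (mul_mem hb ha)⟩
  have hUS : Sg ≤ Subgroup.normalizer (U : Set Γ) := fun σ hσ => Subgroup.mem_normalizer_fintype
    fun e he => ⟨hc.tn.conj_mem e he.1 σ, fun b hb => by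
      rw [show b * (σ * e * σ⁻¹) * b⁻¹ = b * σ * b⁻¹ * (b * e * b⁻¹) * (b * σ * b⁻¹)⁻¹ by group]
      exact (Subgroup.mem_normalizer_iff.1 (hSR ((Subgroup.mem_normalizer_iff.1 (hc.As hb) σ).1 hσ)) _).1
        (he.2 b hb)⟩
  have hUC : U ≤ C := hc.mT U (fun e he => he.1) (fun h => hne (le_antisymm hRT fun e he => by
    have h2 : e ∈ U := h.ge he
    have := h2.2 1 (one_mem _)
    rwa [one_mul, inv_one, mul_one] at this)) hUS hUA
  have hFC : F ≤ actTriv T C := fun f hf => ⟨⟨hc.le_norm ⊤ T hc.tn trivial, hc.le_norm ⊤ C hc.cn trivial⟩,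
    fun e he => hUC ⟨by
      rw [commutatorElement_def]; exact mul_mem (hc.tn.conj_mem e he f) (inv_mem he), fun a ha => by
      rw [show a * ⁅f, e⁆ * a⁻¹ = ⁅a * f * a⁻¹, a * e * a⁻¹⁆ by simp only [commutatorElement_def]; group]
      exact (hFR ((Subgroup.mem_normalizer_iff.1 (hAF ha) f).1 hf)).2 _ (hc.tn.conj_mem e he a)⟩⟩
  -- `[Sg, F]` centralises `T`
  let CS : Subgroup Γ := Sg ⊓ Subgroup.centralizer (T : Set Γ)
  have hSFc : ∀ σ ∈ Sg, ∀ f ∈ F, ⁅f, σ⁆ ∈ CS := by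
    intro σ hσ f hf
    have hyS : ⁅f, σ⁆ ∈ Sg := by
      rw [commutatorElement_def]
      exact mul_mem ((Subgroup.mem_normalizer_iff.1 (hc.As (hFA hf)) σ).1 hσ) (inv_mem hσ)
    refine ⟨hyS, Subgroup.mem_centralizer_iff.2 fun e he => ?_⟩
    have hy' : ⁅f, σ⁆ ∈ actTriv T C := by
      rw [show ⁅f, σ⁆ = f * (σ * f⁻¹ * σ⁻¹) by simp only [commutatorElement_def]; group]
      exact mul_mem (hFC hf) (actTriv_conj ⟨hc.le_norm ⊤ T hc.tn trivial, hc.le_norm ⊤ C hc.cn trivial⟩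
        (inv_mem (hFC hf)))
    haveI := Fact.mk hc.ps
    obtain ⟨j, hj⟩ := hc.sgrp ⟨_, hyS⟩
    have := commute_of_two_layers hc.tgrp hc.cT (congrArg Subtype.val hj)
      (((Nat.coprime_primes hc.ps hc.pt).2 (Ne.symm hc.ts)).pow_left j)
      (fun c hcc => by
        rw [Subgroup.mem_centralizer_iff.1 (hc.cS hcc) _ hyS, mul_inv_cancel_right])
      hy'.2 (fun e he c hcc => (hc.cz c hcc e he).symm) e he
    exact (mul_inv_eq_iff_eq_mul.1 this).symm
  have hCSn : CS.Normal := by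
    refine Subgroup.normalizer_eq_top_iff.1 (eq_top_iff.2 (hc.top ▸ sup_le (sup_le ?_ ?_) ?_))
    · intro e he
      refine Subgroup.mem_normalizer_fintype fun y hy => ?_
      rw [show e * y * e⁻¹ = y by rw [Subgroup.mem_centralizer_iff.1 hy.2 e he, mul_inv_cancel_right]]
      exact hy
    all_goals
      intro g hg
      refine Subgroup.mem_normalizer_fintype fun y hy => ?_
      refine ⟨(Subgroup.mem_normalizer_iff.1 (?_ : g ∈ Subgroup.normalizer (Sg : Set Γ)) y).1 hy.1,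
        Subgroup.mem_centralizer_iff.2 fun e he => ?_⟩
      · first
          | exact Subgroup.le_normalizer hg
          | exact hc.As hg
      · have h1 := Subgroup.mem_centralizer_iff.1 hy.2 _
          (show g⁻¹ * e * g ∈ (T : Set Γ) from (Subgroup.mem_normalizer_iff''.1
            (hc.le_norm ⊤ T hc.tn trivial : g ∈ _) e).1 he)
        calc e * (g * y * g⁻¹) = g * ((g⁻¹ * e * g) * y) * g⁻¹ := by group
          _ = g * (y * (g⁻¹ * e * g)) * g⁻¹ := by rw [h1]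
          _ = _ := by group
  haveI := hCSn
  -- an element of order `q`
  haveI := Fact.mk hc.pq
  haveI := Fact.mk hc.pp
  obtain ⟨h', hh'⟩ := exists_prime_orderOf_dvd_card' (G := A) q (by rw [hc.cardA]; exact dvd_mul_left q p)
  have hhq : orderOf (h' : Γ) = q := by rw [← hh']; exact Subgroup.orderOf_coe h'
  let H : Subgroup Γ := Subgroup.zpowers (h' : Γ)
  have hHc : Nat.card H = q := by rw [Nat.card_zpowers, hhq]
  have hFH : F ⊔ H = A := sup_eq hc.pp hc.pq hc.cardA hFA (Subgroup.zpowers_le.2 h'.2)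
    (fun e => hc.qp.ne (by rw [← hHc, ← e, hFc])) (hFc ▸ hc.pp) (hHc ▸ hc.pq)
  -- the quotient
  let N : Subgroup Γ := C ⊔ CS
  haveI : N.Normal := Subgroup.sup_normal C CS
  let π : Γ →* Γ ⧸ N := QuotientGroup.mk' N
  let K : Subgroup Γ := T ⊔ Sg
  have hdisj : Disjoint T Sg := disjoint_iff.2 (Subgroup.inf_eq_bot_of_coprime hc.cop_ST.symm)
  have hmulK : ∀ u ∈ K, ∃ e ∈ T, ∃ σ ∈ Sg, u = e * σ := fun u hu => by
    obtain ⟨e, he, σ, hσ, rfl⟩ := Subgroup.mem_sup_of_normal_left.1 hu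
    exact ⟨e, he, σ, hσ, rfl⟩
  have hAK : ∀ a ∈ A, a ∈ Subgroup.normalizer (K : Set Γ) := fun a ha => Subgroup.mem_normalizer_fintype
    fun u hu => by
      obtain ⟨e, he, σ, hσ, rfl⟩ := hmulK u hu
      rw [show a * (e * σ) * a⁻¹ = a * e * a⁻¹ * (a * σ * a⁻¹) by group]
      exact mul_mem (Subgroup.mem_sup_left (hc.tn.conj_mem e he a))
        (Subgroup.mem_sup_right ((Subgroup.mem_normalizer_iff.1 (hc.As ha) σ).1 hσ))
  have hNK : N ≤ K := sup_le (hc.cT.trans le_sup_left) (inf_le_left.trans le_sup_right)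
  have hcopHK : (Nat.card H).Coprime (Nat.card K) := by
    have h1 := card_sup_mul_card_inf' T Sg (hc.le_norm _ T hc.tn)
    rw [disjoint_iff.1 hdisj, Subgroup.card_bot, mul_one] at h1
    rw [show Nat.card K = _ from h1, hHc]
    have hA1 : q ∣ Nat.card A := hc.cardA ▸ dvd_mul_left q p
    exact Nat.Coprime.mul_right (hc.cop_TA.coprime_dvd_right hA1).symm
      (hc.cop_SA.coprime_dvd_right hA1).symm
  have hfix : K.map π ⊓ Subgroup.centralizer {π (h' : Γ)} = ⊥ := by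
    rw [Subgroup.eq_bot_iff_forall]
    rintro _ ⟨⟨u, hu, rfl⟩, hcu⟩
    have hcu' := Subgroup.mem_centralizer_singleton_iff.1 hcu
    obtain ⟨c, ⟨hcK, hcH⟩, huc⟩ := exists_fixed_in_coset' H K N
      (Subgroup.zpowers_le.2 (hAK _ h'.2)) hcopHK (Or.inl inferInstance) hNK (hc.le_norm _ N inferInstance)
      hu (fun a ha => by
        have hmem : a ∈ (Subgroup.centralizer {π u}).comap π := by
          refine (Subgroup.zpowers_le.2 ?_ : H ≤ _) ha
          exact Subgroup.mem_centralizer_singleton_iff.2 hcu'.symm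
        have h2 := Subgroup.mem_centralizer_singleton_iff.1 hmem
        refine (QuotientGroup.eq_one_iff _).1 ?_
        show π (u⁻¹ * (a * u * a⁻¹)) = 1
        rw [map_mul, map_mul, map_mul, map_inv, map_inv, h2, mul_inv_cancel_right, inv_mul_cancel])
    have hch : (h' : Γ) * c = c * h' := Subgroup.mem_centralizer_iff.1 hcH _ (Subgroup.mem_zpowers _)
    obtain ⟨e, he, σ, hσ, rfl⟩ := hmulK c hcK
    have he' : (h' : Γ) * e * (h' : Γ)⁻¹ ∈ T := hc.tn.conj_mem e he _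
    have hσ' : (h' : Γ) * σ * (h' : Γ)⁻¹ ∈ Sg := (Subgroup.mem_normalizer_iff.1 (hc.As h'.2) σ).1 hσ
    have h3 : e⁻¹ * ((h' : Γ) * e * (h' : Γ)⁻¹) = σ * ((h' : Γ) * σ * (h' : Γ)⁻¹)⁻¹ := by
      calc e⁻¹ * ((h' : Γ) * e * (h' : Γ)⁻¹)
          = e⁻¹ * ((h' : Γ) * (e * σ) * (h' : Γ)⁻¹) * ((h' : Γ) * σ * (h' : Γ)⁻¹)⁻¹ := by group
        _ = _ := by rw [hch]; group
    have h4 : e⁻¹ * ((h' : Γ) * e * (h' : Γ)⁻¹) = 1 :=
      Subgroup.disjoint_def.1 hdisj (mul_mem (inv_mem he) he') (h3 ▸ mul_mem hσ (inv_mem hσ'))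
    have h5 : σ = (h' : Γ) * σ * (h' : Γ)⁻¹ := mul_inv_eq_one.1 (h3 ▸ h4)
    have heC : e ∈ C := by
      refine hc.fixA hc.cT (hc.le_norm _ C hc.cn) he fun a ha => ?_
      have hle : A ≤ (Subgroup.centralizer {QuotientGroup.mk' C e}).comap (QuotientGroup.mk' C) := by
        rw [← hFH]
        refine sup_le (fun f hf => ?_) (Subgroup.zpowers_le.2 ?_)
        · refine Subgroup.mem_centralizer_singleton_iff.2 ?_
          rw [← map_mul, ← map_mul, ← inv_inv (QuotientGroup.mk' C (e * f)), ← mul_eq_one_iff_eq_inv,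
            ← map_inv, ← map_mul]
          refine (QuotientGroup.eq_one_iff _).2 ?_
          rw [show f * e * (e * f)⁻¹ = ⁅f, e⁆ by simp only [commutatorElement_def]; group]
          exact (hFC hf).2 e he
        · refine Subgroup.mem_centralizer_singleton_iff.2 ?_
          rw [← map_mul, ← map_mul]
          congr 1
          exact mul_inv_eq_iff_eq_mul.1 (inv_mul_eq_one.1 h4).symm
      refine (QuotientGroup.eq_one_iff _).1 ?_
      show QuotientGroup.mk' C (e⁻¹ * (a * e * a⁻¹)) = 1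
      rw [map_mul, map_mul, map_mul, map_inv, map_inv,
        Subgroup.mem_centralizer_singleton_iff.1 (hle ha), mul_inv_cancel_right, inv_mul_cancel]
    have hσC : σ ∈ CS := by
      refine hc.fixA' inf_le_left (hc.le_norm _ CS hCSn) hσ fun a ha => ?_
      have hle : A ≤ (Subgroup.centralizer {QuotientGroup.mk' CS σ}).comap (QuotientGroup.mk' CS) := by
        rw [← hFH]
        refine sup_le (fun f hf => ?_) (Subgroup.zpowers_le.2 ?_)
        · refine Subgroup.mem_centralizer_singleton_iff.2 ?_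
          rw [← map_mul, ← map_mul, ← inv_inv (QuotientGroup.mk' CS (σ * f)), ← mul_eq_one_iff_eq_inv,
            ← map_inv, ← map_mul]
          refine (QuotientGroup.eq_one_iff _).2 ?_
          rw [show f * σ * (σ * f)⁻¹ = ⁅f, σ⁆ by simp only [commutatorElement_def]; group]
          exact hSFc σ hσ f hf
        · refine Subgroup.mem_centralizer_singleton_iff.2 ?_
          rw [← map_mul, ← map_mul]
          congr 1
          exact mul_inv_eq_iff_eq_mul.1 h5.symm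
      refine (QuotientGroup.eq_one_iff _).1 ?_
      show QuotientGroup.mk' CS (σ⁻¹ * (a * σ * a⁻¹)) = 1
      rw [map_mul, map_mul, map_mul, map_inv, map_inv,
        Subgroup.mem_centralizer_singleton_iff.1 (hle ha), mul_inv_cancel_right, inv_mul_cancel]
    have hu' := mul_mem (mul_mem (Subgroup.mem_sup_left heC) (Subgroup.mem_sup_right hσC) : e * σ ∈ N)
      (inv_mem huc)
    rw [mul_inv_rev, inv_inv, mul_inv_cancel_left] at hu'
    exact (QuotientGroup.eq_one_iff u).2 hu'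
  have hKnil : Group.IsNilpotent (K.map π) := fpf_nilpotent (K.map π) (π (h' : Γ)) hc.pq
    (by rw [← map_pow, ← hhq, pow_orderOf_eq_one, map_one])
    (Subgroup.le_normalizer_map π ⟨_, hAK _ h'.2, rfl⟩) hfix
  have hcopm : (Nat.card (T.map π)).Coprime (Nat.card (Sg.map π)) :=
    Nat.Coprime.coprime_dvd_right (Subgroup.card_map_dvd Sg π)
      (Nat.Coprime.coprime_dvd_left (Subgroup.card_map_dvd T π) hc.cop_ST.symm)
  haveI := hKnil
  have hTK : T.map π ≤ K.map π := Subgroup.map_mono le_sup_left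
  have hSK : Sg.map π ≤ K.map π := Subgroup.map_mono le_sup_right
  have hcommS : ∀ e ∈ T.map π, ∀ σ ∈ Sg.map π, e * σ = σ * e := fun e he σ hσ => by
    have hd : (orderOf (⟨e, hTK he⟩ : K.map π)).Coprime (orderOf (⟨σ, hSK hσ⟩ : K.map π)) := by
      rw [Subgroup.orderOf_mk, Subgroup.orderOf_mk]
      exact Nat.Coprime.coprime_dvd_right ((Subgroup.orderOf_mk σ hσ) ▸ orderOf_dvd_natCard _)
        (Nat.Coprime.coprime_dvd_left ((Subgroup.orderOf_mk e he) ▸ orderOf_dvd_natCard _) hcopm)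
    exact congrArg Subtype.val (TypePBasic.commute_of_coprime hd).eq
  refine hc.notle (hc.gen ▸ Subgroup.commutator_le.2 fun e he σ hσ => ?_)
  have h1 : ⁅e, σ⁆ ∈ N := by
    refine (QuotientGroup.eq_one_iff _).1 ?_
    show π ⁅e, σ⁆ = 1
    rw [map_commutatorElement, commutatorElement_eq_one_iff_mul_comm]
    exact hcommS _ ⟨e, he, rfl⟩ _ ⟨σ, hσ, rfl⟩
  obtain ⟨c, hcc, y, hy, hcy⟩ := Subgroup.mem_sup_of_normal_left.1 h1
  have hT' : ⁅e, σ⁆ ∈ T := by
    rw [show ⁅e, σ⁆ = e * (σ * e⁻¹ * σ⁻¹) by simp only [commutatorElement_def]; group]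
    exact mul_mem he (hc.tn.conj_mem _ (inv_mem he) σ)
  have hyT : y ∈ T := by
    have := mul_mem (inv_mem (hc.cT hcc)) hT'
    rwa [← hcy, inv_mul_cancel_left] at this
  rw [← hcy, Subgroup.disjoint_def.1 hdisj hyT hy.1, mul_one]
  exact hcc

/-- A subgroup of order `q` does not centralise a proper section `T/R`. -/
theorem Cfg.endH (hCdef : T ⊓ Subgroup.centralizer (Sg : Set Γ) ≤ C) {F : Subgroup Γ} (hFA : F ≤ A)
    (hFc : Nat.card F = p) (hAF : A ≤ Subgroup.normalizer (F : Set Γ))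
    (hFconj : ∀ H ≤ A, Nat.card H = q → ∀ f ∈ F, f ≠ 1 → H.map (MulAut.conj f).toMonoidHom ≠ H)
    {x : Γ} (hxA : x ∈ A) (hxq : orderOf x = q) {R : Subgroup Γ} (hCR : C ≤ R)
    (hRT : R ≤ T) (hne : R ≠ T) (hSR : Sg ≤ Subgroup.normalizer (R : Set Γ))
    (hxR : x ∈ actTriv T R) : False := by
  classical
  haveI := hc.tn
  haveI := hc.cn
  haveI := Fact.mk hc.pt
  let H : Subgroup Γ := Subgroup.zpowers x
  have hHc : Nat.card H = q := by rw [Nat.card_zpowers, hxq]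
  have hHA : H ≤ A := Subgroup.zpowers_le.2 hxA
  have hHS : H ≤ Subgroup.normalizer (Sg : Set Γ) := hHA.trans hc.As
  have hcopS : (Nat.card H).Coprime (Nat.card Sg) := by
    rw [hHc]; exact (hc.cop_SA.coprime_dvd_right (hc.cardA ▸ dvd_mul_left q p)).symm
  obtain ⟨hS1le, hS1S, hS1H⟩ := commutator_normal_in hHS
  let S1 : Subgroup Γ := ⁅Sg, H⁆
  have hS1R : S1 ≤ actTriv T R := Subgroup.commutator_le.2 fun σ hσ y hy => by
    have hy' : y ∈ actTriv T R := (Subgroup.zpowers_le.2 hxR : H ≤ _) hy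
    rw [commutatorElement_def]
    exact mul_mem (actTriv_conj ⟨hc.le_norm ⊤ T hc.tn trivial, hSR hσ⟩ hy') (inv_mem hy')
  -- a fixed element of `T` outside `R`
  obtain ⟨e, he, heR⟩ : ∃ e ∈ T, e ∉ R := Set.not_subset.1 (fun h => hne (le_antisymm hRT h))
  let B : Subgroup Γ := S1 ⊔ H
  have hB : B ≤ actTriv T R := sup_le hS1R (Subgroup.zpowers_le.2 hxR)
  have hcopB : (Nat.card B).Coprime (Nat.card T) := by
    have h1 := card_sup_mul_card_inf' S1 H hS1H
    have hd : Nat.card B ∣ Nat.card S1 * Nat.card H := Dvd.intro _ h1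
    refine (Nat.Coprime.mul_left ?_ ?_).coprime_dvd_left hd
    · exact hc.cop_ST.coprime_dvd_left (Subgroup.card_dvd_of_le hS1le)
    · rw [hHc]; exact (hc.cop_TA.coprime_dvd_right (hc.cardA ▸ dvd_mul_left q p)).symm
  obtain ⟨v, ⟨hvT, hvB⟩, hev⟩ := exists_fixed_in_coset' B T R (hc.le_norm _ T hc.tn) hcopB
    (Or.inr hc.solT) hRT (hB.trans fun g hg => hg.1.2) he (fun g hg => by
      rw [show e⁻¹ * (g * e * g⁻¹) = e⁻¹ * ⁅g, e⁆ * e by simp only [commutatorElement_def]; group]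
      have heR' : e ∈ Subgroup.normalizer (R : Set Γ) := by
        refine Subgroup.mem_normalizer_fintype fun r hr => ?_
        rw [show e * r * e⁻¹ = ⁅e, r⁆ * r by simp only [commutatorElement_def]; group]
        exact mul_mem (hCR (hc.comm e he r (hRT hr))) hr
      exact (Subgroup.mem_normalizer_iff''.1 heR' _).1 ((hB hg).2 e he))
  have hvR : v ∉ R := fun h => heR (by
    have := mul_mem h (inv_mem hev); rwa [mul_inv_rev, inv_inv, mul_inv_cancel_left] at this)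
  -- the module `T/C`
  let π : Γ →* Γ ⧸ C := QuotientGroup.mk' C
  let M : Subgroup (Γ ⧸ C) := T.map π
  haveI : M.Normal := hc.tn.map π (QuotientGroup.mk'_surjective C)
  letI : CommGroup M :=
    { (inferInstance : Group M) with
      mul_comm := by
        rintro ⟨-, a, ha, rfl⟩ ⟨-, b, hb, rfl⟩
        refine Subtype.ext ?_
        show π a * π b = π b * π a
        rw [← map_mul, ← map_mul]
        refine QuotientGroup.eq.2 ?_
        rw [show (a * b)⁻¹ * (b * a) = ⁅b⁻¹, a⁻¹⁆ by rw [commutatorElement_def]; group]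
        exact hc.comm _ (inv_mem hb) _ (inv_mem ha) }
  let χ : Γ →* MulAut M := (MulAut.conjNormal (H := M)).comp π
  let vb : M := ⟨π v, v, hvT, rfl⟩
  have hfixM : ∀ (m : M), (∀ a ∈ A, χ a m = m) → m = 1 := by
    rintro ⟨-, u, hu, rfl⟩ hm
    refine Subtype.ext ((QuotientGroup.eq_one_iff u).2 (hc.fixA hc.cT (hc.le_norm _ C hc.cn) hu fun a ha => ?_))
    refine QuotientGroup.eq.1 ?_
    show π u = π (a * u * a⁻¹)
    rw [map_mul, map_mul, map_inv]
    exact (congrArg Subtype.val (hm a ha)).symm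
  have hfixS : ∀ (m : M), (∀ a ∈ Sg, χ a m = m) → m = 1 := by
    rintro ⟨-, u, hu, rfl⟩ hm
    refine Subtype.ext ((QuotientGroup.eq_one_iff u).2 (hc.fixS hCdef hu fun a ha => ?_))
    refine (QuotientGroup.eq_one_iff _).1 ?_
    show π ⁅a, u⁆ = 1
    rw [map_commutatorElement, commutatorElement_def, mul_inv_eq_one]
    exact congrArg Subtype.val (hm a ha)
  have hvfix : ∀ y ∈ B, χ y vb = vb := fun y hy => Subtype.ext (by
    show π y * π v * (π y)⁻¹ = π v
    rw [← map_inv, ← map_mul, ← map_mul, (Subgroup.mem_centralizer_iff.1 hvB y hy), mul_inv_cancel_right])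
  haveI : Fintype F := Fintype.ofFinite F
  haveI : Fintype S1 := Fintype.ofFinite S1
  let w : M := ∏ f : F, χ (f : Γ) vb
  have hwA : ∀ a ∈ A, χ a w = w := by
    have hle : A ≤ (MulAction.stabilizer (MulAut M) w).comap χ := by
      have hHF : H ⊔ F = A := sup_eq hc.pp hc.pq hc.cardA hHA hFA
        (fun e => hc.qp.ne (by rw [← hHc, e, hFc])) (hHc ▸ hc.pq) (hFc ▸ hc.pp)
      rw [← hHF]
      refine sup_le (Subgroup.zpowers_le.2 ?_) (fun f hf => ?_)
      · show χ x w = w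
        rw [map_prod]
        have hxF : x ∈ Subgroup.normalizer (F : Set Γ) := hAF hxA
        refine Fintype.prod_equiv (F.normalizerMonoidHom ⟨x, hxF⟩).toEquiv _ _ fun g => ?_
        show χ x (χ (g : Γ) vb) = χ (x * (g : Γ) * x⁻¹) vb
        conv_rhs => rw [← hvfix x (Subgroup.mem_sup_right (Subgroup.mem_zpowers x))]
        rw [← MulAut.mul_apply, ← MulAut.mul_apply, ← map_mul, ← map_mul, inv_mul_cancel_right]
      · show χ f w = w
        rw [map_prod]
        refine Fintype.prod_equiv (Equiv.mulLeft (⟨f, hf⟩ : F)) _ _ fun g => ?_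
        rw [Equiv.coe_mulLeft, Subgroup.coe_mul, map_mul, MulAut.mul_apply]
    exact fun a ha => hle ha
  have hw1 : w = 1 := hfixM w hwA
  have hN : ∀ f : F, f ≠ 1 → ∏ y : S1, χ (y : Γ) (χ (f : Γ) vb) = 1 := by
    intro f hf
    have hf1 : (f : Γ) ≠ 1 := fun e => hf (Subtype.ext e)
    have hfS : (f : Γ) ∈ Subgroup.normalizer (Sg : Set Γ) := hc.As (hFA f.2)
    refine hfixS _ fun σ hσ => ?_
    let U : Subgroup Γ := S1 ⊔ S1.map (MulAut.conj (f : Γ)).toMonoidHom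
    have hS1f : S1.map (MulAut.conj (f : Γ)).toMonoidHom ≤ Sg := by
      rintro _ ⟨y, hy, rfl⟩
      exact (Subgroup.mem_normalizer_iff.1 hfS y).1 (hS1le hy)
    have hUS : U ≤ Sg := sup_le hS1le hS1f
    have hUnS : Sg ≤ Subgroup.normalizer (U : Set Γ) := by
      have h2 : Sg ≤ Subgroup.normalizer ((S1.map (MulAut.conj (f : Γ)).toMonoidHom : Subgroup Γ) : Set Γ) := by
        intro τ hτ
        refine Subgroup.mem_normalizer_fintype ?_
        rintro _ ⟨y, hy, rfl⟩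
        refine ⟨((f : Γ)⁻¹ * τ * f) * y * ((f : Γ)⁻¹ * τ * f)⁻¹,
          (Subgroup.mem_normalizer_iff.1 (hS1S ((Subgroup.mem_normalizer_iff''.1 hfS τ).1 hτ)) y).1 hy, ?_⟩
        simp only [MulEquiv.coe_toMonoidHom, MulAut.conj_apply]
        group
      intro τ hτ
      refine Subgroup.mem_normalizer_fintype fun u hu => ?_
      have hle : U ≤ U.comap (MulAut.conj τ).toMonoidHom := sup_le
        (fun z hz => Subgroup.mem_sup_left ((Subgroup.mem_normalizer_iff.1 (hS1S hτ) z).1 hz))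
        (fun z hz => Subgroup.mem_sup_right ((Subgroup.mem_normalizer_iff.1 (h2 hτ) z).1 hz))
      exact hle hu
    let KU : Subgroup Γ := actTriv Sg U
    have hxK : ∀ y ∈ A, (∀ τ ∈ Sg, ⁅y, τ⁆ ∈ U) → y ∈ KU := fun y hy h => ⟨⟨hc.As hy,
      Subgroup.mem_normalizer_fintype fun u hu => by
        rw [show y * u * y⁻¹ = ⁅y, u⁆ * u by simp only [commutatorElement_def]; group]
        exact mul_mem (h u (hUS hu)) hu⟩, h⟩
    have hAU : A ≤ KU := by
      let H' : Subgroup Γ := H.map (MulAut.conj (f : Γ)).toMonoidHom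
      have hH'A : H' ≤ A := by
        rintro _ ⟨y, hy, rfl⟩
        exact mul_mem (mul_mem (hFA f.2) (hHA hy)) (inv_mem (hFA f.2))
      rw [← sup_eq hc.pp hc.pq hc.cardA hHA hH'A (fun e => hFconj H hHA hHc f f.2 hf1 e.symm)
        (hHc ▸ hc.pq) (by rw [Subgroup.card_map_of_injective (MulEquiv.injective _)]; exact hHc ▸ hc.pq)]
      refine sup_le (fun y hy => hxK y (hHA hy) fun τ hτ => ?_) ?_
      · rw [← commutatorElement_inv τ y]
        exact inv_mem (Subgroup.mem_sup_left (Subgroup.commutator_mem_commutator hτ hy))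
      · rintro _ ⟨y, hy, rfl⟩
        refine hxK _ (hH'A ⟨y, hy, rfl⟩) fun τ hτ => Subgroup.mem_sup_right
          ⟨⁅y, (f : Γ)⁻¹ * τ * f⁆, ?_, ?_⟩
        · rw [← commutatorElement_inv _ y]
          exact inv_mem (Subgroup.commutator_mem_commutator ((Subgroup.mem_normalizer_iff''.1 hfS τ).1 hτ) hy)
        · simp only [MulEquiv.coe_toMonoidHom, MulAut.conj_apply, commutatorElement_def]
          group
    have hσU : σ ∈ U := hc.fixA' hUS (fun a ha => (hAU ha).1.2) hσ fun a ha => by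
      rw [show σ⁻¹ * (a * σ * a⁻¹) = σ⁻¹ * ⁅a, σ⁆ * σ by simp only [commutatorElement_def]; group]
      exact (Subgroup.mem_normalizer_iff''.1 (hUnS hσ) _).1 ((hAU ha).2 σ hσ)
    have hUfix : U ≤ (MulAction.stabilizer (MulAut M) (∏ y : S1, χ (y : Γ) (χ (f : Γ) vb))).comap χ := by
      refine sup_le (fun g hg => ?_) ?_
      · show χ g _ = _
        rw [map_prod]
        refine Fintype.prod_equiv (Equiv.mulLeft (⟨g, hg⟩ : S1)) _ _ fun y => ?_
        rw [Equiv.coe_mulLeft, Subgroup.coe_mul, map_mul, MulAut.mul_apply]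
      · rintro _ ⟨g, hg, rfl⟩
        show χ ((f : Γ) * g * (f : Γ)⁻¹) _ = _
        have hg' : (f : Γ) * g * (f : Γ)⁻¹ ∈ Subgroup.normalizer (S1 : Set Γ) :=
          hS1S (hS1f ⟨g, hg, rfl⟩)
        rw [map_prod]
        refine Fintype.prod_equiv (S1.normalizerMonoidHom ⟨_, hg'⟩).toEquiv _ _ fun y => ?_
        show χ ((f : Γ) * g * (f : Γ)⁻¹) (χ (y : Γ) (χ (f : Γ) vb)) =
          χ ((f : Γ) * g * (f : Γ)⁻¹ * (y : Γ) * ((f : Γ) * g * (f : Γ)⁻¹)⁻¹) (χ (f : Γ) vb)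
        conv_rhs => rw [← hvfix g (Subgroup.mem_sup_left hg)]
        simp only [← MulAut.mul_apply, ← map_mul]
        congr 2
        group
    exact hUfix hσU
  have hprod : (∏ f : F, ∏ y : S1, χ (y : Γ) (χ (f : Γ) vb)) = 1 := by
    rw [Finset.prod_comm, Finset.prod_eq_one]
    intro y _
    rw [← map_prod, show ∏ f : F, χ (f : Γ) vb = 1 from hw1, map_one]
  rw [Finset.prod_eq_single (1 : F) (fun f _ hf => hN f hf) (fun h => absurd (Finset.mem_univ _) h),
    OneMemClass.coe_one, map_one, MulAut.one_apply,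
    Finset.prod_congr rfl (fun y _ => hvfix y.1 (Subgroup.mem_sup_left y.2)), Finset.prod_const,
    Finset.card_univ, ← Nat.card_eq_fintype_card] at hprod
  have hvt : vb ^ t = 1 :=
    Subtype.ext ((map_pow π v t).symm.trans ((QuotientGroup.eq_one_iff _).2 (hc.expo v hvT)))
  have h2 := pow_gcd_eq_one.2 ⟨hprod, hvt⟩
  haveI := Fact.mk hc.ps
  obtain ⟨j, hj⟩ := IsPGroup.iff_card.1 (hc.sgrp.to_le hS1le)
  rw [hj, (((Nat.coprime_primes hc.ps hc.pt).2 (Ne.symm hc.ts)).pow_left j).gcd_eq_one, pow_one] at h2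
  exact hvR (hCR ((QuotientGroup.eq_one_iff v).1 (congrArg Subtype.val h2)))

end Cfsg.Agent.Perm.PQFix
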