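import Cfsg.Agent.Lib.Perm.PQFix.Nondeg

/-!
# An automorphism of prime order without fixed vector on a non-degenerate group of class two
-/

set_option autoImplicit false
set_option linter.style.haveILetI false
set_option linter.unusedSectionVars false

namespace Cfsg.Agent.Perm.PQFix

open scoped commutatorElement
open Cfsg.Agent.Solv.CRep

universe u v w

variable {k : Type u} [Field k] [IsAlgClosed k]
variable {U : Type w} [AddCommGroup U] [Module k U] [FiniteDimensional k U]

/-- The centraliser of an operator. -/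
def cent (θ : Module.End k U) : Submodule k (Module.End k U) where
  carrier := {A | A * θ = θ * A}
  add_mem' := fun {a b} ha hb => by
    show (a + b) * θ = θ * (a + b)
    rw [add_mul, mul_add, ha, hb]
  zero_mem' := by show (0 : Module.End k U) * θ = θ * 0; rw [zero_mul, mul_zero]
  smul_mem' := fun c a ha => by
    show c • a * θ = θ * (c • a)
    rw [smul_mul_assoc, mul_smul_comm, ha]

/-- Eigenspace decomposition of an operator with `∑_{i<q} θ^i = 0`. -/
theorem eigen_decomp {q : ℕ} (hq : q.Prime) (hqk : (q : k) ≠ 0) (θ : Module.End k U)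
    (hθ : θ ^ q = 1) (hsum : ∑ i ∈ Finset.range q, θ ^ i = 0) :
    ∃ (ev : Fin (q - 1) → k) (pr : Fin (q - 1) → Module.End k U),
      (∀ j u, θ (pr j u) = ev j • pr j u) ∧ (∀ j, pr j * θ = θ * pr j) ∧ ∑ j, pr j = 1 ∧
      (∀ i j, ∀ u, θ u = ev i • u → pr j u = if j = i then u else 0) ∧
      (∀ j, ev j ≠ 1) ∧ Function.Injective ev ∧ (∀ c : k, c ^ q = 1 → c ≠ 1 → ∃ j, ev j = c) := by
  classical
  haveI : NeZero q := ⟨hq.ne_zero⟩
  haveI : NeZero (q : k) := ⟨hqk⟩
  obtain ⟨ζ, hζ⟩ := HasEnoughRootsOfUnity.exists_primitiveRoot k q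
  have hz0 : ζ ≠ 0 := hζ.ne_zero hq.ne_zero
  let P : ℕ → Module.End k U := fun j => (q : k)⁻¹ • ∑ i ∈ Finset.range q, ((ζ ^ j)⁻¹) ^ i • θ ^ i
  have hshift : ∀ (f : ℕ → Module.End k U), f q = f 0 →
      ∑ i ∈ Finset.range q, f (i + 1) = ∑ i ∈ Finset.range q, f i := fun f hf => by
    have h1 := Finset.sum_range_succ' f q
    rw [Finset.sum_range_succ, hf] at h1
    exact (add_right_cancel h1).symm
  have hq1 : ∀ j : ℕ, ((ζ ^ j)⁻¹) ^ q = 1 := fun j => by
    rw [inv_pow, ← pow_mul, mul_comm, pow_mul, hζ.pow_eq_one, one_pow, inv_one]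
  have hθP : ∀ j, θ * P j = ζ ^ j • P j := fun j => by
    show θ * ((q : k)⁻¹ • _) = ζ ^ j • ((q : k)⁻¹ • _)
    rw [mul_smul_comm, smul_comm (ζ ^ j) (q : k)⁻¹]
    congr 1
    conv_rhs => rw [← hshift (fun i => ((ζ ^ j)⁻¹) ^ i • θ ^ i) (by rw [hq1, hθ, pow_zero, pow_zero])]
    rw [Finset.mul_sum, Finset.smul_sum]
    refine Finset.sum_congr rfl fun i _ => ?_
    rw [mul_smul_comm, smul_smul, ← pow_succ', pow_succ' ((ζ ^ j)⁻¹), ← mul_assoc,
      mul_inv_cancel₀ (pow_ne_zero _ hz0), one_mul]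
  have hPθ : ∀ j, P j * θ = θ * P j := fun j => by
    show ((q : k)⁻¹ • _) * θ = θ * ((q : k)⁻¹ • _)
    rw [smul_mul_assoc, mul_smul_comm, Finset.sum_mul, Finset.mul_sum]
    congr 1
    exact Finset.sum_congr rfl fun i _ => by rw [smul_mul_assoc, mul_smul_comm, ← pow_succ, ← pow_succ']
  have hP0 : P 0 = 0 := by
    show (q : k)⁻¹ • _ = 0
    simp only [pow_zero, inv_one, one_pow, one_smul, hsum, smul_zero]
  have hgeom : ∀ c : k, c ^ q = 1 → ∑ i ∈ Finset.range q, c ^ i = if c = 1 then (q : k) else 0 := by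
    intro c hc
    split_ifs with h
    · rw [h]; simp
    · have h1 := geom_sum_mul c q
      rw [hc, sub_self, mul_eq_zero] at h1
      exact h1.resolve_right (sub_ne_zero.2 h)
  have hPsum : ∑ j ∈ Finset.range q, P j = 1 := by
    show ∑ j ∈ Finset.range q, (q : k)⁻¹ • _ = 1
    rw [← Finset.smul_sum, Finset.sum_comm]
    simp only [← Finset.sum_smul]
    rw [Finset.sum_eq_single 0]
    · simp only [pow_zero, Finset.sum_const, Finset.card_range, nsmul_eq_mul, mul_one, smul_smul,
        inv_mul_cancel₀ hqk, one_smul]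
    · intro i hi hi0
      rw [Finset.sum_congr rfl (g := fun j => ((ζ ^ i)⁻¹) ^ j) (fun j _ => by
        rw [inv_pow, inv_pow, ← pow_mul, ← pow_mul, mul_comm]), hgeom _ (hq1 i), if_neg, zero_smul]
      rw [inv_eq_one]
      exact hζ.pow_ne_one_of_pos_of_lt hi0 (Finset.mem_range.1 hi)
    · intro h; exact absurd (Finset.mem_range.2 hq.pos) h
  have hdelta : ∀ (l j : ℕ), l < q → j < q → ∀ u, θ u = ζ ^ l • u → P j u = if j = l then u else 0 := by
    intro l j hl hj u hu
    have hpow : ∀ i : ℕ, (θ ^ i) u = (ζ ^ l) ^ i • u := fun i => by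
      induction i with
      | zero => simp
      | succ i ih => rw [pow_succ', Module.End.mul_apply, ih, map_smul, hu, smul_smul, pow_succ]
    show ((q : k)⁻¹ • ∑ i ∈ Finset.range q, ((ζ ^ j)⁻¹) ^ i • θ ^ i) u = _
    simp only [LinearMap.smul_apply, LinearMap.sum_apply, hpow, smul_smul, ← mul_pow, ← Finset.sum_smul]
    rw [hgeom _ (by rw [mul_pow, hq1, one_mul, ← pow_mul, mul_comm, pow_mul, hζ.pow_eq_one, one_pow])]
    by_cases hjl : j = l
    · subst hjl
      rw [inv_mul_cancel₀ (pow_ne_zero _ hz0), if_pos rfl, if_pos rfl, inv_mul_cancel₀ hqk, one_smul]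
    · rw [if_neg (fun h => hjl ?_), if_neg hjl, mul_zero, zero_smul]
      rw [inv_mul_eq_one₀ (pow_ne_zero _ hz0)] at h
      exact hζ.pow_inj hj hl h
  refine ⟨fun j => ζ ^ (j.1 + 1), fun j => P (j.1 + 1), fun j u => ?_, fun j => hPθ _, ?_, ?_, ?_, ?_, ?_⟩
  · rw [← Module.End.mul_apply, hθP]; rfl
  · have h1 := hPsum
    rw [show q = q - 1 + 1 by have := hq.pos; omega, Finset.sum_range_succ', hP0, add_zero] at h1
    rw [← Fin.sum_univ_eq_sum_range (fun j => P (j + 1)) (q - 1)] at h1
    exact h1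
  · intro i j u hu
    rw [hdelta (i.1 + 1) (j.1 + 1) (by omega) (by omega) u hu]
    simp only [add_left_inj, Fin.val_inj]
  · exact fun j => hζ.pow_ne_one_of_pos_of_lt (by omega) (by omega)
  · intro i j h
    have := hζ.pow_inj (by omega) (by omega) h
    exact Fin.ext (by omega)
  · intro c hc hc1
    obtain ⟨i, hi, rfl⟩ := hζ.eq_pow_of_pow_eq_one hc
    have hi0 : i ≠ 0 := fun h => hc1 (by rw [h, pow_zero])
    exact ⟨⟨i - 1, by omega⟩, by simp only [Nat.sub_add_cancel (Nat.pos_of_ne_zero hi0)]⟩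

/-- Lower bound for the centraliser, and commutativity when it is small. -/
theorem cent_facts {q : ℕ} (hq : q.Prime) (hqk : (q : k) ≠ 0) (θ : Module.End k U)
    (hθ : θ ^ q = 1) (hsum : ∑ i ∈ Finset.range q, θ ^ i = 0) :
    Module.finrank k U * Module.finrank k U ≤ (q - 1) * Module.finrank k (cent θ) ∧
      (Module.finrank k (cent θ) ≤ Module.finrank k U →
        (∀ A ∈ cent θ, ∀ B ∈ cent θ, A * B = B * A) ∧
        (Module.finrank k U = q - 1 → ∀ c : k, c ^ q = 1 → c ≠ 1 → ∃ u ≠ (0 : U), θ u = c • u)) := by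
  classical
  obtain ⟨ev, pr, h1, h2, h3, h4, h5, h6, h7⟩ := eigen_decomp hq hqk θ hθ hsum
  let L : Fin (q - 1) → Submodule k U := fun j => θ.eigenspace (ev j)
  have hmem : ∀ j u, u ∈ L j ↔ θ u = ev j • u := fun j u => Module.End.mem_eigenspace_iff
  have htop : ⨆ j, L j = ⊤ := by
    refine eq_top_iff.2 fun u _ => ?_
    have hu : u = ∑ j, pr j u := by
      rw [← LinearMap.sum_apply, h3]; rfl
    rw [hu]
    exact Submodule.sum_mem _ fun j _ => Submodule.mem_iSup_of_mem j ((hmem j _).2 (h1 j u))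
  have hint := (DirectSum.isInternal_submodule_iff_iSupIndep_and_iSup_eq_top L).2
    ⟨θ.eigenspaces_iSupIndep.comp h6, htop⟩
  have hN : Module.finrank k U = ∑ j, Module.finrank k (L j) := by
    rw [(LinearEquiv.ofBijective (DirectSum.coeLinearMap L) hint).symm.finrank_eq, Module.finrank_directSum]
  let proj : ∀ j, U →ₗ[k] L j := fun j => (pr j).codRestrict (L j) fun u => (hmem j _).2 (h1 j u)
  let G : (∀ j, Module.End k (L j)) →ₗ[k] Module.End k U :=
    { toFun := fun g => ∑ j, (L j).subtype ∘ₗ g j ∘ₗ proj j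
      map_add' := fun g g' => by
        rw [← Finset.sum_add_distrib]
        exact Finset.sum_congr rfl fun j _ => LinearMap.ext fun u => by simp
      map_smul' := fun c g => by
        rw [Finset.smul_sum]
        exact Finset.sum_congr rfl fun j _ => LinearMap.ext fun u => by simp }
  have hG : ∀ g, G g ∈ cent θ := fun g => LinearMap.ext fun u => by
    show G g (θ u) = θ (G g u)
    simp only [G, LinearMap.coe_mk, AddHom.coe_mk, LinearMap.sum_apply, map_sum]
    refine Finset.sum_congr rfl fun j _ => ?_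
    have hp : proj j (θ u) = ev j • proj j u := Subtype.ext (by
      show pr j (θ u) = ev j • pr j u
      rw [← Module.End.mul_apply, h2, Module.End.mul_apply, h1])
    show ((g j (proj j (θ u)) : L j) : U) = θ ((g j (proj j u) : L j) : U)
    rw [hp, map_smul, (hmem j _).1 (g j (proj j u)).2]
    rfl
  have hGinj : Function.Injective (G.codRestrict (cent θ) hG) := by
    rw [← LinearMap.ker_eq_bot, LinearMap.ker_eq_bot']
    intro g hg
    have hg' : G g = 0 := congrArg Subtype.val hg
    funext i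
    refine LinearMap.ext fun v => Subtype.ext ?_
    have h := LinearMap.congr_fun hg' (v : U)
    simp only [G, LinearMap.coe_mk, AddHom.coe_mk, LinearMap.sum_apply, LinearMap.comp_apply,
      Submodule.subtype_apply, LinearMap.zero_apply] at h
    rw [Finset.sum_eq_single i (fun j _ hji => by
      rw [show proj j v = 0 from Subtype.ext (show pr j v = 0 by rw [h4 i j v ((hmem i _).1 v.2), if_neg hji]),
        map_zero]; rfl) (fun h => absurd (Finset.mem_univ _) h)] at h
    rwa [show proj i v = v from Subtype.ext (show pr i v = v by rw [h4 i i v ((hmem i _).1 v.2), if_pos rfl])] at h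
  have hsq : ∑ j, Module.finrank k (L j) ^ 2 ≤ Module.finrank k (cent θ) := by
    refine le_trans (le_of_eq ?_) (LinearMap.finrank_le_finrank_of_injective hGinj)
    rw [Module.finrank_pi_fintype]
    exact Finset.sum_congr rfl fun j _ => by rw [Module.finrank_linearMap, sq]
  refine ⟨?_, fun hle => ?_⟩
  · have hcs := sq_sum_le_card_mul_sum_sq (s := Finset.univ) (f := fun j => Module.finrank k (L j))
    rw [Finset.card_univ, Fintype.card_fin, ← hN, sq] at hcs
    exact hcs.trans (Nat.mul_le_mul_left _ hsq)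
  have hone : ∀ j, Module.finrank k (L j) ≤ 1 := by
    intro j
    by_contra hj
    have hlt : ∑ j, Module.finrank k (L j) < ∑ j, Module.finrank k (L j) ^ 2 :=
      Finset.sum_lt_sum (fun i _ => Nat.le_self_pow two_ne_zero _) ⟨j, Finset.mem_univ _, by
        have : 2 ≤ Module.finrank k (L j) := by omega
        nlinarith⟩
    omega
  refine ⟨fun A hA B hB => ?_, fun hNq c hc hc1 => ?_⟩
  · have hscal : ∀ X ∈ cent θ, ∀ j, ∀ u ∈ L j, ∃ a : k, ∀ w ∈ L j, X w = a • w := by
      intro X hX j u _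
      have hpres : ∀ w ∈ L j, X w ∈ L j := fun w hw => by
        rw [hmem] at hw ⊢
        rw [← Module.End.mul_apply, ← (show X * θ = θ * X from hX), Module.End.mul_apply, hw, map_smul]
      obtain ⟨v, hv⟩ := finrank_le_one_iff.1 (hone j)
      obtain ⟨a, ha⟩ := hv ⟨X v, hpres v v.2⟩
      refine ⟨a, fun w hw => ?_⟩
      obtain ⟨b, hb⟩ := hv ⟨w, hw⟩
      have hb' : b • (v : U) = w := congrArg Subtype.val hb
      have ha' : a • (v : U) = X v := congrArg Subtype.val ha
      rw [← hb', map_smul, ← ha', smul_comm]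
    have key : ∀ u ∈ ⨆ j, L j, (A * B) u = (B * A) u := by
      intro u hu
      refine Submodule.iSup_induction _ (motive := fun u => (A * B) u = (B * A) u) hu (fun j w hw => ?_)
        (by rw [map_zero, map_zero]) (fun x y hx hy => by rw [map_add, map_add, hx, hy])
      obtain ⟨a, ha⟩ := hscal A hA j w hw
      obtain ⟨b, hb⟩ := hscal B hB j w hw
      rw [Module.End.mul_apply, Module.End.mul_apply, hb w hw, map_smul, ha w hw, map_smul, hb w hw,
        smul_comm]
    exact LinearMap.ext fun u => key u (htop ▸ Submodule.mem_top)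
  · obtain ⟨j, hj⟩ := h7 c hc hc1
    have hLne : L j ≠ ⊥ := fun h => by
      have hlt : ∑ i, Module.finrank k (L i) < ∑ _i : Fin (q - 1), 1 :=
        Finset.sum_lt_sum (fun i _ => hone i) ⟨j, Finset.mem_univ _, by rw [h, finrank_bot]; exact one_pos⟩
      rw [Finset.sum_const, Finset.card_univ, Fintype.card_fin, smul_eq_mul, mul_one] at hlt
      omega
    obtain ⟨u, hu, hu0⟩ := Submodule.exists_mem_ne_zero_of_ne_bot hLne
    exact ⟨u, hu0, hj ▸ (hmem j u).1 hu⟩

variable {E : Type v} [Group E] [Finite E] {Z : Subgroup E} {lam : E → k} (hc : Ctx Z lam)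
variable {ρ : E →* Module.End k U} (hl : ∀ z ∈ Z, ρ z = lam z • (1 : Module.End k U))

include hc hl

/-- An automorphism of prime order `q`, fixed-point-free modulo `Z`, whose operator has no fixed
vector: the degree is `q - 1` and the centraliser of the operator is commutative. -/
theorem Ctx.fpf_count (hs : IsSimpleRep ρ) {q : ℕ} (hq : q.Prime) (hqk : (q : k) ≠ 0)
    (φ : MulAut E) (hφq : φ ^ q = 1) (hφZ : ∀ z ∈ Z, φ z ∈ Z) (hφfix : ∀ a, a⁻¹ * φ a ∈ Z → a ∈ Z)
    (hne : Z ≠ ⊤) (θ : Module.End k U) (hθ : ∀ e, θ * ρ e = ρ (φ e) * θ) (hθq : θ ^ q = 1)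
    (hsum : ∑ i ∈ Finset.range q, θ ^ i = 0) :
    Module.finrank k U = q - 1 ∧ (∀ A ∈ cent θ, ∀ B ∈ cent θ, A * B = B * A) ∧
      ∀ c : k, c ^ q = 1 → c ≠ 1 → ∃ u ≠ (0 : U), θ u = c • u := by
  classical
  haveI := hs.1
  haveI := hc.normal
  have hφq' : ∀ a, (φ ^ q) a = a := fun a => by rw [hφq]; rfl
  let π0 : E ⧸ Z →* E ⧸ Z := QuotientGroup.map Z Z φ.toMonoidHom fun z hz => hφZ z hz
  have hπ0 : ∀ a : E, π0 (QuotientGroup.mk a) = QuotientGroup.mk (φ a) := fun a => rfl
  have hiter : ∀ (n : ℕ) (a : E), (π0 : E ⧸ Z → E ⧸ Z)^[n] (QuotientGroup.mk a) = QuotientGroup.mk ((φ ^ n) a) := by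
    intro n
    induction n with
    | zero => intro a; rfl
    | succ n ih => intro a; rw [Function.iterate_succ_apply', ih, hπ0, pow_succ']; rfl
  have hbij : Function.Bijective π0 := by
    refine Finite.injective_iff_bijective.1 fun x y h => ?_
    induction x using QuotientGroup.induction_on with | H a =>
    induction y using QuotientGroup.induction_on with | H b =>
    have h' := congrArg ((π0 : E ⧸ Z → E ⧸ Z)^[q - 1]) h
    rw [← Function.iterate_succ_apply, ← Function.iterate_succ_apply, hiter, hiter,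
      Nat.succ_eq_add_one, Nat.sub_add_cancel hq.pos, hφq', hφq'] at h'
    exact h'
  let π : Equiv.Perm (E ⧸ Z) := Equiv.ofBijective π0 hbij
  have hπq : π ^ q = 1 := Equiv.ext fun x => by
    induction x using QuotientGroup.induction_on with | H a =>
    rw [Equiv.Perm.coe_pow, show (⇑π : E ⧸ Z → E ⧸ Z) = π0 from rfl, hiter, hφq']
    rfl
  have hπfix : ∀ x, π x = x → x = 1 := by
    intro x hx
    induction x using QuotientGroup.induction_on with | H a =>
    exact (QuotientGroup.eq_one_iff a).2 (hφfix a (QuotientGroup.eq.1 hx.symm))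
  obtain ⟨m0, hm0⟩ : ∃ m : E ⧸ Z, m ≠ 1 := by
    by_contra h
    push Not at h
    exact hne (eq_top_iff.2 fun a _ => (QuotientGroup.eq_one_iff a).1 (h _))
  have hπ1 : π ≠ 1 := fun h => hm0 (hπfix m0 (by rw [h]; rfl))
  have hord : orderOf π = q :=
    haveI := Fact.mk hq
    orderOf_eq_prime hπq hπ1
  let H := Subgroup.zpowers π
  haveI : Fintype H := Fintype.ofFinite H
  haveI : Fintype (E ⧸ Z) := Fintype.ofFinite _
  let O := MulAction.orbitRel.Quotient H (E ⧸ Z)
  haveI : Fintype O := Fintype.ofFinite O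
  haveI : ∀ g : H, Fintype (MulAction.fixedBy (E ⧸ Z) g) := fun g => Fintype.ofFinite _
  -- orbit count
  have horb : Nat.card O * q + 1 = Nat.card (E ⧸ Z) + q := by
    have hb := MulAction.sum_card_fixedBy_eq_card_orbits_mul_card_group H (E ⧸ Z)
    have hHq : Fintype.card H = q := by rw [← Nat.card_eq_fintype_card, Nat.card_zpowers, hord]
    have hfix : ∀ g : H, g ≠ 1 → Fintype.card (MulAction.fixedBy (E ⧸ Z) g) = 1 := by
      intro g hg
      have hgen : Subgroup.zpowers g = ⊤ := zpowers_eq_top_of_prime_card (p := q)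
        (h := by rw [Nat.card_eq_fintype_card, hHq]) (hp := ⟨hq⟩) hg
      refine Fintype.card_eq_one_iff.2 ⟨⟨1, ?_⟩, fun y => Subtype.ext (hπfix _ ?_)⟩
      · show (g : Equiv.Perm (E ⧸ Z)) 1 = 1
        have hs : π ∈ MulAction.stabilizer (Equiv.Perm (E ⧸ Z)) (1 : E ⧸ Z) := map_one π0
        exact (Subgroup.zpowers_le.2 hs) g.2
      · obtain ⟨i, hi⟩ : (⟨π, Subgroup.mem_zpowers π⟩ : H) ∈ Subgroup.zpowers g := hgen ▸ Subgroup.mem_top _
        have hy : g ∈ MulAction.stabilizer H (y : E ⧸ Z) := y.2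
        have h' := zpow_mem hy i
        rw [show g ^ i = _ from hi] at h'
        exact h'
    rw [← Finset.add_sum_erase _ _ (Finset.mem_univ (1 : H)),
      Finset.sum_congr rfl (fun g hg => hfix g (Finset.ne_of_mem_erase hg)), Finset.sum_const,
      Finset.card_erase_of_mem (Finset.mem_univ _), Finset.card_univ, hHq, smul_eq_mul, mul_one] at hb
    have h1 : Fintype.card (MulAction.fixedBy (E ⧸ Z) (1 : H)) = Nat.card (E ⧸ Z) := by
      rw [Nat.card_eq_fintype_card]
      exact Fintype.card_congr (Equiv.subtypeUnivEquiv fun y => one_smul H y)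
    rw [h1] at hb
    have hO : Nat.card O = Fintype.card (Quotient (MulAction.orbitRel H (E ⧸ Z))) := Nat.card_eq_fintype_card
    rw [hO]
    have := hq.pos
    omega
  -- the centraliser is controlled by the orbits
  let bas : Module.Basis (E ⧸ Z) k (Module.End k U) := Module.Basis.mk (hc.indep hl hs) (hc.spans hl hs)
  have hbas : ∀ m, bas m = ρ m.out := fun m => Module.Basis.mk_apply _ _ m
  have hcm : ∀ m, ∃ c : k, c ≠ 0 ∧ θ * bas m = c • (bas (π m) * θ) := by
    intro m
    have hz : (π m).out⁻¹ * φ m.out ∈ Z := by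
      refine QuotientGroup.eq.1 ?_
      rw [QuotientGroup.out_eq', ← hπ0, QuotientGroup.out_eq']
      rfl
    refine ⟨lam ((π m).out⁻¹ * φ m.out), hc.ne_zero hz, ?_⟩
    rw [hbas, hbas, hθ, ← smul_mul_assoc, ← hc.rho_mul hl _ hz, mul_inv_cancel_left]
  choose cm hcm0 hcm1 using hcm
  have hθinv : θ * θ ^ (q - 1) = 1 := by rw [← pow_succ', Nat.sub_add_cancel hq.pos, hθq]
  have hrepr : ∀ X ∈ cent θ, ∀ m, bas.repr X (π m) = cm m * bas.repr X m := by
    intro X hX m
    have h1 : X = ∑ i, (bas.repr X i * cm i) • bas (π i) := by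
      have h2 : θ * X = (∑ i, (bas.repr X i * cm i) • bas (π i)) * θ := by
        conv_lhs => rw [← bas.sum_repr X]
        rw [Finset.mul_sum, Finset.sum_mul]
        exact Finset.sum_congr rfl fun i _ => by rw [mul_smul_comm, hcm1, smul_smul, smul_mul_assoc]
      rw [← (show X * θ = θ * X from hX)] at h2
      have h3 := congrArg (fun A => A * θ ^ (q - 1)) h2
      simpa only [mul_assoc, hθinv, mul_one] using h3
    have h4 := congrArg (fun A => bas.repr A (π m)) h1
    simp only [map_sum, map_smul, Module.Basis.repr_self, Finsupp.coe_finset_sum, Finset.sum_apply,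
      Finsupp.smul_single, smul_eq_mul, mul_one] at h4
    rw [Finset.sum_eq_single m (fun i _ him => Finsupp.single_eq_of_ne (fun h => him (π.injective h).symm))
      (fun h => absurd (Finset.mem_univ _) h), Finsupp.single_eq_same] at h4
    rw [h4, mul_comm]
  let R : cent θ →ₗ[k] (O → k) :=
    { toFun := fun X o => bas.repr (X : Module.End k U) o.out
      map_add' := fun X Y => by funext o; simp
      map_smul' := fun c X => by funext o; simp }
  have hR : Function.Injective R := by
    rw [← LinearMap.ker_eq_bot, LinearMap.ker_eq_bot']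
    rintro ⟨X, hX⟩ hz
    refine Subtype.ext (bas.repr.injective (Finsupp.ext fun m => ?_))
    simp only [map_zero, Finsupp.zero_apply]
    have hstep : ∀ n : ℕ, ∀ y, bas.repr X y = 0 → bas.repr X ((π ^ n) y) = 0 := by
      intro n
      induction n with
      | zero => exact fun y hy => hy
      | succ n ih =>
        intro y hy
        rw [pow_succ', Equiv.Perm.mul_apply, hrepr X hX, ih y hy, mul_zero]
    obtain ⟨g, hg⟩ : m ∈ MulAction.orbit H (Quotient.mk'' m : O).out :=
      MulAction.mem_orbit_symm.1 (Quotient.mk_out (s := MulAction.orbitRel H (E ⧸ Z)) m)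
    obtain ⟨n, hn⟩ := (mem_powers_iff_mem_zpowers.2 g.2 : (g : Equiv.Perm (E ⧸ Z)) ∈ Submonoid.powers π)
    rw [← hg]
    simp only [ZeroMemClass.coe_zero, map_zero, Finsupp.zero_apply]
    show bas.repr X ((g : Equiv.Perm (E ⧸ Z)) _) = 0
    rw [← show π ^ n = (g : Equiv.Perm (E ⧸ Z)) from hn]
    exact hstep n _ (congrFun hz _)
  have hup : Module.finrank k (cent θ) ≤ Nat.card O := by
    have := LinearMap.finrank_le_finrank_of_injective hR
    rwa [Module.finrank_pi, ← Nat.card_eq_fintype_card] at this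
  obtain ⟨hlow, hrest⟩ := cent_facts hq hqk θ hθq hsum
  have hM := hc.card_quotient hl hs
  have hN1 : 1 < Module.finrank k U := by
    have h1 : 1 < Nat.card (E ⧸ Z) := Finite.one_lt_card_iff_nontrivial.2 ⟨⟨m0, 1, hm0⟩⟩
    rw [hM] at h1
    rcases Nat.lt_or_ge 1 (Module.finrank k U) with h | h
    · exact h
    · have := Nat.mul_le_mul h h; omega
  rw [hM] at horb
  obtain ⟨N, hNdef⟩ : ∃ N, N = Module.finrank k U := ⟨_, rfl⟩
  rw [← hNdef] at horb hN1 hlow hrest ⊢
  obtain ⟨b, hb⟩ : ∃ b, b = Nat.card O := ⟨_, rfl⟩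
  rw [← hb] at horb hup
  have hle : N * N ≤ (q - 1) * b := hlow.trans (Nat.mul_le_mul_left _ hup)
  have hNle : N ≤ q - 1 := by
    have h1 : N * N * q ≤ (q - 1) * (b * q) := by
      rw [← mul_assoc]; exact Nat.mul_le_mul_right q hle
    obtain ⟨r, hr⟩ : ∃ r, q = r + 1 := ⟨q - 1, by have := hq.pos; omega⟩
    subst hr
    simp only [Nat.add_sub_cancel] at h1 ⊢
    have h2 : b * (r + 1) = N * N + r := by omega
    rw [h2] at h1
    by_contra hlt
    have h3 : (r + 1) * (r + 1) ≤ N * N := Nat.mul_le_mul (by omega) (by omega)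
    nlinarith
  have hNeq : N = q - 1 := by
    have hd : q ∣ (N + 1) * (N - 1) := by
      refine ⟨b - 1, ?_⟩
      rw [← Nat.mul_self_sub_mul_self_eq, one_mul, Nat.mul_sub, mul_one, mul_comm q b]
      omega
    rcases hq.dvd_mul.1 hd with h | h
    · have := Nat.le_of_dvd (by omega) h; omega
    · have := Nat.le_of_dvd (by omega) h; omega
  have hbN : b ≤ N := by
    obtain ⟨r, hr⟩ : ∃ r, q = r + 1 := ⟨q - 1, by have := hq.pos; omega⟩
    subst hr
    simp only [Nat.add_sub_cancel] at hNeq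
    subst hNeq
    nlinarith
  obtain ⟨hcomm, heig⟩ := hrest (hup.trans hbN)
  exact ⟨hNeq, hcomm, heig hNeq⟩

end Cfsg.Agent.Perm.PQFix
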