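import Cfsg.Agent.Lib.Solv.Cores
import Cfsg.Agent.Lib.OddLocal.CN

/-!
# Nilpotency when coprime elements centralise the cores
-/

set_option autoImplicit false
set_option linter.style.haveILetI false

namespace Cfsg.Agent.Perm.PQFix

open scoped commutatorElement
open Cfsg.Agent.Solv

universe u

/-- A soluble group in which every `s`-element centralises every `O_t`, `t ≠ s`, is nilpotent. -/
theorem nilpotent_of_commutes_cores {Q : Type u} [Group Q] [Finite Q] (hsol : Group.IsSolvable Q)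
    (h : ∀ s t : ℕ, s.Prime → t.Prime → s ≠ t → ∀ σ : Q, (∃ j : ℕ, σ ^ s ^ j = 1) →
      ∀ x ∈ Cfsg.pCore t Q, σ * x = x * σ) :
    Group.IsNilpotent Q := by
  classical
  haveI := fittingSubgroup_normal (G := Q)
  haveI := fittingSubgroup_nilpotent (G := Q)
  suffices hF : Cfsg.fittingSubgroup Q = ⊤ by
    haveI : Group.IsNilpotent (⊤ : Subgroup Q) := hF ▸ fittingSubgroup_nilpotent
    exact Group.nilpotent_of_mulEquiv Subgroup.topEquiv
  let Zf : Subgroup Q := Cfsg.fittingSubgroup Q ⊓ Subgroup.centralizer (Cfsg.fittingSubgroup Q : Set Q)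
  haveI : Zf.Normal := Subgroup.normal_inf_normal _ _
  have hkey : ∀ s q : ℕ, s.Prime → q.Prime → s ≠ q → ∀ σ τ : Q, (∃ j : ℕ, σ ^ s ^ j = 1) →
      (∃ j : ℕ, τ ^ q ^ j = 1) → ⁅σ, τ⁆ ∈ Zf := by
    intro s q hs hq hsq σ τ hσ hτ
    have hle : Cfsg.fittingSubgroup Q ≤ Subgroup.centralizer {⁅σ, τ⁆} := by
      rw [fitting_eq_iSup_pCore]
      refine iSup_le fun r y hy => ?_
      rw [Subgroup.mem_centralizer_singleton_iff]
      haveI := pCore_normal (G := Q) (r : ℕ)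
      have hn : ∀ g : Q, g * y * g⁻¹ ∈ Cfsg.pCore (r : ℕ) Q := fun g => (pCore_normal _).conj_mem y hy g
      by_cases hrs : (r : ℕ) = s
      · have hτy : ∀ z ∈ Cfsg.pCore (r : ℕ) Q, τ * z = z * τ :=
          h q r hq r.2 (fun e => hsq (hrs ▸ e.symm)) τ hτ
        have e1 : σ⁻¹ * y * σ ∈ Cfsg.pCore (r : ℕ) Q := by simpa using hn σ⁻¹
        have h1 := hτy y hy
        have h2 := hτy _ e1
        have h3 : ⁅σ, τ⁆ * y * ⁅σ, τ⁆⁻¹ = y := by
          calc ⁅σ, τ⁆ * y * ⁅σ, τ⁆⁻¹ = σ * τ * (σ⁻¹ * (τ⁻¹ * (y * τ)) * σ) * τ⁻¹ * σ⁻¹ := by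
                simp only [commutatorElement_def]; group
            _ = σ * τ * (σ⁻¹ * y * σ) * τ⁻¹ * σ⁻¹ := by rw [← h1, inv_mul_cancel_left]
            _ = σ * (τ * (σ⁻¹ * y * σ)) * τ⁻¹ * σ⁻¹ := by group
            _ = y := by rw [h2]; group
        exact (mul_inv_eq_iff_eq_mul.1 h3).symm
      · have hσy : ∀ z ∈ Cfsg.pCore (r : ℕ) Q, σ * z = z * σ :=
          h s r hs r.2 (fun e => hrs e.symm) σ hσ
        have e1 : τ⁻¹ * y * τ ∈ Cfsg.pCore (r : ℕ) Q := by simpa using hn τ⁻¹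
        have h1 := hσy y hy
        have h2 := hσy _ e1
        have h3 : ⁅σ, τ⁆ * y * ⁅σ, τ⁆⁻¹ = y := by
          calc ⁅σ, τ⁆ * y * ⁅σ, τ⁆⁻¹ = σ * τ * (σ⁻¹ * ((τ⁻¹ * y * τ) * σ)) * τ⁻¹ * σ⁻¹ := by
                simp only [commutatorElement_def]; group
            _ = σ * τ * (σ⁻¹ * (σ * (τ⁻¹ * y * τ))) * τ⁻¹ * σ⁻¹ := by rw [h2]
            _ = σ * y * σ⁻¹ := by group
            _ = y := by rw [h1, mul_inv_cancel_right]
        exact (mul_inv_eq_iff_eq_mul.1 h3).symm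
    have hC : ⁅σ, τ⁆ ∈ Subgroup.centralizer (Cfsg.fittingSubgroup Q : Set Q) :=
      Subgroup.mem_centralizer_iff.2 fun y hy => Subgroup.mem_centralizer_singleton_iff.1 (hle hy)
    exact ⟨centralizer_fitting_le hsol hC, hC⟩
  refine eq_top_of_forall_sylow_le _ fun s hs => ?_
  obtain ⟨S⟩ : Nonempty (Sylow s Q) := inferInstance
  refine ⟨S, ?_⟩
  have hpel : ∀ (q : ℕ) [Fact q.Prime] (P : Sylow q Q), ∀ y ∈ (P : Subgroup Q), ∃ j : ℕ, y ^ q ^ j = 1 :=
    fun q _ P y hy => by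
      obtain ⟨j, hj⟩ := P.isPGroup' ⟨y, hy⟩
      exact ⟨j, congrArg Subtype.val hj⟩
  let N : Subgroup Q := (S : Subgroup Q) ⊔ Zf
  haveI hNn : N.Normal := by
    refine Subgroup.normalizer_eq_top_iff.1 (eq_top_of_forall_sylow_le _ fun q hq => ?_)
    by_cases hqs : q = s
    · subst hqs
      exact ⟨S, le_sup_left.trans Subgroup.le_normalizer⟩
    · obtain ⟨P⟩ : Nonempty (Sylow q Q) := inferInstance
      refine ⟨P, fun τ hτ => Subgroup.mem_normalizer_fintype fun u hu => ?_⟩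
      have hle : N ≤ N.comap (MulAut.conj τ).toMonoidHom := sup_le (fun σ hσ => by
        show τ * σ * τ⁻¹ ∈ N
        rw [show τ * σ * τ⁻¹ = ⁅σ, τ⁆⁻¹ * σ by simp only [commutatorElement_def]; group]
        exact mul_mem (inv_mem (Subgroup.mem_sup_right
          (hkey s q hs.out hq.out (fun e => hqs e.symm) σ τ (hpel s S σ hσ) (hpel q P τ hτ))))
          (Subgroup.mem_sup_left hσ))
        (fun z hz => Subgroup.mem_sup_right ((inferInstance : Zf.Normal).conj_mem z hz τ))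
      exact hle hu
  have hZ : ∀ q : ℕ, q.Prime → q ≠ s → ∀ b ∈ N, (∃ j : ℕ, b ^ q ^ j = 1) →
      b ∈ Zf ∧ b ∈ Cfsg.pCore q Q := by
    intro q hq hqs b hb ⟨j, hj⟩
    obtain ⟨σ, hσ, z, hz, rfl⟩ := Subgroup.mem_sup_of_normal_right.1 hb
    obtain ⟨i, hi⟩ := hpel s S σ hσ
    have e : QuotientGroup.mk' Zf (σ * z) = QuotientGroup.mk' Zf σ := by
      rw [map_mul, show QuotientGroup.mk' Zf z = 1 from (QuotientGroup.eq_one_iff z).2 hz, mul_one]
    have h1 : QuotientGroup.mk' Zf σ ^ q ^ j = 1 := by rw [← e, ← map_pow, hj, map_one]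
    have h2 : QuotientGroup.mk' Zf σ ^ s ^ i = 1 := by rw [← map_pow, hi, map_one]
    have h3 := pow_gcd_eq_one.2 ⟨h1, h2⟩
    rw [(Nat.Coprime.pow j i ((Nat.coprime_primes hq hs.out).2 hqs)).gcd_eq_one, pow_one] at h3
    have hbZ : σ * z ∈ Zf := mul_mem ((QuotientGroup.eq_one_iff σ).1 h3) hz
    refine ⟨hbZ, ?_⟩
    let U : Subgroup Q :=
      { carrier := {y | y ∈ Zf ∧ ∃ j : ℕ, y ^ q ^ j = 1}
        one_mem' := ⟨one_mem _, 0, one_pow _⟩
        mul_mem' := fun {x y} hx hy => by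
          obtain ⟨i, hi⟩ := hx.2
          obtain ⟨l, hl⟩ := hy.2
          have hxy : Commute x y := (Subgroup.mem_centralizer_iff.1 hy.1.2 x hx.1.1)
          refine ⟨mul_mem hx.1 hy.1, i + l, ?_⟩
          rw [hxy.mul_pow, pow_add, pow_mul, hi, one_pow, one_mul, mul_comm (q ^ i), pow_mul, hl, one_pow]
        inv_mem' := fun {x} hx => ⟨inv_mem hx.1, hx.2.imp fun i hi => by rw [inv_pow, hi, inv_one]⟩ }
    haveI : U.Normal := ⟨fun y hy g => ⟨(inferInstance : Zf.Normal).conj_mem y hy.1 g,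
      hy.2.imp fun i hi => by rw [conj_pow, hi, mul_one, mul_inv_cancel]⟩⟩
    have hU : IsPGroup q U := fun y => y.2.2.imp fun i hi => Subtype.ext hi
    exact normal_le_pCore hU ⟨hbZ, j, hj⟩
  have hnil : Group.IsNilpotent N := OddLocal.CN.nilpotent_of_commute (C := N) fun a b ha hb hab x hx y hy hxa hyb => by
    by_cases has : a = s
    · subst has
      exact h a b ha hb hab x hxa y (hZ b hb (Ne.symm hab) y hy hyb).2
    · by_cases hbs : b = s
      · subst hbs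
        exact (h b a hb ha (Ne.symm hab) y hyb x (hZ a ha has x hx hxa).2).symm
      · exact Subgroup.mem_centralizer_iff.1 (hZ b hb hbs y hy hyb).1.2 x (hZ a ha has x hx hxa).1.1
  exact le_sup_left.trans (normal_le_fitting hnil)

end Cfsg.Agent.Perm.PQFix
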