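import Cfsg.Agent.Lib.Solv.TheoremBCore

/-!
# Representations of groups of class two which are non-degenerate over a central character,
and automorphisms of prime order without fixed vector
-/

set_option autoImplicit false
set_option linter.style.haveILetI false
set_option linter.unusedSectionVars false

namespace Cfsg.Agent.Perm.PQFix

open scoped commutatorElement
open Cfsg.Agent.Solv.CRep Cfsg.Agent.Solv.ThmB

universe u v w

variable {k : Type u} [Field k] [IsAlgClosed k]
variable {E : Type v} [Group E] [Finite E]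

/-- `lam` is a character of the central subgroup `Z`, non-degenerate on commutators. -/
structure Ctx (Z : Subgroup E) (lam : E → k) : Prop where
  central : ∀ z ∈ Z, ∀ e : E, z * e = e * z
  comm : ∀ a b : E, ⁅a, b⁆ ∈ Z
  mul : ∀ y ∈ Z, ∀ z ∈ Z, lam (y * z) = lam y * lam z
  one : lam 1 = 1
  nd : ∀ a : E, (∀ b : E, lam ⁅a, b⁆ = 1) → a ∈ Z
  card : (Nat.card E : k) ≠ 0

variable {Z : Subgroup E} {lam : E → k} (hc : Ctx Z lam)
variable {U : Type w} [AddCommGroup U] [Module k U] [FiniteDimensional k U]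
variable {ρ : E →* Module.End k U} (hl : ∀ z ∈ Z, ρ z = lam z • (1 : Module.End k U))

include hc

theorem Ctx.normal : Z.Normal := ⟨fun z hz g => by
  rw [← hc.central z hz g, mul_inv_cancel_right]; exact hz⟩

theorem Ctx.ne_zero {z : E} (hz : z ∈ Z) : lam z ≠ 0 := fun h => by
  have := hc.mul z hz z⁻¹ (inv_mem hz)
  rw [mul_inv_cancel, hc.one, h, zero_mul] at this
  exact one_ne_zero this

include hl

theorem Ctx.trace_eq_zero {e : E} (he : e ∉ Z) : LinearMap.trace k U (ρ e) = 0 := by
  obtain ⟨b, hb⟩ : ∃ b, lam ⁅e, b⁆ ≠ 1 := by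
    by_contra h
    push Not at h
    exact he (hc.nd e h)
  have h1 : ρ (e * b * e⁻¹ * b⁻¹) * ρ (b * e * b⁻¹) = ρ e := by rw [← map_mul]; congr 1; group
  rw [← commutatorElement_def, hl _ (hc.comm e b), smul_mul_assoc, one_mul] at h1
  have h2 := congrArg (LinearMap.trace k U) h1
  rw [map_smul, map_mul ρ, map_mul ρ, LinearMap.trace_mul_comm, ← mul_assoc, ← map_mul ρ, inv_mul_cancel,
    map_one, one_mul, smul_eq_mul] at h2
  have h3 : (lam ⁅e, b⁆ - 1) * LinearMap.trace k U (ρ e) = 0 := by rw [sub_mul, one_mul, h2, sub_self]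
  exact (mul_eq_zero.1 h3).resolve_left (sub_ne_zero.2 hb)

theorem Ctx.rho_mul (e : E) {z : E} (hz : z ∈ Z) : ρ (e * z) = lam z • ρ e := by
  rw [map_mul, hl z hz, mul_smul_comm, mul_one]

theorem Ctx.indep (hs : IsSimpleRep ρ) :
    LinearIndependent k fun m : E ⧸ Z => ρ m.out := by
  classical
  haveI := hc.normal
  haveI : Fintype E := Fintype.ofFinite E
  haveI : Fintype (E ⧸ Z) := Fintype.ofFinite _
  rw [Fintype.linearIndependent_iff]
  intro g hg j
  have h := congrArg (fun A : Module.End k U => LinearMap.trace k U (ρ (j.out)⁻¹ * A)) hg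
  simp only [Finset.mul_sum, map_sum, mul_zero, map_zero, mul_smul_comm, map_smul, smul_eq_mul] at h
  rw [Finset.sum_eq_single j (fun m _ hm => by
    rw [← map_mul, hc.trace_eq_zero hl (fun h' => hm ?_), mul_zero]
    rw [← QuotientGroup.eq_one_iff, QuotientGroup.mk_mul, QuotientGroup.mk_inv,
      QuotientGroup.out_eq', QuotientGroup.out_eq', inv_mul_eq_one] at h'
    exact h'.symm) (fun h' => absurd (Finset.mem_univ _) h'),
    ← map_mul, inv_mul_cancel, map_one, LinearMap.trace_one] at h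
  exact (mul_eq_zero.1 h).resolve_right (finrank_ne_zero hs hc.card)

theorem Ctx.spans (hs : IsSimpleRep ρ) :
    (⊤ : Submodule k (Module.End k U)) ≤ Submodule.span k (Set.range fun m : E ⧸ Z => ρ m.out) := by
  classical
  haveI := hc.normal
  haveI : Fintype E := Fintype.ofFinite E
  intro A _
  have hmem : (Nat.card E : k) • A ∈ Submodule.span k (Set.range fun m : E ⧸ Z => ρ m.out) := by
    rw [← trace_expand hs A]
    refine Submodule.smul_mem _ _ (Submodule.sum_mem _ fun g _ => Submodule.smul_mem _ _ ?_)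
    obtain ⟨z, hz, hgz⟩ : ∃ z ∈ Z, g = (QuotientGroup.mk g : E ⧸ Z).out * z :=
      ⟨(QuotientGroup.mk g : E ⧸ Z).out⁻¹ * g,
        QuotientGroup.eq.1 (QuotientGroup.out_eq' _), by rw [mul_inv_cancel_left]⟩
    rw [hgz, hc.rho_mul hl _ hz]
    exact Submodule.smul_mem _ _ (Submodule.subset_span ⟨_, rfl⟩)
  have := Submodule.smul_mem _ (Nat.card E : k)⁻¹ hmem
  rwa [smul_smul, inv_mul_cancel₀ hc.card, one_smul] at this

theorem Ctx.card_quotient (hs : IsSimpleRep ρ) :
    Nat.card (E ⧸ Z) = Module.finrank k U * Module.finrank k U := by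
  classical
  haveI : Fintype (E ⧸ Z) := Fintype.ofFinite _
  rw [← Module.finrank_linearMap k k U U, Nat.card_eq_fintype_card]
  exact (Module.finrank_eq_card_basis (Module.Basis.mk (hc.indep hl hs) (hc.spans hl hs))).symm

theorem Ctx.exists_intertwiner {U' : Type w} [AddCommGroup U'] [Module k U'] [Nontrivial U']
    {ρ' : E →* Module.End k U'} (hl' : ∀ z ∈ Z, ρ' z = lam z • (1 : Module.End k U'))
    (hs : IsSimpleRep ρ) : ∃ f : U →ₗ[k] U', f ≠ 0 ∧ ∀ e u, f (ρ e u) = ρ' e (f u) := by
  classical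
  haveI := hc.normal
  haveI : Fintype E := Fintype.ofFinite E
  let Φ : (U →ₗ[k] U') → U →ₗ[k] U' := fun f => ∑ g : E, ρ' g ∘ₗ f ∘ₗ ρ g⁻¹
  have hint : ∀ f e u, Φ f (ρ e u) = ρ' e (Φ f u) := by
    intro f e u
    simp only [Φ, LinearMap.sum_apply, LinearMap.comp_apply, map_sum]
    symm
    refine Fintype.sum_equiv (Equiv.mulLeft e) _ _ fun g => ?_
    simp only [Equiv.coe_mulLeft]
    rw [mul_inv_rev, map_mul ρ g⁻¹, map_mul ρ' e, Module.End.mul_apply, Module.End.mul_apply,
      rep_inv_apply]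
  by_contra hcon
  push Not at hcon
  have hzero : ∀ f, Φ f = 0 := fun f => by
    by_contra h
    obtain ⟨e, u, he⟩ := hcon (Φ f) h
    exact he (hint f e u)
  obtain ⟨v, hv⟩ := exists_ne (0 : U')
  let b := Module.finBasis k U
  have hsum : ∑ g : E, LinearMap.trace k U (ρ g⁻¹) • ρ' g v = 0 := by
    have h1 : ∀ i, ∑ g : E, b.repr (ρ g⁻¹ (b i)) i • ρ' g v = 0 := fun i => by
      have := LinearMap.congr_fun (hzero ((b.coord i).smulRight v)) (b i)
      simpa [Φ] using this
    have h2 : ∀ g : E, LinearMap.trace k U (ρ g⁻¹) = ∑ i, b.repr (ρ g⁻¹ (b i)) i := fun g => by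
      rw [LinearMap.trace_eq_matrix_trace k b, Matrix.trace]
      exact Finset.sum_congr rfl fun i _ => by rw [Matrix.diag_apply, LinearMap.toMatrix_apply]
    simp only [h2, Finset.sum_smul]
    rw [Finset.sum_comm]
    exact Finset.sum_eq_zero fun i _ => h1 i
  have hterm : ∀ g : E, LinearMap.trace k U (ρ g⁻¹) • ρ' g v =
      if g ∈ Z then (Module.finrank k U : k) • v else 0 := by
    intro g
    split_ifs with hg
    · rw [hl _ (inv_mem hg), hl' g hg, map_smul, LinearMap.trace_one, LinearMap.smul_apply,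
        Module.End.one_apply, smul_smul, smul_eq_mul, mul_right_comm, ← hc.mul _ (inv_mem hg) _ hg,
        inv_mul_cancel, hc.one, one_mul]
    · rw [hc.trace_eq_zero hl (fun h => hg (inv_inv g ▸ inv_mem h)), zero_smul]
  simp only [hterm] at hsum
  rw [← Finset.sum_filter, Finset.sum_const, ← Nat.cast_smul_eq_nsmul k, smul_smul,
    smul_eq_zero] at hsum
  rcases hsum with h | h
  · rcases mul_eq_zero.1 h with h | h
    · refine hc.card ?_
      rw [Z.card_eq_card_quotient_mul_card_subgroup, Nat.cast_mul]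
      have : Nat.card Z = (Finset.univ.filter fun g : E => g ∈ Z).card := by
        rw [Nat.card_eq_fintype_card, Fintype.card_subtype]
      rw [this, h, mul_zero]
    · exact finrank_ne_zero hs hc.card h
  · exact hv h

/-- The operator on `U` attached to an automorphism fixing `lam`. -/
theorem Ctx.exists_twist (hs : IsSimpleRep ρ) (φ : MulAut E)
    (hφ : ∀ z ∈ Z, φ z ∈ Z ∧ lam (φ z) = lam z) :
    ∃ θ : U ≃ₗ[k] U, ∀ e u, θ (ρ e u) = ρ (φ e) (θ u) := by
  haveI := hs.1
  obtain ⟨f, hf0, hf⟩ := hc.exists_intertwiner (U' := U) (ρ' := ρ.comp φ.toMonoidHom) hl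
    (fun z hz => by
      show ρ (φ z) = _
      rw [hl _ (hφ z hz).1, (hφ z hz).2]) hs
  have hinj := intertwiner_injective hs f hf0 _ hf
  exact ⟨LinearEquiv.ofBijective f ⟨hinj, LinearMap.surjective_of_injective hinj⟩, hf⟩

theorem Ctx.commutant (hs : IsSimpleRep ρ) (A : Module.End k U) (hA : ∀ e, A * ρ e = ρ e * A) :
    ∃ c : k, A = c • (1 : Module.End k U) := schur hs A hA

end Cfsg.Agent.Perm.PQFix
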