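import Mathlib

/-!
# Subgroups of a non-abelian group of order `pq`
-/

set_option autoImplicit false
set_option linter.style.haveILetI false

namespace Cfsg.Agent.Perm.PQFix

universe v

variable {Γ : Type v} [Group Γ] [Finite Γ] {A : Subgroup Γ} {p q : ℕ}
  (hp : p.Prime) (hq : q.Prime) (hA : Nat.card A = p * q)

include hp hq hA

theorem card_cases {H : Subgroup Γ} (hH : H ≤ A) :
    H = ⊥ ∨ Nat.card H = p ∨ Nat.card H = q ∨ H = A := by
  have h : Nat.card H ∣ p * q := hA ▸ Subgroup.card_dvd_of_le hH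
  obtain ⟨a, b, ha, hb, hab⟩ := (Nat.dvd_mul.1 h)
  rcases (Nat.dvd_prime hp).1 ha with rfl | rfl <;> rcases (Nat.dvd_prime hq).1 hb with rfl | rfl
  · exact Or.inl (Subgroup.card_eq_one.1 (by rw [← hab, mul_one]))
  · exact Or.inr (Or.inr (Or.inl (by rw [← hab, one_mul])))
  · exact Or.inr (Or.inl (by rw [← hab, mul_one]))
  · exact Or.inr (Or.inr (Or.inr (Subgroup.eq_of_le_of_card_ge hH (by rw [hA, hab]))))

theorem prime_sub {H : Subgroup Γ} (hH : H ≤ A) (h0 : H ≠ ⊥) (h1 : H ≠ A) :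
    (Nat.card H).Prime ∧ (Nat.card H = p ∨ Nat.card H = q) := by
  rcases card_cases hp hq hA hH with h | h | h | h
  · exact absurd h h0
  · exact ⟨h ▸ hp, Or.inl h⟩
  · exact ⟨h ▸ hq, Or.inr h⟩
  · exact absurd h h1

theorem sup_eq {H H' : Subgroup Γ} (hH : H ≤ A) (hH' : H' ≤ A) (hne : H ≠ H')
    (hHp : (Nat.card H).Prime) (hH'p : (Nat.card H').Prime) : H ⊔ H' = A := by
  rcases card_cases hp hq hA (sup_le hH hH') with h | h | h | h
  · exact absurd ((le_bot_iff.1 (h ▸ le_sup_left : H ≤ ⊥)).trans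
      (le_bot_iff.1 (h ▸ le_sup_right : H' ≤ ⊥)).symm) hne
  all_goals first
    | exact h
    | · have hpr : (Nat.card (H ⊔ H' : Subgroup Γ)).Prime := by rw [h]; assumption
        have h2 := Subgroup.eq_of_le_of_card_ge (le_sup_left : H ≤ H ⊔ H')
          (le_of_eq ((Nat.prime_dvd_prime_iff_eq hHp hpr).1 (Subgroup.card_dvd_of_le le_sup_left)).symm)
        have h3 := Subgroup.eq_of_le_of_card_ge (le_sup_right : H' ≤ H ⊔ H')
          (le_of_eq ((Nat.prime_dvd_prime_iff_eq hH'p hpr).1 (Subgroup.card_dvd_of_le le_sup_right)).symm)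
        exact absurd (h2.trans h3.symm) hne

theorem exists_normal_p (hqp : q < p) (hna : ∃ a ∈ A, ∃ b ∈ A, a * b ≠ b * a) :
    ∃ F : Subgroup Γ, F ≤ A ∧ Nat.card F = p ∧ A ≤ Subgroup.normalizer (F : Set Γ) ∧
      ∀ H ≤ A, Nat.card H = q → ∀ f ∈ F, f ≠ 1 → H.map (MulAut.conj f).toMonoidHom ≠ H := by
  classical
  haveI := Fact.mk hp
  haveI := Fact.mk hq
  obtain ⟨P⟩ : Nonempty (Sylow p A) := inferInstance
  have hPc : Nat.card P = p := by
    rw [P.card_eq_multiplicity, hA, Nat.factorization_mul hp.ne_zero hq.ne_zero, Finsupp.add_apply,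
      hp.factorization_self, Nat.Prime.factorization hq, Finsupp.single_eq_of_ne hqp.ne', add_zero,
      pow_one]
  have hsyl : Nat.card (Sylow p A) = 1 := by
    have h1 := Sylow.card_dvd_index P
    have h2 : (P : Subgroup A).index = q := by
      have h3 := Subgroup.index_mul_card (P : Subgroup A)
      rw [hA, show Nat.card (P : Subgroup A) = p from hPc, mul_comm p q] at h3
      exact Nat.eq_of_mul_eq_mul_right hp.pos h3
    rw [h2] at h1
    rcases (Nat.dvd_prime hq).1 h1 with h | h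
    · exact h
    · have h4 := card_sylow_modEq_one p A
      rw [h, Nat.ModEq, Nat.mod_eq_of_lt hqp, Nat.mod_eq_of_lt hp.one_lt] at h4
      exact absurd h4 hq.ne_one
  haveI : Subsingleton (Sylow p A) := (Nat.card_eq_one_iff_unique.1 hsyl).1
  have hPn : (P : Subgroup A).Normal := P.normal_of_subsingleton
  let F : Subgroup Γ := (P : Subgroup A).map A.subtype
  have hFA : F ≤ A := Subgroup.map_subtype_le _
  have hFc : Nat.card F = p := by rw [Subgroup.card_map_of_injective A.subtype_injective]; exact hPc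
  have hFn : A ≤ Subgroup.normalizer (F : Set Γ) := fun a ha => Subgroup.mem_normalizer_fintype (by
    rintro _ ⟨y, hy, rfl⟩
    exact ⟨⟨a, ha⟩ * y * ⟨a, ha⟩⁻¹, hPn.conj_mem y hy _, rfl⟩)
  refine ⟨F, hFA, hFc, hFn, fun H hH hHc f hf hf1 hfix => ?_⟩
  obtain ⟨h0, hh0⟩ : ∃ h, h ∈ H ∧ h ≠ 1 :=
    H.bot_or_exists_ne_one.resolve_left (fun e => hq.ne_one (by rw [← hHc, e, Subgroup.card_bot]))
  obtain ⟨hh, hh1⟩ := hh0
  have hcomm : f * h0 = h0 * f := by
    have h1 : f * h0 * f⁻¹ * h0⁻¹ ∈ H := mul_mem (hfix ▸ ⟨h0, hh, rfl⟩) (inv_mem hh)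
    have h2 : f * h0 * f⁻¹ * h0⁻¹ ∈ F := by
      rw [show f * h0 * f⁻¹ * h0⁻¹ = f * (h0 * f⁻¹ * h0⁻¹) by group]
      exact mul_mem hf ((Subgroup.mem_normalizer_iff.1 (hFn (hH hh)) _).1 (inv_mem hf))
    have h3 : Disjoint F H := by
      rw [disjoint_iff]
      exact Subgroup.inf_eq_bot_of_coprime (by rw [hFc, hHc]; exact (Nat.coprime_primes hp hq).2 hqp.ne')
    have h4 := Subgroup.disjoint_def.1 h3 h2 h1
    rwa [mul_inv_eq_one, mul_inv_eq_iff_eq_mul] at h4
  have htop : Subgroup.zpowers f ⊔ Subgroup.zpowers h0 = A := by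
    refine sup_eq hp hq hA (Subgroup.zpowers_le.2 (hFA hf)) (Subgroup.zpowers_le.2 (hH hh)) ?_ ?_ ?_
    · intro e
      have h1 : Subgroup.zpowers f = F := Subgroup.eq_of_le_of_card_ge (Subgroup.zpowers_le.2 hf) (by
        rw [hFc, Nat.card_zpowers]
        exact le_of_eq (orderOf_eq_prime (by
          have := pow_card_eq_one' (x := (⟨f, hf⟩ : F)); rw [hFc] at this
          exact congrArg Subtype.val this) hf1).symm)
      have h2 : h0 ∈ F := h1 ▸ e ▸ Subgroup.mem_zpowers h0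
      exact hh1 (Subgroup.disjoint_def.1 (disjoint_iff.2 (Subgroup.inf_eq_bot_of_coprime
        (by rw [hFc, hHc]; exact (Nat.coprime_primes hp hq).2 hqp.ne'))) h2 hh)
    · rw [Nat.card_zpowers, orderOf_eq_prime (p := p) (by
        have := pow_card_eq_one' (x := (⟨f, hf⟩ : F)); rw [hFc] at this
        exact congrArg Subtype.val this) hf1]
      exact hp
    · rw [Nat.card_zpowers, orderOf_eq_prime (p := q) (by
        have := pow_card_eq_one' (x := (⟨h0, hh⟩ : H)); rw [hHc] at this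
        exact congrArg Subtype.val this) hh1]
      exact hq
  obtain ⟨a, ha, b, hb, hab⟩ := hna
  refine hab ?_
  have hab' : ∀ y ∈ A, ∀ z ∈ A, y * z = z * y := by
    have hle : A ≤ Subgroup.centralizer ({f, h0} : Set Γ) := by
      rw [← htop]
      refine sup_le (Subgroup.zpowers_le.2 ?_) (Subgroup.zpowers_le.2 ?_) <;>
        · rw [Subgroup.mem_centralizer_iff]
          intro y hy
          rcases hy with rfl | rfl <;> simp [hcomm]
    intro y hy z hz
    have hle2 : A ≤ Subgroup.centralizer ({y} : Set Γ) := by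
      rw [← htop]
      have h5 := Subgroup.mem_centralizer_iff.1 (hle hy)
      refine sup_le (Subgroup.zpowers_le.2 ?_) (Subgroup.zpowers_le.2 ?_) <;>
        rw [Subgroup.mem_centralizer_singleton_iff]
      · exact h5 f (Or.inl rfl)
      · exact h5 h0 (Or.inr rfl)
    exact ((Subgroup.mem_centralizer_singleton_iff.1 (hle2 hz))).symm
  exact hab' a ha b hb

end Cfsg.Agent.Perm.PQFix
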