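import Cfsg.Agent.Lib.Perm.PQFix.Core
import Cfsg.Agent.Lib.Perm.PQFix.Nilp
import Cfsg.Agent.Lib.Solv.ConjRep
import Cfsg.Agent.Lib.Solv.HallHigman
import Cfsg.Agent.Lib.Solv.Subnormal
import Cfsg.Agent.Lib.Fusion.Cores

/-!
# Fitting height two for groups admitting a fixed-point-free non-abelian group of order `pq`
-/

set_option autoImplicit false
set_option linter.style.haveILetI false
set_option linter.unusedSectionVars false

namespace Cfsg.Agent.Perm.PQFix

open scoped commutatorElement Pointwise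
open Cfsg.Agent.Solv Cfsg.Agent.Solv.CRep

universe u w

variable {G : Type u} [Group G] [Finite G]

/-- The conjugation representation on an elementary abelian subgroup without fixed point of `A`:
the sum over `A` vanishes. -/
theorem exists_conjRep_sum {r : ℕ} [Fact r.Prime] (H A V : Subgroup G) (hAH : A ≤ H)
    (hV : Cfsg.IsElementaryAbelian r V) (hHV : H ≤ Subgroup.normalizer (V : Set G))
    (hfix : V ⊓ Subgroup.centralizer (A : Set G) = ⊥) [Fintype A] (F : Type w) [Field F] [CharP F r] :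
    ∃ (k : ℕ) (ρ : H →* Module.End F (Fin k → F)),
      (∀ h : H, ρ h = 1 ↔ (h : G) ∈ Subgroup.centralizer (V : Set G)) ∧
      ∀ v, ∑ a : A, ρ ⟨(a : G), hAH a.2⟩ v = 0 := by
  classical
  letI : CommGroup V := { (inferInstance : Group V) with mul_comm := hV.1.is_comm.comm }
  let c : H →* MulAut V := (Subgroup.normalizerMonoidHom V).comp (Subgroup.inclusion hHV)
  let α : H →* AddMonoid.End (Additive V) :=
    { toFun := fun h => MonoidHom.toAdditive (c h).toMonoidHom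
      map_one' := DFunLike.ext _ _ fun m => by
        show Additive.ofMul (c 1 (Additive.toMul m)) = m
        rw [map_one, MulAut.one_apply]
        rfl
      map_mul' := fun a b => DFunLike.ext _ _ fun m => by
        show Additive.ofMul (c (a * b) (Additive.toMul m)) =
          Additive.ofMul (c a (c b (Additive.toMul m)))
        rw [map_mul, MulAut.mul_apply] }
  have hα : ∀ (h : H) (m : Additive V),
      ((Additive.toMul (α h m) : V) : G) = (h : G) * (Additive.toMul m : V) * (h : G)⁻¹ :=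
    fun h m => rfl
  obtain ⟨k, Θ, hΘ, -⟩ := exists_baseChange (M := Additive V) (p := r) (fun m => by
    apply Additive.toMul.injective
    rw [toMul_nsmul, toMul_zero]
    exact Subtype.ext (by rw [SubmonoidClass.coe_pow]; exact hV.2 _ (Additive.toMul m).2)) F
  refine ⟨k, Θ.toMonoidHom.comp α, fun h => ?_, ?_⟩
  · show Θ (α h) = 1 ↔ _
    rw [map_eq_one_iff Θ hΘ, Subgroup.mem_centralizer_iff]
    constructor
    · intro h1 v hv
      have h2 := hα h (Additive.ofMul ⟨v, hv⟩)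
      rw [h1] at h2
      change v = (h : G) * v * (h : G)⁻¹ at h2
      rw [eq_mul_inv_iff_mul_eq] at h2
      exact h2
    · intro h1
      refine DFunLike.ext _ _ fun m => Additive.toMul.injective (Subtype.ext ?_)
      rw [hα]
      show _ = ((Additive.toMul m : V) : G)
      rw [mul_inv_eq_iff_eq_mul]
      exact (h1 _ (Additive.toMul m).2).symm
  · obtain ⟨S, hS⟩ : ∃ S : AddMonoid.End (Additive V), S = ∑ a : A, α ⟨(a : G), hAH a.2⟩ := ⟨_, rfl⟩
    have hS0 : S = 0 := DFunLike.ext _ _ fun m => by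
      refine Additive.toMul.injective (Subtype.ext (Subgroup.mem_bot.1 ?_))
      rw [← hfix]
      refine Subgroup.mem_inf.2 ⟨(Additive.toMul (S m)).2, Subgroup.mem_centralizer_iff.2 fun b hb => ?_⟩
      have hb' : α ⟨b, hAH hb⟩ * S = S := by
        rw [hS, Finset.mul_sum]
        refine Fintype.sum_equiv (Equiv.mulLeft (⟨b, hb⟩ : A)) _ _ fun a => ?_
        rw [← map_mul]
        rfl
      have h3 := hα ⟨b, hAH hb⟩ (S m)
      rw [show α ⟨b, hAH hb⟩ (S m) = (α ⟨b, hAH hb⟩ * S) m from rfl, hb', eq_mul_inv_iff_mul_eq] at h3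
      exact h3.symm
    intro v
    have h := congrArg (fun E => Θ E v) hS0
    simp only [hS, map_sum, map_zero, LinearMap.sum_apply, LinearMap.zero_apply] at h
    exact h

variable {p q : ℕ}

/-- Reduction: a pair of invariant subgroups acting nontrivially on an elementary abelian section. -/
theorem no_pair (hp : p.Prime) (hq : q.Prime) (hqp : q < p) (A : Subgroup G) (hA : Nat.card A = p * q)
    (hna : ∃ a ∈ A, ∃ b ∈ A, a * b ≠ b * a) {r s t : ℕ} (hr : r.Prime) (hs : s.Prime) (ht : t.Prime)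
    (hts : t ≠ s) (htr : t ≠ r) (hrp : r ≠ p) (hrq : r ≠ q) (htp : t ≠ p) (htq : t ≠ q) (hsp : s ≠ p) (hsq : s ≠ q)
    (V : Subgroup G) (hVn : V.Normal) (hV : Cfsg.IsElementaryAbelian r V)
    (hCV : V ⊓ Subgroup.centralizer (A : Set G) = ⊥)
    (T S : Subgroup G) (hT : IsPGroup t T) (hS : IsPGroup s S)
    (hAT : A ≤ Subgroup.normalizer (T : Set G)) (hAS : A ≤ Subgroup.normalizer (S : Set G))
    (hST : S ≤ Subgroup.normalizer (T : Set G))
    (hCT : T ⊓ Subgroup.centralizer (A : Set G) = ⊥) (hCS : S ⊓ Subgroup.centralizer (A : Set G) = ⊥)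
    {σ τ : G} (hσ : σ ∈ S) (hτ : τ ∈ T) (hne : ⁅σ, τ⁆ ∉ Subgroup.centralizer (V : Set G)) : False := by
  classical
  haveI := hVn
  haveI := Fact.mk hr
  haveI := Fact.mk hs
  haveI := Fact.mk ht
  haveI := Fact.mk hp
  haveI := Fact.mk hq
  -- a minimal pair
  let P : Subgroup G × Subgroup G → Prop := fun X => X.1 ≤ T ∧ X.2 ≤ S ∧
    A ≤ Subgroup.normalizer (X.1 : Set G) ∧ A ≤ Subgroup.normalizer (X.2 : Set G) ∧
    X.2 ≤ Subgroup.normalizer (X.1 : Set G) ∧
    ∃ a ∈ X.2, ∃ b ∈ X.1, ⁅a, b⁆ ∉ Subgroup.centralizer (V : Set G)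
  obtain ⟨⟨T0, S0⟩, hP, hmin⟩ := Set.exists_min_image {X | P X}
    (fun X : Subgroup G × Subgroup G => Nat.card X.1 + Nat.card X.2) (Set.toFinite _)
    ⟨(T, S), le_rfl, le_rfl, hAT, hAS, hST, σ, hσ, τ, hτ, hne⟩
  obtain ⟨hT0, hS0, hAT0, hAS0, hST0, a0, ha0, b0, hb0, hab0⟩ := hP
  let H : Subgroup G := T0 ⊔ S0 ⊔ A
  have hTH : T0 ≤ H := le_sup_left.trans le_sup_left
  have hSH : S0 ≤ H := le_sup_right.trans le_sup_left
  have hAH : A ≤ H := le_sup_right
  have hHV : H ≤ Subgroup.normalizer (V : Set G) := by rw [Subgroup.normalizer_eq_top]; exact le_top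
  let k := AlgebraicClosure (ZMod r)
  haveI : CharP k r := charP_of_injective_algebraMap (algebraMap (ZMod r) k).injective r
  haveI : Fintype A := Fintype.ofFinite A
  obtain ⟨d, ρ, hker, hsum⟩ := exists_conjRep_sum H A V hAH hV hHV hCV k
  -- the quotient
  let N : Subgroup G := T0 ⊓ Subgroup.centralizer (V : Set G)
  let N' : Subgroup H := N.subgroupOf H
  haveI : N'.Normal := by
    refine Subgroup.normal_subgroupOf_of_le_normalizer (sup_le (sup_le ?_ ?_) ?_)
    all_goals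
      intro g hg
      refine Subgroup.mem_normalizer_fintype fun y hy => Subgroup.mem_inf.2 ⟨(Subgroup.mem_normalizer_iff.1
        (?_ : g ∈ Subgroup.normalizer (T0 : Set G)) y).1 (Subgroup.mem_inf.1 hy).1,
        (Subgroup.normal_centralizer).conj_mem y (Subgroup.mem_inf.1 hy).2 g⟩
      first
        | exact Subgroup.le_normalizer hg
        | exact hST0 hg
        | exact hAT0 hg
  let π : H →* H ⧸ N' := QuotientGroup.mk' N'
  have hπs : Function.Surjective π := QuotientGroup.mk'_surjective N'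
  have hπ1 : ∀ h : H, π h = 1 ↔ (h : G) ∈ N := fun h => QuotientGroup.eq_one_iff h
  let T' : Subgroup (H ⧸ N') := (T0.subgroupOf H).map π
  let S' : Subgroup (H ⧸ N') := (S0.subgroupOf H).map π
  let A' : Subgroup (H ⧸ N') := (A.subgroupOf H).map π
  have hcopA : ∀ (X : Subgroup G) (i : ℕ), i.Prime → i ≠ p → i ≠ q → IsPGroup i X →
      (Nat.card A).Coprime (Nat.card X) := by
    intro X i hi hip hiq hX
    haveI := Fact.mk hi
    obtain ⟨j, hj⟩ := IsPGroup.iff_card.1 hX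
    rw [hA, hj]
    exact (Nat.Coprime.mul_left ((Nat.coprime_primes hp hi).2 hip.symm)
      ((Nat.coprime_primes hq hi).2 hiq.symm)).pow_right j
  have hT0p : IsPGroup t T0 := hT.to_le hT0
  have hS0p : IsPGroup s S0 := hS.to_le hS0
  have hdisjA : ∀ y ∈ A, y ∈ T0 → y = 1 := fun y hy hy' => Subgroup.disjoint_def.1
    (disjoint_iff.2 (Subgroup.inf_eq_bot_of_coprime (hcopA T0 t ht htp htq hT0p))) hy hy'
  -- the copy of `A`
  let eA : A → A' := fun a => ⟨π ⟨(a : G), hAH a.2⟩, ⟨(a : G), hAH a.2⟩, a.2, rfl⟩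
  have heA : Function.Bijective eA := by
    refine ⟨fun a b hab => ?_, ?_⟩
    · have h : π ((⟨(a : G), hAH a.2⟩ : H)⁻¹ * ⟨(b : G), hAH b.2⟩) = 1 := by
        rw [map_mul, map_inv, show π ⟨(a : G), hAH a.2⟩ = π ⟨(b : G), hAH b.2⟩ from congrArg Subtype.val hab,
          inv_mul_cancel]
      have h2 : (a : G)⁻¹ * b = 1 := hdisjA _ (mul_mem (inv_mem a.2) b.2) (Subgroup.mem_inf.1 ((hπ1 _).1 h)).1
      exact Subtype.ext (inv_mul_eq_one.1 h2)
    · rintro ⟨-, y, hy, rfl⟩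
      exact ⟨⟨y.1, hy⟩, rfl⟩
  haveI : Fintype A' := Fintype.ofFinite A'
  have hA' : Nat.card A' = p * q := by rw [← Nat.card_eq_of_bijective eA heA, hA]
  have hna' : ∃ a ∈ A', ∃ b ∈ A', a * b ≠ b * a := by
    obtain ⟨a, ha, b, hb, hab⟩ := hna
    refine ⟨(eA ⟨a, ha⟩).1, (eA ⟨a, ha⟩).2, (eA ⟨b, hb⟩).1, (eA ⟨b, hb⟩).2, fun h => hab ?_⟩
    have h1 : eA ⟨a * b, mul_mem ha hb⟩ = eA ⟨b * a, mul_mem hb ha⟩ := Subtype.ext (by
      show π (⟨a, hAH ha⟩ * ⟨b, hAH hb⟩) = π (⟨b, hAH hb⟩ * ⟨a, hAH ha⟩)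
      rw [map_mul, map_mul]
      exact h)
    exact congrArg Subtype.val (heA.1 h1)
  let ρ' : H ⧸ N' →* Module.End k (Fin d → k) := QuotientGroup.lift N' ρ fun h hh => by
    rw [MonoidHom.mem_ker, hker]; exact (Subgroup.mem_inf.1 hh).2
  have hk : ∀ i : ℕ, i.Prime → i ≠ r → (i : k) ≠ 0 := fun i hi hir h =>
    hir ((Nat.prime_dvd_prime_iff_eq hr hi).1 ((CharP.cast_eq_zero_iff k r i).1 h)).symm
  -- pull back of subgroups
  let pre : Subgroup (H ⧸ N') → Subgroup G → Subgroup G := fun U X => (U.comap π).map H.subtype ⊓ X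
  have hpreN : ∀ (U : Subgroup (H ⧸ N')) (X : Subgroup G) (g : H),
      (g : G) ∈ Subgroup.normalizer (X : Set G) → π g ∈ Subgroup.normalizer (U : Set (H ⧸ N')) →
      (g : G) ∈ Subgroup.normalizer (pre U X : Set G) := by
    intro U X g hg hgU
    refine Subgroup.mem_normalizer_fintype ?_
    rintro _ ⟨⟨y, hy, rfl⟩, hyX⟩
    refine Subgroup.mem_inf.2 ⟨⟨g * y * g⁻¹, ?_, rfl⟩, (Subgroup.mem_normalizer_iff.1 hg _).1 hyX⟩
    show π (g * y * g⁻¹) ∈ U
    rw [map_mul, map_mul, map_inv]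
    exact (Subgroup.mem_normalizer_iff.1 hgU _).1 hy
  have hpre_lt : ∀ (U : Subgroup (H ⧸ N')) (X : Subgroup G), X ≤ H → U ≤ (X.subgroupOf H).map π →
      U ≠ (X.subgroupOf H).map π → Nat.card (pre U X) < Nat.card X := by
    intro U X hXH hU hUne
    refine lt_of_le_of_ne (Subgroup.card_le_of_le inf_le_right) fun h => hUne ?_
    have heq : pre U X = X := Subgroup.eq_of_le_of_card_ge inf_le_right h.ge
    refine le_antisymm hU (Subgroup.map_le_iff_le_comap.2 fun y hy => ?_)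
    obtain ⟨z, hz, hzy⟩ := (Subgroup.mem_inf.1 (heq.ge hy)).1
    rwa [← Subtype.ext hzy]
  have hcomm : ∀ y z : H, ⁅(y : G), (z : G)⁆ ∈ Subgroup.centralizer (V : Set G) → (y : G) ∈ S0 →
      (z : G) ∈ T0 → π y * π z = π z * π y := by
    intro y z h hy hz
    rw [← commutatorElement_eq_one_iff_mul_comm, ← map_commutatorElement, hπ1]
    refine Subgroup.mem_inf.2 ⟨?_, h⟩
    show (y : G) * z * (y : G)⁻¹ * (z : G)⁻¹ ∈ T0
    exact mul_mem ((Subgroup.mem_normalizer_iff.1 (hST0 hy) _).1 hz) (inv_mem hz)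
  have hlift : ∀ (X : Subgroup G) (i : ℕ), i.Prime → i ≠ p → i ≠ q → IsPGroup i X → X ≤ H →
      A ≤ Subgroup.normalizer (X : Set G) → X ⊓ Subgroup.centralizer (A : Set G) = ⊥ →
      (X.subgroupOf H).map π ⊓ Subgroup.centralizer (A' : Set (H ⧸ N')) = ⊥ := by
    intro X i hi hip hiq hX hXH hAX hXA
    haveI := Fact.mk hi
    haveI := hX.isNilpotent
    rw [Subgroup.eq_bot_iff_forall]
    rintro _ ⟨⟨y, hy, rfl⟩, hyc⟩
    rw [hπ1]
    have hD : A ≤ Subgroup.normalizer ((N ⊓ X : Subgroup G) : Set G) := fun a ha =>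
      Subgroup.mem_normalizer_fintype fun z hz => Subgroup.mem_inf.2
        ⟨(Subgroup.mem_inf.1 hz).1 |> fun hzN => Subgroup.mem_inf.2
          ⟨(Subgroup.mem_normalizer_iff.1 (hAT0 ha) z).1 (Subgroup.mem_inf.1 hzN).1,
            (Subgroup.normal_centralizer).conj_mem z (Subgroup.mem_inf.1 hzN).2 a⟩,
          (Subgroup.mem_normalizer_iff.1 (hAX ha) z).1 (Subgroup.mem_inf.1 hz).2⟩
    obtain ⟨c, hc, hyc2⟩ := exists_fixed_in_coset' A X (N ⊓ X) hAX (hcopA X i hi hip hiq hX)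
      (Or.inr (IsNilpotent.to_isSolvable (G := X))) inf_le_right hD hy (fun a ha => by
        refine Subgroup.mem_inf.2 ⟨?_, mul_mem (inv_mem hy) ((Subgroup.mem_normalizer_iff.1 (hAX ha) _).1 hy)⟩
        have h1 := Subgroup.mem_centralizer_iff.1 hyc _ (eA ⟨a, ha⟩).2
        refine (hπ1 (y⁻¹ * (⟨a, hAH ha⟩ * y * ⟨a, hAH ha⟩⁻¹))).1 ?_
        rw [map_mul, map_mul, map_mul, map_inv, map_inv]
        change (π y)⁻¹ * ((eA ⟨a, ha⟩).1 * π y * ((eA ⟨a, ha⟩).1)⁻¹) = 1
        rw [h1, mul_inv_cancel_right, inv_mul_cancel])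
    rw [hXA, Subgroup.mem_bot] at hc
    rw [hc, mul_one] at hyc2
    have := inv_mem (Subgroup.mem_inf.1 hyc2).1
    rwa [inv_inv] at this
  refine core (k := k) ρ' T' S' A' ht hs hp hq hts hqp htp htq hsp hsq hA' hna' (hk t ht htr)
    (hk p hp hrp.symm) (hk q hq hrq.symm) (hT0p.comap_subtype.map π) (hS0p.comap_subtype.map π)
    ?_ ?_ ?_ ?_ ?_ ?_ ?_ (hlift T0 t ht htp htq hT0p hTH hAT0
      (le_bot_iff.1 ((inf_le_inf_right _ hT0).trans hCT.le)))
    (hlift S0 s hs hsp hsq hS0p hSH hAS0 (le_bot_iff.1 ((inf_le_inf_right _ hS0).trans hCS.le))) ?_ ?_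
  · rintro _ ⟨a, ha, rfl⟩
    refine Subgroup.le_normalizer_map π ⟨a, ?_, rfl⟩
    exact Subgroup.mem_normalizer_fintype fun y hy => (Subgroup.mem_normalizer_iff.1 (hAT0 ha) _).1 hy
  · rintro _ ⟨a, ha, rfl⟩
    refine Subgroup.le_normalizer_map π ⟨a, ?_, rfl⟩
    exact Subgroup.mem_normalizer_fintype fun y hy => (Subgroup.mem_normalizer_iff.1 (hAS0 ha) _).1 hy
  · rintro _ ⟨a, ha, rfl⟩
    refine Subgroup.le_normalizer_map π ⟨a, ?_, rfl⟩
    exact Subgroup.mem_normalizer_fintype fun y hy => (Subgroup.mem_normalizer_iff.1 (hST0 ha) _).1 hy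
  · rw [← Subgroup.map_sup, ← Subgroup.map_sup, ← Subgroup.subgroupOf_sup hTH hSH,
      ← Subgroup.subgroupOf_sup (sup_le hTH hSH) hAH, Subgroup.subgroupOf_self,
      Subgroup.map_top_of_surjective π hπs]
  · intro U hU hUne hUS hUA
    rintro u hu
    obtain ⟨z, hz, rfl⟩ := hU hu
    refine Subgroup.mem_centralizer_iff.2 ?_
    rintro _ ⟨y, hy, rfl⟩
    refine hcomm y z ?_ hy hz
    by_contra hbad
    have h1 := hmin (pre U T0, S0) ⟨inf_le_right.trans hT0, hS0,
      fun a ha => hpreN U T0 ⟨a, hAH ha⟩ (hAT0 ha) (hUA ⟨⟨a, hAH ha⟩, ha, rfl⟩), hAS0,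
      fun g hg => hpreN U T0 ⟨g, hSH hg⟩ (hST0 hg) (hUS ⟨⟨g, hSH hg⟩, hg, rfl⟩),
      y, hy, z, Subgroup.mem_inf.2 ⟨⟨z, hu, rfl⟩, hz⟩, hbad⟩
    have h2 := hpre_lt U T0 hTH hU hUne
    simp only at h1
    omega
  · intro U hU hUne hUA
    rintro u hu
    obtain ⟨y, hy, rfl⟩ := hU hu
    refine Subgroup.mem_centralizer_iff.2 ?_
    rintro _ ⟨z, hz, rfl⟩
    refine (hcomm y z ?_ hy hz).symm
    by_contra hbad
    have h1 := hmin (T0, pre U S0) ⟨hT0, inf_le_right.trans hS0, hAT0,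
      fun a ha => hpreN U S0 ⟨a, hAH ha⟩ (hAS0 ha) (hUA ⟨⟨a, hAH ha⟩, ha, rfl⟩),
      inf_le_right.trans hST0, y, Subgroup.mem_inf.2 ⟨⟨y, hu, rfl⟩, hy⟩, z, hz, hbad⟩
    have h2 := hpre_lt U S0 hSH hU hUne
    simp only at h1
    omega
  · intro h
    refine hab0 ?_
    have h1 : π ⟨b0, hTH hb0⟩ * π ⟨a0, hSH ha0⟩ = π ⟨a0, hSH ha0⟩ * π ⟨b0, hTH hb0⟩ :=
      Subgroup.mem_centralizer_iff.1 (h ⟨⟨a0, hSH ha0⟩, ha0, rfl⟩) _ ⟨⟨b0, hTH hb0⟩, hb0, rfl⟩
    rw [eq_comm, ← commutatorElement_eq_one_iff_mul_comm, ← map_commutatorElement, hπ1] at h1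
    exact (Subgroup.mem_inf.1 h1).2
  · rintro _ ⟨y, hy, rfl⟩ h
    rw [hπ1]
    exact Subgroup.mem_inf.2 ⟨hy, (hker y).1 h⟩
  · intro v
    rw [← (Equiv.ofBijective eA heA).sum_comp (fun a : A' => ρ' (a : H ⧸ N') v)]
    exact hsum v

/-- Soluble `K` with a fixed-point-free non-abelian group `A` of order `pq`, coprime: `K/F(K)` is nilpotent. -/
theorem height_two (hp : p.Prime) (hq : q.Prime) (hqp : q < p) (K A : Subgroup G) [hKn : K.Normal]
    (hK : Group.IsSolvable K) (hA : Nat.card A = p * q) (hna : ∃ a ∈ A, ∃ b ∈ A, a * b ≠ b * a)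
    (hcop : (Nat.card K).Coprime (p * q)) (hfix : K ⊓ Subgroup.centralizer (A : Set G) = ⊥) :
    Group.IsNilpotent (↥K ⧸ Cfsg.fittingSubgroup ↥K) := by
  classical
  haveI := hK
  let Fk : Subgroup G := (Cfsg.fittingSubgroup K).map K.subtype
  haveI hFkn : Fk.Normal := inferInstance
  have hFkK : Fk ≤ K := Subgroup.map_subtype_le _
  let π : G →* G ⧸ Fk := QuotientGroup.mk' Fk
  have hπs : Function.Surjective π := QuotientGroup.mk'_surjective Fk
  let f : K →* K.map π := π.subgroupMap K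
  have hfs : Function.Surjective f := π.subgroupMap_surjective K
  have hfk : f.ker = Cfsg.fittingSubgroup K := by
    ext y
    rw [MonoidHom.mem_ker]
    constructor
    · intro h
      obtain ⟨z, hz, hzy⟩ := (QuotientGroup.eq_one_iff (y : G)).1 (congrArg Subtype.val h)
      rwa [← Subtype.ext hzy]
    · intro h
      exact Subtype.ext ((QuotientGroup.eq_one_iff (y : G)).2 ⟨y, h, rfl⟩)
  suffices h : Group.IsNilpotent (K.map π) from
    Group.nilpotent_of_mulEquiv ((QuotientGroup.quotientMulEquivOfEq hfk.symm).trans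
      (QuotientGroup.quotientKerEquivOfSurjective f hfs)).symm
  have hKsol : Group.IsSolvable (K.map π) := Group.isSolvable_of_surjective hfs
  refine nilpotent_of_commutes_cores hKsol fun s t hs ht hst σb hσb xb hxb => ?_
  haveI := Fact.mk hs
  haveI := Fact.mk ht
  haveI hKbn : (K.map π).Normal := hKn.map π hπs
  let Ot : Subgroup (G ⧸ Fk) := (Cfsg.pCore t (K.map π)).map (K.map π).subtype
  haveI hOtn : Ot.Normal := inferInstance
  let Pt : Subgroup G := Ot.comap π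
  haveI hPtn : Pt.Normal := inferInstance
  have hPtK : Pt ≤ K := fun y hy => by
    obtain ⟨k, hk, hky⟩ := (Subgroup.map_subtype_le _ hy : π y ∈ K.map π)
    have h : k⁻¹ * y ∈ Fk := QuotientGroup.eq.1 hky
    have := mul_mem hk (hFkK h)
    rwa [mul_inv_cancel_left] at this
  have hnorm : ∀ (X : Subgroup G) [X.Normal], A ≤ Subgroup.normalizer (X : Set G) := fun X _ => by
    rw [Subgroup.normalizer_eq_top]; exact le_top
  have hcopA : ∀ X : Subgroup G, X ≤ K → (Nat.card A).Coprime (Nat.card X) := fun X hX => by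
    rw [hA]; exact (hcop.coprime_dvd_left (Subgroup.card_dvd_of_le hX)).symm
  have hsolle : ∀ X : Subgroup G, X ≤ K → Group.IsSolvable X := fun X hX => isSolvable_of_le hX hK
  obtain ⟨T, hTsyl, hAT⟩ := exists_invariant_sylow (hnorm Pt) (hcopA Pt hPtK) (Or.inr (hsolle Pt hPtK)) t
  have hTPt : T ≤ Pt := hTsyl.1
  -- `T` covers `Pt / Fk`
  have hPtT : Pt ≤ Fk ⊔ T := by
    obtain ⟨T1, hT1⟩ := hTsyl.exists_sylow
    have hdt : (Fk ⊔ T).relIndex Pt ∣ Nat.card Ot := by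
      refine dvd_trans (Subgroup.relIndex_dvd_of_le_left Pt (le_sup_left : Fk ≤ Fk ⊔ T)) ?_
      have h1 := Subgroup.relIndex_ker π (K := Pt)
      rw [QuotientGroup.ker_mk'] at h1
      rw [h1]
      exact Subgroup.card_dvd_of_le (Subgroup.map_le_iff_le_comap.2 le_rfl)
    have hd2 : (Fk ⊔ T).relIndex Pt ∣ T.relIndex Pt := Subgroup.relIndex_dvd_of_le_left Pt le_sup_right
    have hT1i : T.relIndex Pt = (T1 : Subgroup Pt).index := by
      rw [← hT1, Subgroup.relIndex, Subgroup.subgroupOf, Subgroup.comap_map_eq_self_of_injective Pt.subtype_injective]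
    obtain ⟨j, hj⟩ : ∃ j, Nat.card Ot = t ^ j := IsPGroup.iff_card.1 ((pCore_isPGroup t).map _)
    have hone : (Fk ⊔ T).relIndex Pt = 1 := by
      refine Nat.eq_one_of_dvd_coprimes ?_ (hdt.trans hj.dvd) (hd2.trans hT1i.dvd)
      exact (ht.coprime_iff_not_dvd.2 T1.not_dvd_index).pow_left j
    exact Subgroup.relIndex_eq_one.1 hone
  let N : Subgroup G := K ⊓ Subgroup.normalizer (T : Set G)
  have hAN : A ≤ Subgroup.normalizer (N : Set G) := fun a ha => Subgroup.mem_normalizer_fintype fun y hy =>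
    Subgroup.mem_inf.2 ⟨hKn.conj_mem y (Subgroup.mem_inf.1 hy).1 a,
      mul_mem (mul_mem (hAT ha) (Subgroup.mem_inf.1 hy).2) (inv_mem (hAT ha))⟩
  have hfrat : K ≤ Pt ⊔ N := by
    intro g hg
    have hT2 : IsSylIn t (MulAut.conj g • T) Pt :=
      hTsyl.conj (by rw [Subgroup.normalizer_eq_top]; trivial)
    obtain ⟨y, hy, hyT⟩ := hT2.exists_conj hTsyl
    rw [conj_smul_conj] at hyT
    have hyg : y * g ∈ N := Subgroup.mem_inf.2 ⟨mul_mem (hPtK hy) hg, mem_normalizer_of_conj_smul hyT⟩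
    have := mul_mem (Subgroup.mem_sup_left (inv_mem hy) : y⁻¹ ∈ Pt ⊔ N) (Subgroup.mem_sup_right hyg)
    rwa [inv_mul_cancel_left] at this
  have hKN : K.map π ≤ N.map π := by
    refine (Subgroup.map_mono hfrat).trans ?_
    rw [Subgroup.map_sup]
    refine sup_le ((Subgroup.map_mono hPtT).trans ?_) le_rfl
    rw [Subgroup.map_sup, show Fk.map π = ⊥ from QuotientGroup.map_mk'_self Fk, bot_sup_eq]
    exact Subgroup.map_mono (le_inf (hTPt.trans hPtK) Subgroup.le_normalizer)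
  obtain ⟨S, hSsyl, hAS⟩ := exists_invariant_sylow hAN (hcopA N inf_le_left) (Or.inr (hsolle N inf_le_left)) s
  have hSK : S ≤ K := hSsyl.1.trans inf_le_left
  have hSNT : S ≤ Subgroup.normalizer (T : Set G) := hSsyl.1.trans inf_le_right
  -- it suffices to treat `S` and `T`
  suffices hST : ∀ σ ∈ S, ∀ τ ∈ T, ⁅σ, τ⁆ ∈ Fk by
    let S1 : Subgroup (K.map π) := (S.map π).subgroupOf (K.map π)
    have hS1 : IsPGroup s S1 := (hSsyl.isPGroup.map π).comap_subtype
    have hS1i : ¬ s ∣ S1.index := by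
      obtain ⟨S2, hS2⟩ := hSsyl.exists_sylow
      let g : N →* K.map π := f.comp (Subgroup.inclusion (inf_le_left : N ≤ K))
      have hgs : Function.Surjective g := by
        rintro ⟨y, hy⟩
        obtain ⟨n, hn, hny⟩ := hKN hy
        exact ⟨⟨n, hn⟩, Subtype.ext hny⟩
      have hmap : (S2 : Subgroup N).map g ≤ S1 := by
        rintro _ ⟨n, hn, rfl⟩
        exact ⟨(n : G), hS2.le ⟨n, hn, rfl⟩, rfl⟩
      intro hd
      exact S2.not_dvd_index (hd.trans ((Subgroup.index_dvd_of_le hmap).trans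
        (Subgroup.index_map_dvd (S2 : Subgroup N) hgs)))
    let P1 : Sylow s (K.map π) := hS1.toSylow hS1i
    obtain ⟨P2, hP2⟩ := IsPGroup.exists_le_sylow (p := s) (P := Subgroup.zpowers σb) (by
      obtain ⟨j, hj⟩ := hσb
      intro y
      obtain ⟨i, hi⟩ := Subgroup.mem_zpowers_iff.1 y.2
      refine ⟨j, Subtype.ext ?_⟩
      rw [SubmonoidClass.coe_pow, ← hi, ← zpow_natCast, ← zpow_mul, mul_comm, zpow_mul, zpow_natCast, hj,
        one_zpow]
      rfl)
    obtain ⟨g, hg⟩ := MulAction.exists_smul_eq (K.map π) P1 P2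
    have hσ1 : g⁻¹ * σb * g ∈ S1 := by
      have h2 : σb ∈ (P2 : Subgroup (K.map π)) := hP2 (Subgroup.mem_zpowers σb)
      rw [← hg, Sylow.coe_subgroup_smul, mem_conj_smul] at h2
      rwa [IsPGroup.toSylow_coe] at h2
    obtain ⟨σ, hσ, hσe⟩ := Subgroup.mem_subgroupOf.1 hσ1
    have hx1 : g⁻¹ * xb * g ∈ Cfsg.pCore t (K.map π) := by
      simpa using (inferInstance : (Cfsg.pCore t (K.map π)).Normal).conj_mem xb hxb g⁻¹
    have hτ : ∃ τ ∈ T, π τ = ((g⁻¹ * xb * g : K.map π) : G ⧸ Fk) := by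
      obtain ⟨y, hy⟩ := hπs ((g⁻¹ * xb * g : K.map π) : G ⧸ Fk)
      have hyPt : y ∈ Pt := by
        show π y ∈ Ot
        rw [hy]; exact ⟨_, hx1, rfl⟩
      obtain ⟨z, hz, τ, hτ, hzτ⟩ := Subgroup.mem_sup_of_normal_left.1 (hPtT hyPt)
      refine ⟨τ, hτ, ?_⟩
      rw [← hy, ← hzτ, map_mul, show π z = 1 from (QuotientGroup.eq_one_iff z).2 hz, one_mul]
    obtain ⟨τ, hτ, hτe⟩ := hτ
    have h1 : π ⁅σ, τ⁆ = 1 := (QuotientGroup.eq_one_iff _).2 (hST σ hσ τ hτ)
    rw [map_commutatorElement, commutatorElement_eq_one_iff_mul_comm, hσe, hτe] at h1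
    have h2 : (g⁻¹ * σb * g) * (g⁻¹ * xb * g) = (g⁻¹ * xb * g) * (g⁻¹ * σb * g) := Subtype.ext h1
    have h3 := congrArg (fun z => g * z * g⁻¹) h2
    simpa [mul_assoc] using h3
  intro σ hσ τ hτ
  by_contra hbad
  obtain ⟨c, hcdef⟩ : ∃ c, c = ⁅σ, τ⁆ := ⟨_, rfl⟩
  rw [← hcdef] at hbad
  have hcT : c ∈ T := by
    rw [hcdef, commutatorElement_def]
    exact mul_mem ((Subgroup.mem_normalizer_iff.1 (hSNT hσ) τ).1 hτ) (inv_mem hτ)
  -- a core not centralised by `c`
  let Or' : ℕ → Subgroup G := fun r => (Cfsg.pCore r K).map K.subtype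
  obtain ⟨r, hr, hrt, hcr⟩ : ∃ r : ℕ, r.Prime ∧ r ≠ t ∧ c ∉ Subgroup.centralizer (Or' r : Set G) := by
    by_contra hcon
    push Not at hcon
    let M : Subgroup G := Pt ⊓ ⨅ r : {r : Nat.Primes // (r : ℕ) ≠ t}, Subgroup.centralizer (Or' r.1 : Set G)
    haveI : M.Normal := by
      refine @Subgroup.normal_inf_normal _ _ _ _ hPtn (Subgroup.normal_iInf_normal fun r => ?_)
      haveI : (Or' r.1).Normal := inferInstance
      exact Subgroup.normal_centralizer
    have hcM : c ∈ M := Subgroup.mem_inf.2 ⟨hTPt hcT, Subgroup.mem_iInf.2 fun r => hcon _ r.1.2 r.2⟩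
    have hMK : M ≤ K := inf_le_left.trans hPtK
    have hel : ∀ b : ℕ, b.Prime → b ≠ t → ∀ y ∈ M, (∃ j : ℕ, y ^ b ^ j = 1) → y ∈ Or' b := by
      intro b hb hbt y hy ⟨j, hj⟩
      have hyF : y ∈ Fk := by
        have h1 : π y ∈ Ot := (Subgroup.mem_inf.1 hy).1
        obtain ⟨i, hi⟩ : ∃ i : ℕ, π y ^ t ^ i = 1 := by
          obtain ⟨i, hi⟩ := ((pCore_isPGroup t).map (K.map π).subtype) ⟨π y, h1⟩
          exact ⟨i, congrArg Subtype.val hi⟩
        have h2 : π y ^ b ^ j = 1 := by rw [← map_pow, hj, map_one]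
        have h3 := pow_gcd_eq_one.2 ⟨hi, h2⟩
        rw [(Nat.Coprime.pow i j ((Nat.coprime_primes ht hb).2 (Ne.symm hbt))).gcd_eq_one, pow_one] at h3
        exact (QuotientGroup.eq_one_iff y).1 h3
      obtain ⟨z, hz, rfl⟩ := hyF
      refine ⟨z, ?_, rfl⟩
      haveI := Fact.mk hb
      haveI := fittingSubgroup_nilpotent (G := K)
      haveI := fittingSubgroup_normal (G := K)
      obtain ⟨P⟩ : Nonempty (Sylow b (Cfsg.fittingSubgroup K)) := inferInstance
      haveI : (P : Subgroup (Cfsg.fittingSubgroup K)).Normal :=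
        Sylow.normal_of_normalizerCondition (Group.normalizerCondition_of_isNilpotent (G := Cfsg.fittingSubgroup K)) P
      haveI : (P : Subgroup (Cfsg.fittingSubgroup K)).Characteristic := P.characteristic_of_normal inferInstance
      obtain ⟨P', hP'⟩ := IsPGroup.exists_le_sylow (p := b) (P := Subgroup.zpowers (⟨z, hz⟩ : Cfsg.fittingSubgroup K)) (by
        intro w
        obtain ⟨i, hi⟩ := Subgroup.mem_zpowers_iff.1 w.2
        refine ⟨j, Subtype.ext (Subtype.ext (Subtype.ext ?_))⟩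
        have hzj : (z : G) ^ b ^ j = 1 := hj
        simp only [SubmonoidClass.coe_pow, ← hi, SubgroupClass.coe_zpow, OneMemClass.coe_one]
        rw [← zpow_natCast, ← zpow_mul, mul_comm, zpow_mul, zpow_natCast, hzj, one_zpow])
      haveI := Sylow.unique_of_normal P inferInstance
      have hzP : (⟨z, hz⟩ : Cfsg.fittingSubgroup K) ∈ (P : Subgroup (Cfsg.fittingSubgroup K)) := by
        rw [Subsingleton.elim P P']; exact hP' (Subgroup.mem_zpowers _)
      exact normal_le_pCore (N := (P : Subgroup (Cfsg.fittingSubgroup K)).map (Cfsg.fittingSubgroup K).subtype)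
        (P.isPGroup'.map _) ⟨_, hzP, rfl⟩
    have hnil : Group.IsNilpotent M := OddLocal.CN.nilpotent_of_commute (C := M)
      fun a b ha hb hab y hy z hz hya hzb => by
        by_cases hbt : b = t
        · have hat : a ≠ t := fun e => hab (e.trans hbt.symm)
          have hzc := Subgroup.mem_iInf.1 (Subgroup.mem_inf.1 hz).2 ⟨⟨a, ha⟩, hat⟩
          exact Subgroup.mem_centralizer_iff.1 hzc y (hel a ha hat y hy hya)
        · have hyc := Subgroup.mem_iInf.1 (Subgroup.mem_inf.1 hy).2 ⟨⟨b, hb⟩, hbt⟩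
          exact (Subgroup.mem_centralizer_iff.1 hyc z (hel b hb hbt z hz hzb)).symm
    haveI : (M.subgroupOf K).Normal := Subgroup.Normal.subgroupOf inferInstance K
    haveI := hnil
    have hle := normal_le_fitting (G := K) (N := M.subgroupOf K)
      (Group.nilpotent_of_mulEquiv (Subgroup.subgroupOfEquivOfLe hMK).symm)
    exact hbad ⟨⟨c, hMK hcM⟩, hle (show (⟨c, hMK hcM⟩ : K) ∈ M.subgroupOf K from hcM), rfl⟩
  haveI := Fact.mk hr
  let R : Subgroup G := Or' r
  haveI hRn : R.Normal := inferInstance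
  have hRp : IsPGroup r R := (pCore_isPGroup r).map _
  have hRK : R ≤ K := Subgroup.map_subtype_le _
  let Φ : Subgroup G := (frattini R).map R.subtype
  haveI hΦn : Φ.Normal := inferInstance
  let π2 : G →* G ⧸ Φ := QuotientGroup.mk' Φ
  have hπ2s : Function.Surjective π2 := QuotientGroup.mk'_surjective Φ
  let V : Subgroup (G ⧸ Φ) := R.map π2
  haveI hVn : V.Normal := hRn.map π2 hπ2s
  have hVe : Cfsg.IsElementaryAbelian r V := by
    refine ⟨⟨⟨?_⟩⟩, ?_⟩
    · rintro ⟨-, a, ha, rfl⟩ ⟨-, b, hb, rfl⟩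
      refine Subtype.ext ?_
      show π2 a * π2 b = π2 b * π2 a
      rw [← commutatorElement_eq_one_iff_mul_comm, ← map_commutatorElement]
      exact (QuotientGroup.eq_one_iff _).2 ⟨_, commutatorElement_mem_frattini hRp ⟨a, ha⟩ ⟨b, hb⟩, rfl⟩
    · rintro _ ⟨a, ha, rfl⟩
      rw [← map_pow]
      exact (QuotientGroup.eq_one_iff _).2 ⟨_, pow_mem_frattini hRp ⟨a, ha⟩, rfl⟩
  have hdiv : ∀ i : ℕ, i.Prime → ∀ (X : Subgroup G), X ≤ K → IsPGroup i X → X ≠ ⊥ → i ≠ p ∧ i ≠ q := by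
    intro i hi X hX hXp hX1
    haveI := Fact.mk hi
    obtain ⟨j, hj⟩ := IsPGroup.iff_card.1 hXp
    have hj0 : j ≠ 0 := fun e => hX1 (Subgroup.card_eq_one.1 (by rw [hj, e, pow_zero]))
    have hd : i ∣ Nat.card K := (dvd_pow_self i hj0).trans (hj ▸ Subgroup.card_dvd_of_le hX)
    have h1 := hcop.coprime_dvd_left hd
    exact ⟨(Nat.coprime_primes hi hp).1 h1.coprime_mul_right_right,
      (Nat.coprime_primes hi hq).1 h1.coprime_mul_left_right⟩
  obtain ⟨hrp, hrq⟩ := hdiv r hr R hRK hRp fun e => hcr (by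
    show c ∈ Subgroup.centralizer (R : Set G)
    rw [e]; exact Subgroup.mem_centralizer_iff.2 fun y hy => by rw [Subgroup.mem_bot.1 hy, one_mul, mul_one])
  obtain ⟨htp, htq⟩ := hdiv t ht T (hTPt.trans hPtK) hTsyl.isPGroup fun e => hbad (by
    rw [Subgroup.mem_bot.1 (e.le hcT)]; exact one_mem _)
  obtain ⟨hsp, hsq⟩ := hdiv s hs S hSK hSsyl.isPGroup fun e => hbad (by
    rw [hcdef, Subgroup.mem_bot.1 (e.le hσ), commutatorElement_one_left]; exact one_mem _)
  have hfixmap : ∀ X : Subgroup G, X ≤ K → A ≤ Subgroup.normalizer (X : Set G) →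
      X.map π2 ⊓ Subgroup.centralizer ((A.map π2 : Subgroup (G ⧸ Φ)) : Set (G ⧸ Φ)) = ⊥ := by
    intro X hX hAX
    rw [Subgroup.eq_bot_iff_forall]
    rintro _ ⟨⟨y, hy, rfl⟩, hyc⟩
    refine (QuotientGroup.eq_one_iff y).2 ?_
    obtain ⟨d, hd, hyd⟩ := exists_fixed_in_coset' A X (Φ ⊓ X) hAX (hcopA X hX) (Or.inr (hsolle X hX))
      inf_le_right (fun a ha => Subgroup.mem_normalizer_fintype fun z hz => Subgroup.mem_inf.2
        ⟨hΦn.conj_mem z (Subgroup.mem_inf.1 hz).1 a,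
          (Subgroup.mem_normalizer_iff.1 (hAX ha) z).1 (Subgroup.mem_inf.1 hz).2⟩) hy (fun a ha => by
        refine Subgroup.mem_inf.2 ⟨(QuotientGroup.eq_one_iff _).1 ?_,
          mul_mem (inv_mem hy) ((Subgroup.mem_normalizer_iff.1 (hAX ha) _).1 hy)⟩
        show π2 (y⁻¹ * (a * y * a⁻¹)) = 1
        rw [map_mul, map_mul, map_mul, map_inv, map_inv,
          Subgroup.mem_centralizer_iff.1 hyc (π2 a) ⟨a, ha, rfl⟩, mul_inv_cancel_right, inv_mul_cancel])
    have hd1 : d = 1 := Subgroup.mem_bot.1 ((le_bot_iff.1 ((inf_le_inf_right _ hX).trans hfix.le)) ▸ hd)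
    rw [hd1, mul_one] at hyd
    have := inv_mem (Subgroup.mem_inf.1 hyd).1
    rwa [inv_inv] at this
  have hΦK : Φ ≤ K := (Subgroup.map_subtype_le _).trans hRK
  have hinjA : ∀ a ∈ A, π2 a = 1 → a = 1 := fun a ha h => Subgroup.disjoint_def.1
    (disjoint_iff.2 (Subgroup.inf_eq_bot_of_coprime (hcopA Φ hΦK))) ha ((QuotientGroup.eq_one_iff a).1 h)
  have hA2 : Nat.card (A.map π2) = p * q := by
    rw [← hA]
    refine (Nat.card_eq_of_bijective (π2.subgroupMap A) ⟨fun a b hab => ?_, π2.subgroupMap_surjective A⟩).symm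
    refine Subtype.ext (inv_mul_eq_one.1 (hinjA _ (mul_mem (inv_mem a.2) b.2) ?_))
    rw [map_mul, map_inv, show π2 a = π2 b from congrArg Subtype.val hab, inv_mul_cancel]
  have hna2 : ∃ a ∈ A.map π2, ∃ b ∈ A.map π2, a * b ≠ b * a := by
    obtain ⟨a, ha, b, hb, hab⟩ := hna
    refine ⟨π2 a, ⟨a, ha, rfl⟩, π2 b, ⟨b, hb, rfl⟩, fun h => hab ?_⟩
    rw [← commutatorElement_eq_one_iff_mul_comm] at h ⊢
    rw [← map_commutatorElement] at h
    refine hinjA _ ?_ h
    rw [commutatorElement_def]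
    exact mul_mem (mul_mem (mul_mem ha hb) (inv_mem ha)) (inv_mem hb)
  refine no_pair hp hq hqp (A.map π2) hA2 hna2 hr hs ht hst.symm hrt.symm hrp hrq htp htq hsp hsq V hVn hVe
    (hfixmap R hRK (hnorm R)) (T.map π2) (S.map π2) (hTsyl.isPGroup.map π2) (hSsyl.isPGroup.map π2)
    ((Subgroup.map_mono hAT).trans (Subgroup.le_normalizer_map π2))
    ((Subgroup.map_mono hAS).trans (Subgroup.le_normalizer_map π2))
    ((Subgroup.map_mono hSNT).trans (Subgroup.le_normalizer_map π2))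
    (hfixmap T (hTPt.trans hPtK) hAT) (hfixmap S hSK hAS) ⟨σ, hσ, rfl⟩ ⟨τ, hτ, rfl⟩ fun h => hcr ?_
  rw [← map_commutatorElement, ← hcdef] at h
  obtain ⟨i, hi⟩ := IsPGroup.iff_orderOf.1 hTsyl.isPGroup ⟨c, hcT⟩
  rw [Subgroup.orderOf_mk] at hi
  refine centralizes_of_frattini R hRp c (by rw [Subgroup.normalizer_eq_top]; trivial)
    (by rw [hi]; exact ((Nat.coprime_primes ht hr).2 hrt.symm).pow_left i) fun x hx => ?_
  refine (QuotientGroup.eq_one_iff _).1 ?_
  show π2 ⁅x, c⁆ = 1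
  rw [map_commutatorElement, commutatorElement_eq_one_iff_mul_comm]
  exact Subgroup.mem_centralizer_iff.1 h (π2 x) ⟨x, hx, rfl⟩

end Cfsg.Agent.Perm.PQFix
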