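import Cfsg.Agent.Lib.Perm.PQFix.FpfCount

/-!
# A class-two section with a non-degenerate central character, inside an ambient group
-/

set_option autoImplicit false
set_option linter.style.haveILetI false
set_option linter.unusedSectionVars false

namespace Cfsg.Agent.Perm.PQFix

open scoped commutatorElement
open Cfsg.Agent.Solv.CRep Cfsg.Agent.Solv.ThmB

universe u v w

variable {k : Type u} [Field k] [IsAlgClosed k]
variable {Γ : Type v} [Group Γ] [Finite Γ]
variable {W : Type w} [AddCommGroup W] [Module k W] [FiniteDimensional k W] [Nontrivial W]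

/-- A `t`-group `E`, central in it `C` acting by the scalars `lam`, and `E/C` elementary abelian,
non-degenerate with respect to `lam`. -/
structure Setup (t : ℕ) (E C : Subgroup Γ) (ρ : Γ →* Module.End k W) (lam : Γ → k) : Prop where
  prime : t.Prime
  tk : (t : k) ≠ 0
  tgroup : IsPGroup t E
  le : C ≤ E
  central : ∀ c ∈ C, ∀ e ∈ E, c * e = e * c
  comm : ∀ a ∈ E, ∀ b ∈ E, ⁅a, b⁆ ∈ C
  expo : ∀ a ∈ E, a ^ t ∈ C
  scalar : ∀ c ∈ C, ρ c = lam c • (1 : Module.End k W)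
  nd : ∀ a ∈ E, (∀ b ∈ E, lam ⁅a, b⁆ = 1) → a ∈ C

variable {t : ℕ} {E C : Subgroup Γ} {ρ : Γ →* Module.End k W} {lam : Γ → k}
  (hS : Setup t E C ρ lam)

omit [Finite Γ] [IsAlgClosed k] in
theorem mem_of_pow_coprime (H : Subgroup Γ) {g : Γ} {i n : ℕ} (hi : g ^ i ∈ H) (hn : g ^ n ∈ H)
    (h : Nat.Coprime i n) : g ∈ H := by
  have key : g = (g ^ i) ^ Nat.gcdA i n * (g ^ n) ^ Nat.gcdB i n := by
    rw [← zpow_natCast g i, ← zpow_natCast g n, ← zpow_mul, ← zpow_mul, ← zpow_add,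
      ← Nat.gcd_eq_gcd_ab, Nat.Coprime.gcd_eq_one h, Nat.cast_one, zpow_one]
  rw [key]
  exact mul_mem (zpow_mem hi _) (zpow_mem hn _)

include hS

theorem Setup.lam_one : lam 1 = 1 :=
  smul_one_injective (W := W) (by rw [← hS.scalar 1 (one_mem _), map_one, one_smul])

theorem Setup.lam_mul {y z : Γ} (hy : y ∈ C) (hz : z ∈ C) : lam (y * z) = lam y * lam z :=
  smul_one_injective (W := W) (by
    rw [← hS.scalar _ (mul_mem hy hz), map_mul, hS.scalar y hy, hS.scalar z hz, smul_mul_smul_comm,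
      one_mul])

theorem Setup.lam_conj {c : Γ} (hc : c ∈ C) (g : Γ) (hg : g * c * g⁻¹ ∈ C) :
    lam (g * c * g⁻¹) = lam c :=
  smul_one_injective (W := W) (by
    rw [← hS.scalar _ hg, map_mul, map_mul, hS.scalar c hc, mul_smul_comm, smul_mul_assoc, mul_one,
      ← map_mul, mul_inv_cancel, map_one])

variable {EY : Subgroup Γ} (hCY : C ≤ EY) (hYE : EY ≤ E)
  (hndY : ∀ a ∈ EY, (∀ b ∈ EY, lam ⁅a, b⁆ = 1) → a ∈ C)

include hCY hYE hndY

theorem Setup.ctx : Ctx (E := EY) (C.subgroupOf EY) (fun e => lam e.1) where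
  central z hz e := Subtype.ext (hS.central z.1 hz e.1 (hYE e.2))
  comm a b := by
    show (⁅a, b⁆ : EY).1 ∈ C
    exact hS.comm a.1 (hYE a.2) b.1 (hYE b.2)
  mul y hy z hz := hS.lam_mul hy hz
  one := hS.lam_one
  nd a ha := hndY a.1 a.2 fun b hb => ha ⟨b, hb⟩
  card := by
    haveI := Fact.mk hS.prime
    obtain ⟨j, hj⟩ := IsPGroup.iff_card.1 (hS.tgroup.to_le hYE)
    rw [hj, Nat.cast_pow]
    exact pow_ne_zero _ hS.tk

/-- The order of a non-degenerate section is a square. -/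
theorem Setup.square : ∃ N : ℕ, C.relIndex EY = N * N := by
  have hc := hS.ctx hCY hYE hndY
  obtain ⟨U, hU, hs⟩ := exists_simple (ρ.comp EY.subtype)
  refine ⟨_, hc.card_quotient (ρ := subRep _ U hU) (fun z hz => LinearMap.ext fun w => Subtype.ext ?_) hs⟩
  show ρ (z : Γ) (w : W) = lam (z : Γ) • (w : W)
  rw [hS.scalar (z : Γ) hz]
  rfl

omit hCY hYE hndY in
theorem Setup.conj_pow_mem (EY : Subgroup Γ) {x : Γ} (hx : ∀ a ∈ EY, x * a * x⁻¹ ∈ EY) (i : ℕ) :
    ∀ a ∈ EY, x ^ i * a * (x ^ i)⁻¹ ∈ EY := by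
  induction i with
  | zero => intro a ha; simpa using ha
  | succ i ih =>
    intro a ha
    rw [pow_succ', show x * x ^ i * a * (x * x ^ i)⁻¹ = x * (x ^ i * a * (x ^ i)⁻¹) * x⁻¹ by group]
    exact hx _ (ih a ha)

/-- An element of prime order without fixed vector which is fixed-point-free on a non-degenerate
section: the order of the section is `(n-1)²`, and what commutes with it permutes its orbits
trivially. -/
theorem Setup.fpf_core {n : ℕ} (hn : n.Prime) (hnk : (n : k) ≠ 0) {x : Γ} (hxn : x ^ n = 1)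
    (hsum : ∑ i ∈ Finset.range n, ρ x ^ i = 0) (hx : ∀ a ∈ EY, x * a * x⁻¹ ∈ EY)
    (hCx : ∀ c ∈ C, x * c * x⁻¹ ∈ C)
    (hfix : ∀ a ∈ EY, a⁻¹ * (x * a * x⁻¹) ∈ C → a ∈ C) (hne : ¬ EY ≤ C) :
    C.relIndex EY = (n - 1) * (n - 1) ∧
      ∀ σ : Γ, (∀ a ∈ EY, σ * a * σ⁻¹ ∈ EY) → (∀ c ∈ C, σ * c * σ⁻¹ = c) →
        (∀ e ∈ EY, σ * x * e * (σ * x)⁻¹ = x * σ * e * (x * σ)⁻¹) →
        ∀ a ∈ EY, a ∉ C → ∃ i < n, (x ^ i * a * (x ^ i)⁻¹)⁻¹ * (σ * a * σ⁻¹) ∈ C := by
  classical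
  have hc := hS.ctx hCY hYE hndY
  obtain ⟨U, hU, hs⟩ := exists_simple (ρ.comp EY.subtype)
  haveI := hs.1
  let ρU : EY →* Module.End k U := subRep _ U hU
  have hl : ∀ z ∈ C.subgroupOf EY, ρU z = lam z.1 • (1 : Module.End k U) := fun z hz =>
    LinearMap.ext fun w => Subtype.ext (by
      show ρ (z : Γ) (w : W) = lam (z : Γ) • (w : W)
      rw [hS.scalar (z : Γ) hz]
      rfl)
  -- the automorphism
  have hnorm : ∀ g : Γ, (∀ a ∈ EY, g * a * g⁻¹ ∈ EY) → g ∈ Subgroup.normalizer (EY : Set Γ) :=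
    fun g hg => Subgroup.mem_normalizer_fintype hg
  let φ : MulAut EY := EY.normalizerMonoidHom ⟨x, hnorm x hx⟩
  have hφ : ∀ e : EY, (φ e : Γ) = x * e * x⁻¹ := fun e => rfl
  have hφn : φ ^ n = 1 := by
    show EY.normalizerMonoidHom _ ^ n = 1
    rw [← map_pow, show (⟨x, hnorm x hx⟩ : Subgroup.normalizer (EY : Set Γ)) ^ n = 1 from Subtype.ext hxn,
      map_one]
  have hφpow : ∀ (j : ℕ) (e : EY), ((φ ^ j) e : Γ) = x ^ j * e * (x ^ j)⁻¹ := by
    intro j
    induction j with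
    | zero => intro e; simp
    | succ j ih => intro e; rw [pow_succ', MulAut.mul_apply, hφ, ih]; group
  obtain ⟨θ0, hθ0⟩ := hc.exists_twist hl hs φ fun z hz => by
    have h1 : (φ z : Γ) ∈ C := by rw [hφ]; exact hCx _ hz
    exact ⟨h1, by show lam (φ z : Γ) = lam z.1; rw [hφ]; exact hS.lam_conj hz _ (hCx _ hz)⟩
  -- rescaling
  let H : Submodule k (U →ₗ[k] W) :=
    { carrier := {f | ∀ (e : EY) (u : U), f (ρU e u) = ρ (e : Γ) (f u)}
      add_mem' := fun {f g} hf hg e u => by simp only [LinearMap.add_apply, hf e u, hg e u, map_add]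
      zero_mem' := fun e u => by simp only [LinearMap.zero_apply, map_zero]
      smul_mem' := fun a f hf e u => by simp only [LinearMap.smul_apply, hf e u, map_smul] }
  let Φ : Module.End k (U →ₗ[k] W) :=
    { toFun := fun f => (ρ x : W →ₗ[k] W) ∘ₗ f ∘ₗ (θ0.symm : U →ₗ[k] U)
      map_add' := fun f g => LinearMap.ext fun u => by simp
      map_smul' := fun a f => LinearMap.ext fun u => by simp }
  have hΦ : ∀ f ∈ H, Φ f ∈ H := fun f hf e u => by
    show ρ x (f (θ0.symm (ρU e u))) = ρ (e : Γ) (ρ x (f (θ0.symm u)))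
    have h1 : θ0.symm (ρU e u) = ρU (φ⁻¹ e) (θ0.symm u) := by
      rw [LinearEquiv.symm_apply_eq, hθ0, LinearEquiv.apply_symm_apply, MulAut.apply_inv_self]
    have h2 : x * (φ⁻¹ e : EY).1 = e.1 * x := by
      conv_rhs => rw [← MulAut.apply_inv_self EY φ e, hφ]
      group
    rw [h1, hf, ← Module.End.mul_apply, ← Module.End.mul_apply, ← map_mul, ← map_mul, h2]
  haveI : Nontrivial H := by
    refine ⟨⟨⟨U.subtype, fun e u => rfl⟩, 0, fun h => ?_⟩⟩
    obtain ⟨u, hu⟩ := exists_ne (0 : U)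
    exact hu (Subtype.ext (LinearMap.congr_fun (congrArg Subtype.val h) u))
  obtain ⟨μ, hμ⟩ := Module.End.exists_eigenvalue (Φ.restrict hΦ)
  obtain ⟨f', hf'⟩ := hμ.exists_hasEigenvector
  let f : U →ₗ[k] W := f'.1
  have hf0 : f ≠ 0 := fun h => hf'.2 (Subtype.ext h)
  have hfH : ∀ (e : EY) (u : U), f (ρU e u) = ρ (e : Γ) (f u) := f'.2
  have hfinj : Function.Injective f := intertwiner_injective hs f hf0 _ hfH
  let θ : Module.End k U := μ • (θ0 : U →ₗ[k] U)
  have hfθ : ∀ u, f (θ u) = ρ x (f u) := fun u => by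
    have h1 : ρ x (f (θ0.symm (θ0 u))) = μ • f (θ0 u) :=
      LinearMap.congr_fun (congrArg Subtype.val hf'.apply_eq_smul) (θ0 u)
    rw [LinearEquiv.symm_apply_apply] at h1
    show f (μ • θ0 u) = _
    rw [map_smul, h1]
  have hfpow : ∀ (j : ℕ) (u : U), f ((θ ^ j) u) = (ρ x ^ j) (f u) := by
    intro j
    induction j with
    | zero => intro u; simp
    | succ j ih => intro u; rw [pow_succ', Module.End.mul_apply, hfθ, ih, pow_succ', Module.End.mul_apply]
  have hθn : θ ^ n = 1 := LinearMap.ext fun u => hfinj (by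
    rw [hfpow, ← map_pow, hxn, map_one]; rfl)
  have hθsum : ∑ i ∈ Finset.range n, θ ^ i = 0 := LinearMap.ext fun u => hfinj (by
    rw [LinearMap.sum_apply, map_sum, LinearMap.zero_apply, map_zero]
    simp only [hfpow]
    rw [← LinearMap.sum_apply, hsum, LinearMap.zero_apply])
  have hθ : ∀ e, θ * ρU e = ρU (φ e) * θ := fun e => LinearMap.ext fun u => by
    show μ • θ0 (ρU e u) = ρU (φ e) (μ • θ0 u)
    rw [hθ0, map_smul]
  have hne' : C.subgroupOf EY ≠ ⊤ := fun h => hne (Subgroup.subgroupOf_eq_top.1 h)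
  have hφZ : ∀ z ∈ C.subgroupOf EY, φ z ∈ C.subgroupOf EY := fun z hz => by
    show (φ z : Γ) ∈ C
    rw [hφ]; exact hCx _ hz
  have hφfix : ∀ a, a⁻¹ * φ a ∈ C.subgroupOf EY → a ∈ C.subgroupOf EY := fun a ha => hfix a.1 a.2 ha
  obtain ⟨hN, hcomm, heig⟩ := hc.fpf_count hl hs hn hnk φ hφn hφZ hφfix hne' θ hθ hθn hθsum
  refine ⟨?_, ?_⟩
  · rw [← hN]; exact hc.card_quotient hl hs
  intro σ hσ hσC hσx a ha haC
  let φσ : MulAut EY := EY.normalizerMonoidHom ⟨σ, hnorm σ hσ⟩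
  have hφσ : ∀ e : EY, (φσ e : Γ) = σ * e * σ⁻¹ := fun e => rfl
  obtain ⟨T0, hT0⟩ := hc.exists_twist hl hs φσ fun z hz => by
    have h1 : (φσ z : Γ) = z.1 := hσC _ hz
    refine ⟨?_, congrArg lam h1⟩
    show (φσ z : Γ) ∈ C
    rw [h1]; exact hz
  let A1 : Module.End k U := (T0 : U →ₗ[k] U)
  let A2 : Module.End k U := (T0.symm : U →ₗ[k] U)
  have hA12 : A1 * A2 = 1 := LinearMap.ext fun u => T0.apply_symm_apply u
  have hA21 : A2 * A1 = 1 := LinearMap.ext fun u => T0.symm_apply_apply u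
  have hA1 : ∀ e, A1 * ρU e = ρU (φσ e) * A1 := fun e => LinearMap.ext fun u => hT0 e u
  have hA2 : ∀ e, A2 * ρU (φσ e) = ρU e * A2 := fun e => by
    rw [← mul_one (A2 * ρU (φσ e)), ← hA12, ← mul_assoc, mul_assoc A2, ← hA1, ← mul_assoc, hA21, one_mul]
  have hcomφ : φσ * φ = φ * φσ := MulEquiv.ext fun e => Subtype.ext (by
    rw [MulAut.mul_apply, MulAut.mul_apply, hφσ, hφ, hφ, hφσ]
    have := hσx e.1 e.2
    calc σ * (x * (e : Γ) * x⁻¹) * σ⁻¹ = σ * x * e * (σ * x)⁻¹ := by group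
      _ = _ := by rw [this]; group)
  have hθj : ∀ (j : ℕ) (e : EY), θ ^ j * ρU e = ρU ((φ ^ j) e) * θ ^ j := by
    intro j
    induction j with
    | zero => intro e; simp
    | succ j ih =>
      intro e
      rw [pow_succ', mul_assoc, ih, ← mul_assoc, hθ, mul_assoc, ← MulAut.mul_apply, ← pow_succ']
  have hn1 : n - 1 + 1 = n := Nat.sub_add_cancel hn.pos
  obtain ⟨κ, hκ⟩ := hc.commutant hl hs (A1 * θ * A2 * θ ^ (n - 1)) fun e => by
    rw [mul_assoc _ (θ ^ (n - 1)), hθj, ← mul_assoc, mul_assoc _ A2,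
      show (φ ^ (n - 1)) e = φσ ((φ ^ (n - 1)) (φσ⁻¹ e)) by
        rw [← MulAut.mul_apply, ((show Commute φσ φ from hcomφ).pow_right (n - 1)).eq,
          MulAut.mul_apply, MulAut.apply_inv_self],
      hA2, ← mul_assoc, mul_assoc A1 θ, hθ, ← mul_assoc, hA1,
      show φσ (φ ((φ ^ (n - 1)) (φσ⁻¹ e))) = e by
        rw [show φ ((φ ^ (n - 1)) (φσ⁻¹ e)) = (φ ^ n) (φσ⁻¹ e) by
          rw [← MulAut.mul_apply, ← pow_succ', hn1], hφn, MulAut.one_apply, MulAut.apply_inv_self]]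
    simp only [mul_assoc]
  have hconj : A1 * θ * A2 = κ • θ := by
    have h1 := congrArg (· * θ) hκ
    simp only [mul_assoc, ← pow_succ, hn1, hθn, mul_one, smul_mul_assoc, one_mul] at h1
    simpa only [mul_assoc] using h1
  have hcpow : ∀ j : ℕ, (A1 * θ * A2) ^ j = A1 * θ ^ j * A2 := by
    intro j
    induction j with
    | zero => rw [pow_zero, pow_zero, mul_one, hA12]
    | succ j ih =>
      rw [pow_succ, ih, pow_succ, show A1 * θ ^ j * A2 * (A1 * θ * A2) = A1 * θ ^ j * (A2 * A1) * θ * A2 by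
        simp only [mul_assoc], hA21, mul_one]
      simp only [mul_assoc]
  have hκn : κ ^ n = 1 := by
    have h1 := hcpow n
    rw [hconj, smul_pow, hθn, mul_one, hA12, ← one_smul k (1 : Module.End k U), smul_smul, mul_one] at h1
    exact smul_one_injective h1
  have hκ1 : κ = 1 := by
    by_contra hk
    have hk0 : κ ≠ 0 := fun h => by rw [h, zero_pow hn.ne_zero] at hκn; exact zero_ne_one hκn
    obtain ⟨u, hu0, hu⟩ := heig κ⁻¹ (by rw [inv_pow, hκn, inv_one]) (fun h => hk (inv_eq_one.1 h))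
    have hpow : ∀ j : ℕ, ((κ • θ) ^ j) u = u := by
      intro j
      induction j with
      | zero => simp
      | succ j ih =>
        rw [pow_succ', Module.End.mul_apply, ih, LinearMap.smul_apply, hu, smul_smul,
          mul_inv_cancel₀ hk0, one_smul]
    have h2 : ∑ i ∈ Finset.range n, (κ • θ) ^ i = 0 := by
      simp only [← hconj, hcpow, ← Finset.sum_mul, ← Finset.mul_sum, hθsum, mul_zero, zero_mul]
    have h3 := LinearMap.congr_fun h2 u
    simp only [LinearMap.sum_apply, hpow, LinearMap.zero_apply, Finset.sum_const, Finset.card_range,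
      ← Nat.cast_smul_eq_nsmul k, smul_eq_zero] at h3
    exact h3.elim hnk hu0
  have hA1cent : A1 ∈ cent θ := by
    show A1 * θ = θ * A1
    have h1 := congrArg (· * A1) hconj
    simp only [hκ1, one_smul, mul_assoc, hA21, mul_one] at h1
    exact h1
  -- orbit sums
  let a' : EY := ⟨a, ha⟩
  let O : Module.End k U := ∑ i ∈ Finset.range n, ρU ((φ ^ i) a')
  have hO : O ∈ cent θ := by
    show O * θ = θ * O
    have hsh : ∑ i ∈ Finset.range n, ρU ((φ ^ (i + 1)) a') = O := by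
      show _ = ∑ i ∈ Finset.range n, ρU ((φ ^ i) a')
      have h1 := Finset.sum_range_succ' (fun i => ρU ((φ ^ i) a')) n
      rw [Finset.sum_range_succ, hφn, ← pow_zero φ] at h1
      exact (add_right_cancel h1).symm
    conv_lhs => rw [← hsh]
    show _ = θ * ∑ i ∈ Finset.range n, ρU ((φ ^ i) a')
    rw [Finset.sum_mul, Finset.mul_sum]
    exact Finset.sum_congr rfl fun i _ => by rw [hθ, ← MulAut.mul_apply, ← pow_succ']
  have hkey : ∑ i ∈ Finset.range n, ρU (φσ ((φ ^ i) a')) = O := by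
    have h1 := hcomm A1 hA1cent O hO
    have h2 : A1 * O = (∑ i ∈ Finset.range n, ρU (φσ ((φ ^ i) a'))) * A1 := by
      rw [Finset.sum_mul, Finset.mul_sum]
      exact Finset.sum_congr rfl fun i _ => hA1 _
    rw [h2] at h1
    have h3 := congrArg (· * A2) h1
    simpa only [mul_assoc, hA12, mul_one] using h3
  by_contra hcon
  push Not at hcon
  have hfixpow : ∀ i < n, i ≠ 0 → a⁻¹ * (x ^ i * a * (x ^ i)⁻¹) ∈ C → False := by
    intro i hi hi0 h
    have hij : ∀ j : ℕ, a⁻¹ * (x ^ (i * j) * a * (x ^ (i * j))⁻¹) ∈ C := by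
      intro j
      induction j with
      | zero => simp
      | succ j ih =>
        have h1 := hS.conj_pow_mem C hCx i _ ih
        rw [show a⁻¹ * (x ^ (i * (j + 1)) * a * (x ^ (i * (j + 1)))⁻¹) =
          a⁻¹ * (x ^ i * a * (x ^ i)⁻¹) *
            (x ^ i * (a⁻¹ * (x ^ (i * j) * a * (x ^ (i * j))⁻¹)) * (x ^ i)⁻¹) by
          rw [show i * (j + 1) = i + i * j by rw [mul_add, mul_one, add_comm], pow_add]; group]
        exact mul_mem h h1
    obtain ⟨j, -, hj⟩ := Nat.exists_mul_mod_eq_one_of_coprime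
      ((hn.coprime_iff_not_dvd.2 fun hd => hi0 (Nat.eq_zero_of_dvd_of_lt hd hi)).symm) hn.one_lt
    have h2 := hij j
    rw [pow_eq_pow_mod (i * j) hxn, hj, pow_one] at h2
    exact haC (hfix a ha h2)
  have hb : ∀ i < n, i ≠ 0 → (φσ a')⁻¹ * φσ ((φ ^ i) a') ∉ C.subgroupOf EY := by
    intro i hi hi0 h
    rw [← map_inv, ← map_mul] at h
    have h4 : (φσ (a'⁻¹ * (φ ^ i) a') : Γ) ∈ C := h
    rw [hφσ] at h4
    have h5 := hσC _ h4
    have h6 : ((a'⁻¹ * (φ ^ i) a' : EY) : Γ) ∈ C := by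
      have e : ∀ y : Γ, σ * (σ * y * σ⁻¹) * σ⁻¹ = σ * y * σ⁻¹ → y = σ * y * σ⁻¹ := fun y hy =>
        calc y = σ⁻¹ * (σ * y * σ⁻¹) * σ := by group
          _ = σ⁻¹ * (σ * (σ * y * σ⁻¹) * σ⁻¹) * σ := by rw [hy]
          _ = _ := by group
      rw [e _ h5]; exact h4
    refine hfixpow i hi hi0 ?_
    rw [← hφpow i a']
    exact h6
  have htr := congrArg (fun A => LinearMap.trace k U (ρU (φσ a')⁻¹ * A)) hkey
  simp only [O, Finset.mul_sum, map_sum, ← map_mul ρU] at htr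
  rw [Finset.sum_eq_single 0 (fun i hi hi0 => hc.trace_eq_zero hl (hb i (Finset.mem_range.1 hi) hi0))
      (fun h => absurd (Finset.mem_range.2 hn.pos) h),
    Finset.sum_eq_zero (fun i hi => hc.trace_eq_zero hl fun h => hcon i (Finset.mem_range.1 hi) (by
      have h' : ((((φσ a')⁻¹ * (φ ^ i) a')⁻¹ : EY) : Γ) ∈ C := inv_mem h
      rw [mul_inv_rev, inv_inv, Subgroup.coe_mul, Subgroup.coe_inv, hφpow, hφσ] at h'
      exact h')),
    pow_zero, MulAut.one_apply, inv_mul_cancel, map_one, LinearMap.trace_one] at htr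
  haveI : Fintype EY := Fintype.ofFinite EY
  exact finrank_ne_zero hs hc.card htr

end Cfsg.Agent.Perm.PQFix
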